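import Cfsg.Agent.M24Classes.Table

/-!
Every element of order 2, 3 or 7 of `Cfsg.M24` is conjugate to one of two representatives.
-/

set_option autoImplicit false

namespace CfsgLib.M24Classes

open Cfsg CfsgLib.Mathieu

/-- The map of a table on the points. -/
def permFun (t : ℕ) (p : GolayPt) : GolayPt := pt (app t (idx p))

/-- A fixed-point-free involution. -/
noncomputable def inv2Free : Equiv.Perm GolayPt := Equiv.ofBijective (permFun tab2Free) (by decide +kernel)

/-- An involution fixing an octad pointwise. -/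
noncomputable def inv2Oct : Equiv.Perm GolayPt := Equiv.ofBijective (permFun tab2Oct) (by decide +kernel)

/-- A fixed-point-free element of order 3. -/
noncomputable def ord3Free : Equiv.Perm GolayPt := Equiv.ofBijective (permFun tab3Free) (by decide +kernel)

/-- An element of order 3 with six fixed points. -/
noncomputable def ord3Six : Equiv.Perm GolayPt := Equiv.ofBijective (permFun tab3Six) (by decide +kernel)

/-- An element of order 7. -/
noncomputable def ord7 : Equiv.Perm GolayPt := Equiv.ofBijective (permFun tab7) (by decide +kernel)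

theorem rep_ofBijective {t : ℕ} (hb : Function.Bijective (permFun t))
    (h : allBelow 24 (fun i => Nat.blt (app t i) 24) = true) :
    Rep enc (Equiv.ofBijective (permFun t) hb) t := fun p => by
  have := Nat.blt_eq.mp (allBelow_iff.mp h _ (idx_lt p))
  exact (idx_pt this).symm

theorem inv2Free_rep : Rep enc inv2Free tab2Free := rep_ofBijective _ (by decide +kernel)
theorem inv2Oct_rep : Rep enc inv2Oct tab2Oct := rep_ofBijective _ (by decide +kernel)
theorem ord3Free_rep : Rep enc ord3Free tab3Free := rep_ofBijective _ (by decide +kernel)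
theorem ord3Six_rep : Rep enc ord3Six tab3Six := rep_ofBijective _ (by decide +kernel)
theorem ord7_rep : Rep enc ord7 tab7 := rep_ofBijective _ (by decide +kernel)

theorem ord7_inv_rep : Rep enc ord7⁻¹ tab7Inv := by
  intro p
  have h := ord7_rep (ord7⁻¹ p)
  rw [perm_apply_inv] at h
  have hinv : allBelow 24 (fun i => app tab7Inv (app tab7 i) == i) = true := by decide +kernel
  have := allBelow_iff.mp hinv _ (enc (ord7⁻¹ p)).isLt
  rwa [beq_iff_eq, h] at this

theorem inv2Free_mem : inv2Free ∈ M24 := mem_M24_of_table inv2Free_rep (by decide +kernel)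
theorem inv2Oct_mem : inv2Oct ∈ M24 := mem_M24_of_table inv2Oct_rep (by decide +kernel)
theorem ord3Free_mem : ord3Free ∈ M24 := mem_M24_of_table ord3Free_rep (by decide +kernel)
theorem ord3Six_mem : ord3Six ∈ M24 := mem_M24_of_table ord3Six_rep (by decide +kernel)
theorem ord7_mem : ord7 ∈ M24 := mem_M24_of_table ord7_rep (by decide +kernel)

/-- Number of fixed points. -/
def fixCount (g : Equiv.Perm GolayPt) : ℕ := (Finset.univ.filter fun p => g p = p).card

theorem fixCount_conj (g h : Equiv.Perm GolayPt) : fixCount (h * g * h⁻¹) = fixCount g := by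
  refine Finset.card_bij (fun p _ => h⁻¹ p) ?_ ?_ ?_
  · intro p hp
    rw [Finset.mem_filter] at hp ⊢
    refine ⟨Finset.mem_univ _, ?_⟩
    apply h.injective
    rw [perm_apply_inv]; exact hp.2
  · exact fun a _ b _ e => h⁻¹.injective e
  · intro q hq
    refine ⟨h q, ?_, perm_inv_apply h q⟩
    rw [Finset.mem_filter] at hq ⊢
    refine ⟨Finset.mem_univ _, ?_⟩
    show h (g (h⁻¹ (h q))) = h q
    rw [perm_inv_apply, hq.2]

/-- Five distinct points can be moved to the first five base points. -/
theorem exists_to_base (v : Fin 5 → GolayPt) (hv : Function.Injective v) :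
    ∃ h ∈ M24, ∀ i : Fin 5, h (v i) = m24Base.getD i.val none :=
  M24_map_five v (fun i => m24Base.getD i.val none) hv (by decide +kernel)

theorem exists_five_fixed (g : Equiv.Perm GolayPt) (h : 5 ≤ fixCount g) :
    ∃ v : Fin 5 → GolayPt, Function.Injective v ∧ ∀ i, g (v i) = v i := by
  obtain ⟨e⟩ : Nonempty (Fin 5 ↪ ↥(Finset.univ.filter fun p => g p = p)) :=
    Function.Embedding.nonempty_of_card_le (by rwa [Fintype.card_coe, Fintype.card_fin])
  exact ⟨fun i => (e i).1, fun a b hab => e.injective (Subtype.ext hab),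
    fun i => (Finset.mem_filter.mp (e i).2).2⟩

theorem classify_five_fixed {n : ℕ} {reps : List ℕ} {certs : List (ℕ × ℕ)} (hn : n ≠ 1)
    (hcs : certsOK reps (stab5.filter (isOrd n)) certs = true)
    {g : Equiv.Perm GolayPt} (hg : g ∈ M24) (ho : orderOf g = n) (h5 : 5 ≤ fixCount g) :
    ConjToRep reps g := by
  obtain ⟨v, hv, hfix⟩ := exists_five_fixed g h5
  obtain ⟨h, hh, hhv⟩ := exists_to_base v hv
  have key := classify_fix hn hcs (g := h * g * h⁻¹) (mul_mem (mul_mem hh hg) (inv_mem hh))
    ((MulAut.conj h).orderOf_eq g |>.trans ho) (fun x hx => by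
      obtain ⟨i, hi, rfl⟩ := List.getElem_of_mem hx
      have hi5 : i < 5 := by simp [m24Base] at hi; omega
      have e := hhv ⟨i, hi5⟩
      rw [List.getElem_take, ← List.getD_eq_getElem _ none, ← e, Equiv.Perm.mul_apply,
        Equiv.Perm.mul_apply, perm_inv_apply, hfix])
  have := key.conj (inv_mem hh)
  rwa [show h⁻¹ * (h * g * h⁻¹) * h⁻¹⁻¹ = g by group] at this

theorem classify_by_tuple {c n : ℕ} {reps : List ℕ} {certs : List (ℕ × ℕ)} (hn : n ≠ 1)
    (hc : isM24Tab c = true)
    (hcs : certsOK reps ((stab4.map (comp c)).filter (isOrd n)) certs = true)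
    {g : Equiv.Perm GolayPt} (hg : g ∈ M24) (ho : orderOf g = n)
    (v : Fin 5 → GolayPt) (hv : Function.Injective v) (f : Fin 4 → Fin 5)
    (hgv : ∀ i : Fin 4, g (v i.castSucc) = v (f i))
    (hf : ∀ i : Fin 4, app c (enc (m24Base.getD i.val none)).val =
      (enc (m24Base.getD (f i).val none)).val) : ConjToRep reps g := by
  obtain ⟨h, hh, hhv⟩ := exists_to_base v hv
  have key := classify_pattern hn hc hcs (g := h * g * h⁻¹) (mul_mem (mul_mem hh hg) (inv_mem hh))
    ((MulAut.conj h).orderOf_eq g |>.trans ho) (fun x hx => by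
      obtain ⟨i, hi, rfl⟩ := List.getElem_of_mem hx
      have hi4 : i < 4 := by simp [m24Base] at hi; omega
      have e := hhv (Fin.castSucc ⟨i, hi4⟩)
      have h2 := hf ⟨i, hi4⟩
      simp only [Fin.val_castSucc] at e h2
      rw [List.getElem_take, ← List.getD_eq_getElem _ none, h2, ← hhv (f ⟨i, hi4⟩), ← hgv ⟨i, hi4⟩, ← e,
        Equiv.Perm.mul_apply, Equiv.Perm.mul_apply, perm_inv_apply])
  have := key.conj (inv_mem hh)
  rwa [show h⁻¹ * (h * g * h⁻¹) * h⁻¹⁻¹ = g by group] at this

theorem card_golayPt : Fintype.card GolayPt = 24 := by simp [ZMod.card]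

theorem certs2_ok : certsOK [tab2Free, tab2Oct] ((stab4.map (comp pattern2)).filter (isOrd 2)) certs2 = true ∧
    certsOK [tab2Free, tab2Oct] (stab5.filter (isOrd 2)) certsFix2 = true := by decide +kernel

theorem certs3_ok : certsOK [tab3Free, tab3Six] ((stab4.map (comp pattern3)).filter (isOrd 3)) certs3 = true ∧
    certsOK [tab3Free, tab3Six] (stab5.filter (isOrd 3)) certsFix3 = true := by decide +kernel

theorem certs7_ok : certsOK [tab7, tab7Inv] ((stab4.map (comp pattern7)).filter (isOrd 7)) certs7 = true := by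
  decide +kernel

theorem ConjToRep.elim₂ {t t' : ℕ} {x x' g : Equiv.Perm GolayPt} (hx : Rep enc x t)
    (hx' : Rep enc x' t') (h : ConjToRep [t, t'] g) :
    (∃ h ∈ M24, h * x * h⁻¹ = g) ∨ (∃ h ∈ M24, h * x' * h⁻¹ = g) := by
  obtain ⟨r, hr, hc⟩ := h
  simp only [List.mem_cons, List.not_mem_nil, or_false] at hr
  rcases hr with rfl | rfl
  · exact Or.inl (hc x hx)
  · exact Or.inr (hc x' hx')

/-- The involutions of `M24`. -/
theorem involution_classes {g : Equiv.Perm GolayPt} (hg : g ∈ M24) (ho : orderOf g = 2) :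
    (∃ h ∈ M24, h * inv2Free * h⁻¹ = g) ∨ (∃ h ∈ M24, h * inv2Oct * h⁻¹ = g) := by
  have hgg : ∀ p, g (g p) = p := fun p => by
    rw [← Equiv.Perm.mul_apply, ← pow_two, ← ho, pow_orderOf_eq_one, Equiv.Perm.one_apply]
  by_cases h5 : 5 ≤ fixCount g
  · exact (classify_five_fixed (by norm_num) certs2_ok.2 hg ho h5).elim₂ inv2Free_rep inv2Oct_rep
  · set M := Finset.univ.filter fun p => ¬ g p = p
    have hM : 20 ≤ M.card := by
      have := Finset.card_filter_add_card_filter_not (s := (Finset.univ : Finset GolayPt)) (fun p => g p = p)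
      rw [Finset.card_univ, card_golayPt] at this
      rw [fixCount] at h5
      show 20 ≤ (Finset.univ.filter fun p => ¬ g p = p).card
      omega
    obtain ⟨a, ha⟩ : M.Nonempty := Finset.card_pos.mp (by omega)
    obtain ⟨c, hc, hcab⟩ := Finset.exists_mem_notMem_of_card_lt_card (s := ({a, g a} : Finset _))
      (t := M) (Finset.card_le_two.trans_lt (by omega))
    obtain ⟨e, -, he⟩ := Finset.exists_mem_notMem_of_card_lt_card
      (s := ({a, g a, c, g c} : Finset _)) (t := M) (Finset.card_le_four.trans_lt (by omega))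
    simp only [M, Finset.mem_filter, Finset.mem_univ, true_and] at ha hc
    simp only [Finset.mem_insert, Finset.mem_singleton, not_or] at hcab he
    refine (classify_by_tuple (by norm_num) (by decide +kernel) certs2_ok.1 hg ho
      ![a, g a, c, g c, e] ?_ ![1, 0, 3, 2] ?_ (by decide +kernel)).elim₂ inv2Free_rep inv2Oct_rep
    · have h1 : a ≠ g c := fun h => hcab.2 (by rw [h, hgg])
      have h2 : g a ≠ g c := fun h => hcab.1 (g.injective h).symm
      intro i j hij
      fin_cases i <;> fin_cases j <;> first | rfl | (simp at hij; grind)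
    · intro i
      fin_cases i <;> simp [hgg]

/-- The elements of order 3 of `M24`. -/
theorem order3_classes {g : Equiv.Perm GolayPt} (hg : g ∈ M24) (ho : orderOf g = 3) :
    (∃ h ∈ M24, h * ord3Free * h⁻¹ = g) ∨ (∃ h ∈ M24, h * ord3Six * h⁻¹ = g) := by
  have hggg : ∀ p, g (g (g p)) = p := fun p => by
    have : g ^ 3 = 1 := by rw [← ho, pow_orderOf_eq_one]
    rw [show g (g (g p)) = (g ^ 3) p from rfl, this, Equiv.Perm.one_apply]
  by_cases h5 : 5 ≤ fixCount g
  · exact (classify_five_fixed (by norm_num) certs3_ok.2 hg ho h5).elim₂ ord3Free_rep ord3Six_rep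
  · set M := Finset.univ.filter fun p => ¬ g p = p
    have hM : 20 ≤ M.card := by
      have := Finset.card_filter_add_card_filter_not (s := (Finset.univ : Finset GolayPt)) (fun p => g p = p)
      rw [Finset.card_univ, card_golayPt] at this
      rw [fixCount] at h5
      show 20 ≤ (Finset.univ.filter fun p => ¬ g p = p).card
      omega
    obtain ⟨a, ha⟩ : M.Nonempty := Finset.card_pos.mp (by omega)
    obtain ⟨d, hd, hdab⟩ := Finset.exists_mem_notMem_of_card_lt_card
      (s := ({a, g a, g (g a)} : Finset _)) (t := M) (Finset.card_le_three.trans_lt (by omega))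
    simp only [M, Finset.mem_filter, Finset.mem_univ, true_and] at ha hd
    simp only [Finset.mem_insert, Finset.mem_singleton, not_or] at hdab
    refine (classify_by_tuple (by norm_num) (by decide +kernel) certs3_ok.1 hg ho
      ![a, g a, g (g a), d, g d] ?_ ![1, 2, 0, 4] ?_ (by decide +kernel)).elim₂ ord3Free_rep ord3Six_rep
    · have h1 : a ≠ g (g a) := fun h => ha (by conv_rhs => rw [← hggg a, ← h])
      have h2 : g d ≠ a := fun h => hdab.2.2 (g.injective (by rw [hggg, h]))
      have h3 : g d ≠ g a := fun h => hdab.1 (g.injective h)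
      have h4 : g d ≠ g (g a) := fun h => hdab.2.1 (g.injective h)
      intro i j hij
      fin_cases i <;> fin_cases j <;> first | rfl | (simp at hij; grind)
    · intro i
      fin_cases i <;> simp [hggg]

/-- The elements of order 7 of `M24`. -/
theorem order7_classes {g : Equiv.Perm GolayPt} (hg : g ∈ M24) (ho : orderOf g = 7) :
    (∃ h ∈ M24, h * ord7 * h⁻¹ = g) ∨ (∃ h ∈ M24, h * ord7⁻¹ * h⁻¹ = g) := by
  obtain ⟨a, ha⟩ : ∃ a, g a ≠ a := by
    by_contra h
    push Not at h
    have : g = 1 := Equiv.ext fun p => h p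
    rw [this, orderOf_one] at ho
    omega
  have hne : ∀ k : ℕ, 0 < k → k < 7 → (g ^ k) a ≠ a := by
    intro k h0 h7 h
    have hk : g ^ Nat.gcd k 7 ∈ MulAction.stabilizer (Equiv.Perm GolayPt) a := by
      have h1 : g ^ k ∈ MulAction.stabilizer (Equiv.Perm GolayPt) a := h
      have h2 : g ^ (7 : ℕ) ∈ MulAction.stabilizer (Equiv.Perm GolayPt) a := by
        rw [← ho, pow_orderOf_eq_one]; exact one_mem _
      rw [← zpow_natCast, Nat.gcd_eq_gcd_ab, zpow_add, zpow_mul, zpow_mul, zpow_natCast, zpow_natCast]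
      exact mul_mem (zpow_mem h1 _) (zpow_mem h2 _)
    rw [show Nat.gcd k 7 = 1 by
      interval_cases k <;> rfl, pow_one] at hk
    exact ha hk
  refine (classify_by_tuple (by norm_num) (by decide +kernel) certs7_ok hg ho
    (fun i => (g ^ i.val) a) ?_ (fun i => i.succ) ?_ (by decide +kernel)).elim₂ ord7_rep ord7_inv_rep
  · intro i j hij
    have key : ∀ i j : Fin 5, i.val < j.val → (g ^ i.val) a ≠ (g ^ j.val) a := by
      intro i j hlt h
      rw [show j.val = i.val + (j.val - i.val) by omega, pow_add, Equiv.Perm.mul_apply] at h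
      exact hne (j.val - i.val) (by omega) (by omega) ((g ^ i.val).injective h).symm
    rcases lt_trichotomy i.val j.val with h | h | h
    · exact absurd hij (key i j h)
    · exact Fin.ext h
    · exact absurd hij.symm (key j i h)
  · intro i
    simp [pow_succ']

theorem fixCount_reps : fixCount inv2Free = 0 ∧ fixCount inv2Oct = 8 ∧ fixCount ord3Free = 0 ∧
    fixCount ord3Six = 6 := by
  have key : ∀ {σ : Equiv.Perm GolayPt} {t : ℕ}, Rep enc σ t → fixCount σ =
      ((Finset.univ : Finset GolayPt).filter fun p => app t (enc p).val == (enc p).val).card := by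
    intro σ t h
    refine congrArg Finset.card (Finset.filter_congr fun p _ => ?_)
    rw [h p, beq_iff_eq, Fin.val_inj, enc.injective.eq_iff]
  rw [key inv2Free_rep, key inv2Oct_rep, key ord3Free_rep, key ord3Six_rep]
  decide +kernel

theorem conj_inv2_of_fix {g : Equiv.Perm GolayPt} (hg : g ∈ M24) (ho : orderOf g = 2) :
    (fixCount g = 0 ∧ ∃ h ∈ M24, h * inv2Free * h⁻¹ = g) ∨
      (fixCount g = 8 ∧ ∃ h ∈ M24, h * inv2Oct * h⁻¹ = g) := by
  rcases involution_classes hg ho with ⟨h, hh, rfl⟩ | ⟨h, hh, rfl⟩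
  · exact Or.inl ⟨by rw [fixCount_conj, fixCount_reps.1], h, hh, rfl⟩
  · exact Or.inr ⟨by rw [fixCount_conj, fixCount_reps.2.1], h, hh, rfl⟩

theorem conj_ord3_of_fix {g : Equiv.Perm GolayPt} (hg : g ∈ M24) (ho : orderOf g = 3) :
    (fixCount g = 0 ∧ ∃ h ∈ M24, h * ord3Free * h⁻¹ = g) ∨
      (fixCount g = 6 ∧ ∃ h ∈ M24, h * ord3Six * h⁻¹ = g) := by
  rcases order3_classes hg ho with ⟨h, hh, rfl⟩ | ⟨h, hh, rfl⟩
  · exact Or.inl ⟨by rw [fixCount_conj, fixCount_reps.2.2.1], h, hh, rfl⟩
  · exact Or.inr ⟨by rw [fixCount_conj, fixCount_reps.2.2.2], h, hh, rfl⟩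

theorem orderOf_reps : orderOf inv2Free = 2 ∧ orderOf inv2Oct = 2 ∧ orderOf ord3Free = 3 ∧
    orderOf ord3Six = 3 ∧ orderOf ord7 = 7 := by
  have key : ∀ {σ : Equiv.Perm GolayPt} {t n : ℕ}, Rep enc σ t → n.Prime → isOrd n t = true →
      orderOf σ = n := by
    intro σ t n h hn ho
    rw [isOrd, Bool.and_eq_true, allBelow_iff, Bool.not_eq_true', Bool.eq_false_iff] at ho
    have := Fact.mk hn
    refine orderOf_eq_prime (Equiv.ext fun p => enc.injective (Fin.ext ?_)) fun h1 => ho.2 ?_
    · rw [← appIter_eq h n p]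
      simpa using ho.1 _ (enc p).isLt
    · rw [allBelow_iff]
      intro i hi
      have := h (enc.symm ⟨i, hi⟩)
      simpa [h1] using this
  exact ⟨key inv2Free_rep Nat.prime_two (by decide +kernel), key inv2Oct_rep Nat.prime_two (by decide +kernel),
    key ord3Free_rep Nat.prime_three (by decide +kernel), key ord3Six_rep Nat.prime_three (by decide +kernel),
    key ord7_rep (by norm_num) (by decide +kernel)⟩

end CfsgLib.M24Classes
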