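import Cfsg.Agent.Mathieu.Code
import Cfsg.Agent.M24Classes.ConfigData
import Cfsg.Agent.M24Classes.PushData

/-!
Checks of the literal lists of trios and sextets.
-/

set_option autoImplicit false

namespace CfsgLib.M24Classes

open CfsgLib.Mathieu

/-- Code words of weight `w`, as masks. -/
def codeOfWeight (w : ℕ) : List ℕ := ((List.range 4096).map codeMask).filter fun M => wt M == w

theorem codeOfWeight_eight : codeOfWeight 8 = octList := by decide +kernel

/-- A list is strictly increasing. -/
def increasing : List ℕ → Bool
  | a :: b :: rest => Nat.blt a b && increasing (b :: rest)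
  | _ => true

/-- All trios: the octad through the extra point, the one through the least other point, the rest. -/
def trioList : List (List ℕ) :=
  trioData.flatMap fun e => e.2.map fun p => [e.1, p, (16777215 ^^^ e.1) ^^^ p]

/-- The least zero bit among the low bits of `o`. -/
def lowOut (o : ℕ) : ℕ := (o + 1) &&& (16777215 ^^^ o)

/-- Shape of one entry. -/
def trioOK : List ℕ → Bool
  | [o, p, r] => isCode o && wt o == 8 && o.testBit 23 && isCode p && wt p == 8 && isCode r && wt r == 8
      && (o &&& p == 0) && (o &&& r == 0) && (p &&& r == 0) && !(p &&& lowOut o == 0)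
      && wt (lowOut o) == 1 && (o &&& lowOut o == 0)
  | _ => false

theorem trioList_ok : ∀ l ∈ trioList, trioOK l = true := by
  have : trioList.all trioOK = true := by decide +kernel
  exact List.all_eq_true.mp this

/-- The key of an entry. -/
def trioKey : List ℕ → ℕ
  | o :: p :: _ => o * 16777216 + p
  | _ => 0

/-- The partners of `o` in a list are among `ps`. -/
def partnersIn (o low : ℕ) (ps : List ℕ) : List ℕ → Bool
  | [] => true
  | p :: rest =>
    (if Nat.land o p = 0 then (if Nat.land p low = 0 then true else ps.contains p) else true) &&
      partnersIn o low ps rest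

theorem partnersIn_spec {o low : ℕ} {ps : List ℕ} : ∀ {l : List ℕ}, partnersIn o low ps l = true →
    ∀ p ∈ l, o &&& p = 0 → p &&& low ≠ 0 → p ∈ ps
  | [], _, p, hp, _, _ => absurd hp List.not_mem_nil
  | q :: l, h, p, hp, h1, h2 => by
    simp only [partnersIn, Bool.and_eq_true] at h
    rcases List.mem_cons.mp hp with e | hp
    · subst e
      have h3 := h.1
      rw [if_pos (show Nat.land o p = 0 from h1), if_neg (show ¬ Nat.land p low = 0 from h2)] at h3
      exact List.contains_iff_mem.mp h3
    · exact partnersIn_spec h.2 p hp h1 h2

/-- Every octad through the extra point has an entry with all its partners. -/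
theorem trioData_complete : (octList.filter fun o => o.testBit 23).all (fun o =>
    trioData.any fun e => e.1 == o && partnersIn o (lowOut o) e.2 octList) = true := by decide +kernel

theorem trioKeys_increasing : increasing (trioList.map trioKey) = true := by decide +kernel

theorem lowOut_ok : (octList.filter (fun o => o.testBit 23)).all
    (fun o => wt (lowOut o) == 1 && (o &&& lowOut o == 0)) = true := by decide +kernel

/-- All unordered pairs of entries. -/
def pairsAll (P : ℕ → ℕ → Bool) : List ℕ → Bool
  | [] => true
  | a :: l => l.all (P a) && pairsAll P l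

/-- Bit counts of the bytes. -/
def byteCounts : ℕ := 95125173855764218123276304889944061997689682402263585766959741291920687686033329201817409157123347502415384089435969498586180241031507595463600295898153685276653211633572815512294064538494957912327413386667662218713394765509704508661031522276467630197481635010039778342554499416459730172574551513689147646224

/-- Bit count of a byte. -/
def byteWt (b : ℕ) : ℕ := Nat.land (byteCounts >>> (4 * b)) 15

/-- Bit count of a 24-bit number, by bytes. -/
def fastWt (M : ℕ) : ℕ :=
  byteWt (M % 256) + byteWt (M / 256 % 256) + byteWt (M / 65536 % 256)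

theorem pop_split : ∀ a b M : ℕ, pop (a + b) M = pop a M + pop b (M / 2 ^ a)
  | 0, b, M => by simp [pop]
  | a + 1, b, M => by
    rw [show a + 1 + b = (a + b) + 1 by omega]
    simp only [pop]
    rw [pop_split a b (M / 2), Nat.div_div_eq_div_mul, ← pow_succ']
    omega

theorem pop_mod : ∀ a M : ℕ, pop a M = pop a (M % 2 ^ a)
  | 0, _ => rfl
  | a + 1, M => by
    simp only [pop]
    rw [pow_succ', Nat.mod_mul_right_div_self, ← pop_mod a (M / 2), Nat.mod_mul_right_mod]

theorem pop_byte : ∀ b < 256, pop 8 b = byteWt b := by decide +kernel

theorem fastWt_eq (M : ℕ) : fastWt M = wt M := by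
  have key : ∀ N, pop 8 N = byteWt (N % 256) := fun N => by
    rw [pop_mod 8 N]; exact pop_byte _ (Nat.mod_lt _ (by norm_num))
  rw [wt, show (24 : ℕ) = 8 + (8 + 8) from rfl, pop_split, pop_split, key, key, key, Nat.div_div_eq_div_mul,
    fastWt, show (2 : ℕ) ^ 8 = 256 from rfl, Nat.add_assoc]

/-- Shape of a sextet entry. -/
def sextetOK (l : List ℕ) : Bool :=
  l.length == 6 && (l.getD 0 0).testBit 23 && l.all (fun M => Nat.blt M 16777216 && fastWt M == 4) &&
    pairsAll (fun a b => a &&& b == 0) l && l.all (fun M => M == l.getD 0 0 || isCode (l.getD 0 0 ||| M))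

theorem sextetData_ok : ∀ l ∈ sextetData, sextetOK l = true := by
  have : sextetData.all sextetOK = true := by decide +kernel
  exact List.all_eq_true.mp this

theorem sextetData_keys : increasing (sextetData.map fun l => l.getD 0 0) = true ∧
    sextetData.length = 1771 := by decide +kernel

end CfsgLib.M24Classes
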