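import Cfsg.Prelude.Def_SporadicCombinatorics
import Cfsg.Agent.Mathieu.M24Actions
import Cfsg.Agent.M24Classes.ConfigChecks

/-!
Complete lists of octads, dodecads, trios and sextets as masks, and the number of configurations
fixed by a permutation given by a table.
-/

set_option autoImplicit false

namespace CfsgLib.M24Classes

open Cfsg CfsgLib.Mathieu
open scoped Pointwise

seal codeOfWeight trioList trioData sextetData octList

theorem mem_codeOfWeight {w M : ℕ} : M ∈ codeOfWeight w ↔ isCode M = true ∧ wt M = w := by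
  simp only [codeOfWeight, List.mem_filter, List.mem_map, List.mem_range, beq_iff_eq]
  constructor
  · rintro ⟨⟨m, -, rfl⟩, h⟩; exact ⟨isCode_codeMask m, h⟩
  · rintro ⟨h, hw⟩
    obtain ⟨m, hm, rfl⟩ := exists_codeMask h
    exact ⟨⟨m, hm, rfl⟩, hw⟩

theorem mem_octList {M : ℕ} : M ∈ octList ↔ isCode M = true ∧ wt M = 8 := by
  rw [← codeOfWeight_eight]; exact mem_codeOfWeight

theorem nodup_codeMasks (n : ℕ) (hn : n ≤ 4096) : ((List.range n).map codeMask).Nodup :=
  List.nodup_range.map_on fun _ ha _ hb h =>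
    codeMask_injOn (lt_of_lt_of_le (List.mem_range.mp ha) hn) (lt_of_lt_of_le (List.mem_range.mp hb) hn) h

theorem nodup_codeOfWeight (w : ℕ) : (codeOfWeight w).Nodup := by
  unfold codeOfWeight
  exact (nodup_codeMasks _ le_rfl).filter _

theorem maskOf_setOf24 {M : ℕ} (h : M < 2 ^ 24) : maskOf (setOf24 M) = M :=
  setOf24_inj (maskOf_lt _) h (setOf24_maskOf _)

theorem wordsOfWeight_eq_image (w : ℕ) :
    wordsOfWeight (golayCode : Set (GolayPt → ZMod 2)) w = setOf24 '' {M | M ∈ codeOfWeight w} := by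
  ext s
  rw [mem_wordsOfWeight_iff]
  simp only [Set.mem_image, Set.mem_ofPred_eq, mem_codeOfWeight]
  constructor
  · exact fun h => ⟨maskOf s, h, setOf24_maskOf s⟩
  · rintro ⟨M, hM, rfl⟩; rwa [maskOf_setOf24 (isCode_lt hM.1)]

theorem push_lt {σ : Equiv.Perm GolayPt} {t : ℕ} (h : Rep enc σ t) (M : ℕ) :
    push t 24 M < 2 ^ 24 := by
  apply Nat.lt_pow_two_of_testBit
  intro i hi
  rw [Bool.eq_false_iff]
  intro hb
  obtain ⟨j, hj, -, e⟩ := (testBit_push t 24 M i).mp hb
  have := h (pt j)
  change app t (idx (pt j)) = idx (σ (pt j)) at this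
  rw [idx_pt hj, e] at this
  have := idx_lt (σ (pt j))
  omega

theorem smul_set_eq_image (g : Equiv.Perm GolayPt) (s : Finset GolayPt) : g • s = s.image g := rfl

theorem smul_setOf24 {g : Equiv.Perm GolayPt} {t : ℕ} (h : Rep enc g t) (M : ℕ) :
    g • setOf24 M = setOf24 (push t 24 M) := by rw [smul_set_eq_image, image_setOf24 h]

/-- The fixed words of weight `w`. -/
theorem ncard_fixed_words {g : Equiv.Perm GolayPt} {t : ℕ} (h : Rep enc g t) (w : ℕ) :
    {s : Finset GolayPt | s ∈ wordsOfWeight (golayCode : Set (GolayPt → ZMod 2)) w ∧ g • s = s}.ncard =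
      ((codeOfWeight w).filter fun M => push t 24 M == M).length := by
  have heq : {s : Finset GolayPt | s ∈ wordsOfWeight (golayCode : Set (GolayPt → ZMod 2)) w ∧ g • s = s}
      = setOf24 '' {M | M ∈ (codeOfWeight w).filter fun M => push t 24 M == M} := by
    ext s
    rw [wordsOfWeight_eq_image]
    simp only [Set.mem_image, Set.mem_ofPred_eq, List.mem_filter, beq_iff_eq]
    constructor
    · rintro ⟨⟨M, hM, rfl⟩, hg⟩
      refine ⟨M, ⟨hM, setOf24_inj (push_lt h M) (isCode_lt (mem_codeOfWeight.mp hM).1) ?_⟩, rfl⟩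
      rw [← smul_setOf24 h, hg]
    · rintro ⟨M, ⟨hM, hp⟩, rfl⟩
      exact ⟨⟨M, hM, rfl⟩, by rw [smul_setOf24 h, hp]⟩
  rw [heq, Set.InjOn.ncard_image (fun a ha b hb e => ?_)]
  · rw [← List.coe_toFinset, Set.ncard_coe_finset,
      List.toFinset_card_of_nodup ((nodup_codeOfWeight w).filter _)]
  · exact setOf24_inj (isCode_lt (mem_codeOfWeight.mp (List.mem_filter.mp ha).1).1)
      (isCode_lt (mem_codeOfWeight.mp (List.mem_filter.mp hb).1).1) e

/-- A list of masks as a family of sets. -/
def famSet (l : List ℕ) : Finset (Finset GolayPt) := (l.map setOf24).toFinset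

/-- A table maps the members of the list among themselves. -/
def fixesFam (t : ℕ) (l : List ℕ) : Bool := l.all fun M => l.contains (push t 24 M)

theorem smul_famSet_iff {g : Equiv.Perm GolayPt} {t : ℕ} (h : Rep enc g t) {l : List ℕ}
    (hl : ∀ M ∈ l, M < 2 ^ 24) : g • famSet l = famSet l ↔ fixesFam t l = true := by
  have himg : g • famSet l = (famSet l).image (fun s => s.image g) := rfl
  have hinj : Function.Injective fun s : Finset GolayPt => s.image g := Finset.image_injective g.injective
  rw [himg, fixesFam, List.all_eq_true]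
  constructor
  · intro e M hM
    have : (setOf24 M).image g ∈ famSet l := by
      rw [← e]
      exact Finset.mem_image_of_mem _ (List.mem_toFinset.mpr (List.mem_map_of_mem hM))
    rw [image_setOf24 h, famSet, List.mem_toFinset, List.mem_map] at this
    obtain ⟨N, hN, hNe⟩ := this
    rw [List.contains_iff_mem, ← setOf24_inj (hl N hN) (push_lt h M) hNe]
    exact hN
  · intro e
    refine Finset.eq_of_subset_of_card_le (fun s hs => ?_)
      (Finset.card_image_of_injective _ hinj).ge
    obtain ⟨u, hu, rfl⟩ := Finset.mem_image.mp hs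
    obtain ⟨M, hM, rfl⟩ := List.mem_map.mp (List.mem_toFinset.mp hu)
    rw [image_setOf24 h]
    exact List.mem_toFinset.mpr (List.mem_map_of_mem (List.contains_iff_mem.mp (e M hM)))

theorem mem_famSet {l : List ℕ} {s : Finset GolayPt} : s ∈ famSet l ↔ ∃ M ∈ l, setOf24 M = s := by
  simp [famSet]

theorem ncard_fixed_fam {L : List (List ℕ)} {X : Set (Finset (Finset GolayPt))}
    (hX : X = famSet '' {l | l ∈ L}) (hnd : L.Nodup) (hinj : Set.InjOn famSet {l | l ∈ L})
    (hlt : ∀ l ∈ L, ∀ M ∈ l, M < 2 ^ 24) {g : Equiv.Perm GolayPt} {t : ℕ} (h : Rep enc g t) :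
    {F : Finset (Finset GolayPt) | F ∈ X ∧ g • F = F}.ncard = (L.filter (fixesFam t)).length := by
  have heq : {F : Finset (Finset GolayPt) | F ∈ X ∧ g • F = F} =
      famSet '' {l | l ∈ L.filter (fixesFam t)} := by
    ext F
    subst hX
    simp only [Set.mem_image, Set.mem_ofPred_eq, List.mem_filter]
    constructor
    · rintro ⟨⟨l, hl, rfl⟩, hg⟩
      exact ⟨l, ⟨hl, (smul_famSet_iff h (hlt l hl)).mp hg⟩, rfl⟩
    · rintro ⟨l, ⟨hl, hp⟩, rfl⟩
      exact ⟨⟨l, hl, rfl⟩, (smul_famSet_iff h (hlt l hl)).mpr hp⟩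
  rw [heq, Set.InjOn.ncard_image (s := {l | l ∈ L.filter (fixesFam t)}) (fun a ha b hb e =>
      hinj (List.mem_filter.mp ha).1 (List.mem_filter.mp hb).1 e),
    show {l | l ∈ L.filter (fixesFam t)} = ↑(L.filter (fixesFam t)).toFinset from
      (List.coe_toFinset _).symm, Set.ncard_coe_finset, List.toFinset_card_of_nodup (hnd.filter _)]

theorem increasing_nodup : ∀ {l : List ℕ}, increasing l = true → l.Nodup := by
  have key : ∀ (l : List ℕ) (a : ℕ), increasing (a :: l) = true → ∀ x ∈ l, a < x := by
    intro l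
    induction l with
    | nil => exact fun _ _ x hx => absurd hx List.not_mem_nil
    | cons b l ih =>
      intro a h x hx
      simp only [increasing, Bool.and_eq_true, Nat.blt_eq] at h
      rcases List.mem_cons.mp hx with rfl | hx
      · exact h.1
      · exact h.1.trans (ih b h.2 x hx)
  intro l
  induction l with
  | nil => exact fun _ => List.nodup_nil
  | cons a l ih =>
    intro h
    refine List.nodup_cons.mpr ⟨fun hm => lt_irrefl a (key l a h a hm), ?_⟩
    cases l with
    | nil => exact List.nodup_nil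
    | cons b l => exact ih (Bool.and_eq_true_iff.mp h).2

/-! ### Trios -/

theorem trioList_nodup : trioList.Nodup :=
  List.Nodup.of_map trioKey (increasing_nodup trioKeys_increasing)

theorem disjoint_of_and {a b : ℕ} (h : a &&& b = 0) : Disjoint (setOf24 a) (setOf24 b) := by
  rw [Finset.disjoint_iff_inter_eq_empty, ← setOf24_and, h, setOf24_zero]

theorem and_eq_zero_of_disjoint {a b : ℕ} (ha : a < 2 ^ 24) (h : Disjoint (setOf24 a) (setOf24 b)) :
    a &&& b = 0 :=
  setOf24_inj (Nat.lt_of_le_of_lt Nat.and_le_left ha) (Nat.two_pow_pos _)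
    (by rw [setOf24_and, setOf24_zero, Finset.disjoint_iff_inter_eq_empty.mp h])

theorem setOf24_compl2 {a b : ℕ} (h : a &&& b = 0) :
    setOf24 ((16777215 ^^^ a) ^^^ b) = (setOf24 a ∪ setOf24 b)ᶜ := by
  have hd := Finset.disjoint_left.mp (disjoint_of_and h)
  ext p
  have h1 := @hd p
  simp only [setOf24_xor, setOf24_full, Finset.mem_symmDiff, Finset.mem_compl, Finset.mem_union,
    Finset.mem_univ, true_and]
  tauto

theorem trios_eq_image : trios = famSet '' {l | l ∈ trioList} := by
  ext T
  simp only [Set.mem_image, Set.mem_ofPred_eq]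
  constructor
  · rintro ⟨h3, hoct, hdis⟩
    obtain ⟨A, B, C, hAB, hAC, hBC, rfl⟩ := Finset.card_eq_three.mp h3
    have hA := hoct A (by simp); have hB := hoct B (by simp); have hC := hoct C (by simp)
    have dAB := hdis A (by simp) B (by simp) hAB
    have dAC := hdis A (by simp) C (by simp) hAC
    have dBC := hdis B (by simp) C (by simp) hBC
    have hcover : A ∪ B ∪ C = Finset.univ := by
      apply Finset.eq_univ_of_card
      rw [Finset.card_union_of_disjoint (Finset.disjoint_union_left.mpr ⟨dAC, dBC⟩),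
        Finset.card_union_of_disjoint dAB, hA.2, hB.2, hC.2]
      simp [ZMod.card]
    have main : ∀ A B C : Finset GolayPt, A ∈ octads → B ∈ octads → Disjoint A B →
        C = (A ∪ B)ᶜ → none ∈ A → (∃ x ∈ B, x ∈ setOf24 (lowOut (maskOf A))) →
        ∃ l ∈ trioList, famSet l = {A, B, C} := by
      intro A B C hA hB hd hC hn ⟨x, hxB, hxlow⟩
      have hAm : isCode (maskOf A) = true ∧ wt (maskOf A) = 8 := (mem_wordsOfWeight_iff A 8).mp hA
      have hBm : isCode (maskOf B) = true ∧ wt (maskOf B) = 8 := (mem_wordsOfWeight_iff B 8).mp hB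
      have hA23 : (maskOf A).testBit 23 = true := by
        have := hn; rw [← setOf24_maskOf A, mem_setOf24] at this; exact this
      have h0 := List.all_eq_true.mp trioData_complete _
        (List.mem_filter.mpr ⟨mem_octList.mpr hAm, hA23⟩)
      obtain ⟨e, he, hcond⟩ := List.any_eq_true.mp h0
      rw [Bool.and_eq_true, beq_iff_eq] at hcond
      have hz : maskOf A &&& maskOf B = 0 := and_eq_zero_of_disjoint (maskOf_lt _)
        (by rwa [setOf24_maskOf, setOf24_maskOf])
      have hB' := partnersIn_spec hcond.2 (maskOf B) (mem_octList.mpr hBm) hz fun h => by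
        have hd2 := Finset.disjoint_left.mp (disjoint_of_and h)
        rw [setOf24_maskOf] at hd2
        exact hd2 hxB hxlow
      refine ⟨[e.1, maskOf B, (16777215 ^^^ e.1) ^^^ maskOf B], ?_, ?_⟩
      · unfold trioList
        exact List.mem_flatMap.mpr ⟨e, he, List.mem_map.mpr ⟨_, hB', rfl⟩⟩
      rw [hcond.1]
      simp [famSet, setOf24_maskOf, setOf24_compl2 hz, hC]
    have key : ∀ A B C : Finset GolayPt, A ∈ octads → B ∈ octads → C ∈ octads → Disjoint A B →
        Disjoint A C → Disjoint B C → A ∪ B ∪ C = Finset.univ → none ∈ A →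
        ∃ l ∈ trioList, famSet l = {A, B, C} := by
      intro A B C hA hB hC dAB dAC dBC hcov hn
      have hlowA : ∀ o ∈ octList.filter (fun o => o.testBit 23),
          wt (lowOut o) = 1 ∧ o &&& lowOut o = 0 := fun o ho => by
        have := List.all_eq_true.mp lowOut_ok o ho
        simpa only [Bool.and_eq_true, beq_iff_eq] using this
      have hA23 : (maskOf A).testBit 23 = true := by
        have := hn; rw [← setOf24_maskOf A, mem_setOf24] at this; exact this
      obtain ⟨hw1, hz⟩ := hlowA _ (List.mem_filter.mpr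
        ⟨mem_octList.mpr ((mem_wordsOfWeight_iff A 8).mp hA), hA23⟩)
      obtain ⟨x, hx⟩ : (setOf24 (lowOut (maskOf A))).Nonempty := Finset.card_pos.mp (by
        rw [card_setOf24, hw1]; norm_num)
      have hxA : x ∉ A := by
        have := Finset.disjoint_left.mp (disjoint_of_and hz)
        rw [setOf24_maskOf] at this
        exact fun h => this h hx
      have hxBC : x ∈ B ∨ x ∈ C := by
        have := Finset.mem_univ x
        rw [← hcov] at this
        simp only [Finset.mem_union] at this
        rcases this with (h | h) | h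
        · exact absurd h hxA
        · exact Or.inl h
        · exact Or.inr h
      have hd : ∀ {s t : Finset GolayPt}, Disjoint s t → ∀ p, p ∈ s → p ∉ t :=
        fun h p hp => Finset.disjoint_left.mp h hp
      rcases hxBC with hxB | hxC
      · refine main A B C hA hB dAB ?_ hn ⟨x, hxB, hx⟩
        ext p
        have := Finset.mem_univ p
        rw [← hcov] at this
        simp only [Finset.mem_union, Finset.mem_compl] at this ⊢
        refine ⟨fun hc hab => hab.elim (fun h => hd dAC p h hc) (fun h => hd dBC p h hc), fun hnot => ?_⟩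
        exact this.elim (fun h => absurd h hnot) id
      · obtain ⟨l, hl, e⟩ := main A C B hA hC dAC (by
          ext p
          have := Finset.mem_univ p
          rw [← hcov] at this
          simp only [Finset.mem_union, Finset.mem_compl] at this ⊢
          refine ⟨fun hb hac => hac.elim (fun h => hd dAB p h hb) (fun h => hd dBC p hb h), fun hnot => ?_⟩
          rcases this with (h | h) | h
          exacts [absurd (Or.inl h) hnot, h, absurd (Or.inr h) hnot]) hn ⟨x, hxC, hx⟩
        exact ⟨l, hl, by rw [e, Finset.pair_comm C B]⟩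
    have hn : (none : GolayPt) ∈ A ∪ B ∪ C := hcover ▸ Finset.mem_univ _
    simp only [Finset.mem_union] at hn
    rcases hn with (hn | hn) | hn
    · exact key A B C hA hB hC dAB dAC dBC hcover hn
    · obtain ⟨l, hl, e⟩ := key B A C hB hA hC dAB.symm dBC dAC (by rw [← hcover, Finset.union_comm B A]) hn
      exact ⟨l, hl, by rw [e, Finset.insert_comm]⟩
    · obtain ⟨l, hl, e⟩ := key C A B hC hA hB dAC.symm dBC.symm dAB
        (by rw [← hcover, Finset.union_assoc, Finset.union_comm C (A ∪ B)]) hn
      exact ⟨l, hl, by rw [e, Finset.insert_comm, Finset.pair_comm C B]⟩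
  · rintro ⟨l, hl, rfl⟩
    have h := trioList_ok l hl
    match l, h with
    | [o, p, r], h =>
      simp only [trioOK, Bool.and_eq_true, beq_iff_eq] at h
      obtain ⟨⟨⟨⟨⟨⟨⟨⟨⟨⟨⟨⟨ho, ho8⟩, -⟩, hp⟩, hp8⟩, hr⟩, hr8⟩, hop⟩, hor⟩, hpr⟩, -⟩, -⟩, -⟩ := h
      have o1 : setOf24 o ∈ octads := setOf24_mem_wordsOfWeight ho ho8
      have o2 : setOf24 p ∈ octads := setOf24_mem_wordsOfWeight hp hp8
      have o3 : setOf24 r ∈ octads := setOf24_mem_wordsOfWeight hr hr8
      have d1 := disjoint_of_and hop
      have d2 := disjoint_of_and hor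
      have d3 := disjoint_of_and hpr
      have ne : ∀ {a b : Finset GolayPt}, a ∈ octads → Disjoint a b → a ≠ b := by
        intro a b ha hd e
        subst e
        rw [disjoint_self, Finset.bot_eq_empty] at hd
        have := ha.2
        rw [hd] at this
        simp at this
      have n1 := ne o1 d1; have n2 := ne o1 d2; have n3 := ne o2 d3
      have hT : famSet [o, p, r] = {setOf24 o, setOf24 p, setOf24 r} := by simp [famSet]
      rw [hT]
      refine ⟨Finset.card_eq_three.mpr ⟨_, _, _, n1, n2, n3, rfl⟩, ?_, ?_⟩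
      · intro x hx
        simp only [Finset.mem_insert, Finset.mem_singleton] at hx
        rcases hx with rfl | rfl | rfl <;> assumption
      · intro x hx y hy hne
        simp only [Finset.mem_insert, Finset.mem_singleton] at hx hy
        rcases hx with rfl | rfl | rfl <;> rcases hy with rfl | rfl | rfl <;>
          first | exact absurd rfl hne | assumption | (apply Disjoint.symm; assumption)

theorem trioList_lt : ∀ l ∈ trioList, ∀ M ∈ l, M < 2 ^ 24 := by
  intro l hl M hM
  match l, trioList_ok l hl with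
  | [o, p, r], h =>
    simp only [trioOK, Bool.and_eq_true, beq_iff_eq] at h
    obtain ⟨⟨⟨⟨⟨⟨⟨⟨⟨⟨⟨⟨ho, -⟩, -⟩, hp⟩, -⟩, hr⟩, -⟩, -⟩, -⟩, -⟩, -⟩, -⟩, -⟩ := h
    simp only [List.mem_cons, List.not_mem_nil, or_false] at hM
    rcases hM with rfl | rfl | rfl
    exacts [isCode_lt ho, isCode_lt hp, isCode_lt hr]

theorem famSet_mem_of_eq {l l' : List ℕ} (hl : ∀ M ∈ l, M < 2 ^ 24) (hl' : ∀ M ∈ l', M < 2 ^ 24)
    (e : famSet l = famSet l') {M : ℕ} (hM : M ∈ l) : M ∈ l' := by
  have : setOf24 M ∈ famSet l' := e ▸ mem_famSet.mpr ⟨M, hM, rfl⟩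
  obtain ⟨N, hN, hNe⟩ := mem_famSet.mp this
  rwa [← setOf24_inj (hl' N hN) (hl M hM) hNe]

theorem bit_and {a b k : ℕ} (h : a &&& b = 0) (ha : a.testBit k = true) : b.testBit k = false := by
  have := congrArg (fun n => n.testBit k) h
  simpa [Nat.testBit_and, ha] using this

theorem trioList_injOn : Set.InjOn famSet {l | l ∈ trioList} := by
  intro l hl l' hl' e
  match l, l', trioList_ok l hl, trioList_ok l' hl', trioList_lt l hl, trioList_lt l' hl' with
  | [o, p, r], [o', p', r'], h, h', hlt, hlt' =>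
    simp only [trioOK, Bool.and_eq_true, beq_iff_eq, Bool.not_eq_true', beq_eq_false_iff_ne] at h h'
    obtain ⟨⟨⟨⟨⟨⟨⟨⟨⟨⟨⟨⟨-, -⟩, ho⟩, -⟩, -⟩, -⟩, -⟩, hop⟩, hor⟩, hpr⟩, hlp⟩, hw⟩, hlz⟩ := h
    obtain ⟨⟨⟨⟨⟨⟨⟨⟨⟨⟨⟨⟨-, -⟩, ho'⟩, -⟩, -⟩, -⟩, -⟩, hop'⟩, hor'⟩, hpr'⟩, hlp'⟩, hw'⟩, hlz'⟩ := h'
    have mo := famSet_mem_of_eq hlt hlt' e (M := o) (by simp)
    simp only [List.mem_cons, List.not_mem_nil, or_false] at mo
    have eo : o = o' := by
      rcases mo with h | h | h
      · exact h
      · rw [← h] at hop'; have := bit_and hop' ho'; rw [ho] at this; exact absurd this (by simp)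
      · rw [← h] at hor'; have := bit_and hor' ho'; rw [ho] at this; exact absurd this (by simp)
    subst eo
    have mp := famSet_mem_of_eq hlt hlt' e (M := p) (by simp)
    simp only [List.mem_cons, List.not_mem_nil, or_false] at mp
    have ep : p = p' := by
      rcases mp with h | h | h
      · rw [h] at hlp; exact absurd hlz hlp
      · exact h
      · exfalso
        subst h
        obtain ⟨x, hx⟩ := Finset.card_eq_one.mp ((card_setOf24 (lowOut o)).trans hw)
        have key : ∀ q : ℕ, q < 2 ^ 24 → q &&& lowOut o ≠ 0 → x ∈ setOf24 q := by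
          intro q hq hne
          by_contra hmem
          exact hne (and_eq_zero_of_disjoint hq (by
            rw [hx]; exact Finset.disjoint_singleton_right.mpr hmem))
        exact Finset.disjoint_left.mp (disjoint_of_and hpr') (key p' (hlt' p' (by simp)) hlp')
          (key p (hlt p (by simp)) hlp)
    subst ep
    have mr := famSet_mem_of_eq hlt hlt' e (M := r) (by simp)
    simp only [List.mem_cons, List.not_mem_nil, or_false] at mr
    rcases mr with h | h | h
    · rw [h] at hor
      have := bit_and hor ho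
      rw [ho] at this; exact absurd this (by simp)
    · rw [h, Nat.and_self] at hpr
      subst hpr
      exact absurd (Nat.zero_and _) hlp
    · rw [h]

theorem ncard_fixed_trios {g : Equiv.Perm GolayPt} {t : ℕ} (h : Rep enc g t) :
    {T : Finset (Finset GolayPt) | T ∈ trios ∧ g • T = T}.ncard = (trioList.filter (fixesFam t)).length :=
  ncard_fixed_fam trios_eq_image trioList_nodup trioList_injOn trioList_lt h

/-! ### Sextets -/

theorem sextetData_nodup : sextetData.Nodup :=
  List.Nodup.of_map _ (increasing_nodup sextetData_keys.1)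

theorem sextetData_lt : ∀ l ∈ sextetData, ∀ M ∈ l, M < 2 ^ 24 := by
  intro l hl M hM
  have h := sextetData_ok l hl
  simp only [sextetOK, Bool.and_eq_true, List.all_eq_true, Nat.blt_eq] at h
  exact (h.1.1.2 M hM).1

theorem pairsAll_spec {P : ℕ → ℕ → Bool} : ∀ {l : List ℕ}, pairsAll P l = true → ∀ a ∈ l, ∀ b ∈ l,
    a ≠ b → P a b = true ∨ P b a = true
  | [], _, a, ha, _, _, _ => absurd ha List.not_mem_nil
  | c :: l, h, a, ha, b, hb, hne => by
    simp only [pairsAll, Bool.and_eq_true, List.all_eq_true] at h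
    rcases List.mem_cons.mp ha with ea | ha' <;> rcases List.mem_cons.mp hb with eb | hb'
    · exact absurd (ea.trans eb.symm) hne
    · exact Or.inl (ea ▸ h.1 b hb')
    · exact Or.inr (eb ▸ h.1 a ha')
    · exact pairsAll_spec h.2 a ha' b hb' hne

theorem pairsAll_disjoint_nodup : ∀ {l : List ℕ},
    pairsAll (fun a b => a &&& b == 0) l = true → (∀ M ∈ l, wt M = 4) → l.Nodup
  | [], _, _ => List.nodup_nil
  | c :: l, h, hw => by
    simp only [pairsAll, Bool.and_eq_true, List.all_eq_true, beq_iff_eq] at h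
    refine List.nodup_cons.mpr ⟨fun hm => ?_, pairsAll_disjoint_nodup h.2 fun M hM => hw M (by simp [hM])⟩
    have h0 := h.1 c hm
    rw [Nat.and_self] at h0
    have := hw c (by simp)
    rw [h0] at this
    exact absurd this (by decide +kernel)

/-- Facts about an entry. -/
theorem sextet_entry {l : List ℕ} (hl : l ∈ sextetData) :
    famSet l ∈ sextets ∧ (famSet l).biUnion id = Finset.univ ∧
      setOf24 (l.getD 0 0) ∈ famSet l ∧ none ∈ setOf24 (l.getD 0 0) ∧
      ∀ u ∈ famSet l, ∀ v ∈ famSet l, u ≠ v → Disjoint u v := by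
  have h := sextetData_ok l hl
  simp only [sextetOK, Bool.and_eq_true, beq_iff_eq, List.all_eq_true, Nat.blt_eq] at h
  obtain ⟨⟨⟨⟨hlen, h23⟩, hall'⟩, hpair⟩, hcode⟩ := h
  have hall : ∀ M ∈ l, M < 16777216 ∧ wt M = 4 := fun M hM => by
    rw [← fastWt_eq]; exact hall' M hM
  have hnd : l.Nodup := pairsAll_disjoint_nodup hpair fun M hM => (hall M hM).2
  have hndm : (l.map setOf24).Nodup := hnd.map_on fun a ha b hb e =>
    setOf24_inj (hall a ha).1 (hall b hb).1 e
  have hcard : (famSet l).card = 6 := by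
    rw [famSet, List.toFinset_card_of_nodup hndm, List.length_map, hlen]
  have h4 : ∀ u ∈ famSet l, u.card = 4 := by
    intro u hu
    obtain ⟨M, hM, rfl⟩ := mem_famSet.mp hu
    rw [card_setOf24, (hall M hM).2]
  have hp : ∀ u ∈ famSet l, ∀ v ∈ famSet l, u ≠ v → Disjoint u v ∧ u ∪ v ∈ octads := by
    intro u hu v hv hne
    obtain ⟨a, ha, rfl⟩ := mem_famSet.mp hu
    obtain ⟨b, hb, rfl⟩ := mem_famSet.mp hv
    have hab : a ≠ b := fun e => hne (by rw [e])
    have hd : a &&& b = 0 := by
      rcases pairsAll_spec hpair a ha b hb hab with hh | hh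
      · simpa using hh
      · rw [Nat.and_comm]; simpa using hh
    refine ⟨disjoint_of_and hd, ?_⟩
    rw [← setOf24_or]
    refine setOf24_mem_wordsOfWeight ?_ (by
      rw [← card_setOf24, setOf24_or, Finset.card_union_of_disjoint (disjoint_of_and hd), card_setOf24,
        card_setOf24, (hall a ha).2, (hall b hb).2])
    set k := l.getD 0 0
    have hk : k ∈ l := by
      show l.getD 0 0 ∈ l
      rw [List.getD_eq_getElem l 0 (by omega)]
      exact List.getElem_mem _
    have hc : ∀ M ∈ l, M ≠ k → isCode (k ||| M) = true := fun M hM hne => by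
      have := hcode M hM
      simpa [hne] using this
    have hdj : ∀ M ∈ l, M ≠ k → k &&& M = 0 := fun M hM hne => by
      rcases pairsAll_spec hpair k hk M hM (Ne.symm hne) with hh | hh
      · simpa using hh
      · rw [Nat.and_comm]; simpa using hh
    by_cases hak : a = k
    · rw [hak]; exact hc b hb (by rw [← hak]; exact Ne.symm hab)
    by_cases hbk : b = k
    · rw [hbk, Nat.or_comm]; exact hc a ha hak
    have e : a ||| b = (k ||| a) ^^^ (k ||| b) := by
      refine Nat.eq_of_testBit_eq fun i => ?_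
      have e1 := congrArg (fun n => n.testBit i) (hdj a ha hak)
      have e2 := congrArg (fun n => n.testBit i) (hdj b hb hbk)
      have e3 := congrArg (fun n => n.testBit i) hd
      simp only [Nat.testBit_and, Nat.zero_testBit] at e1 e2 e3
      simp only [Nat.testBit_xor, Nat.testBit_or]
      revert e1 e2 e3
      cases k.testBit i <;> cases a.testBit i <;> cases b.testBit i <;> simp
    rw [e]
    exact isCode_xor (hc a ha hak) (hc b hb hbk)
  have hmem0 : l.getD 0 0 ∈ l := by
    rw [List.getD_eq_getElem l 0 (by omega)]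
    exact List.getElem_mem _
  refine ⟨⟨hcard, h4, fun u hu v hv hne => (hp u hu v hv hne).2⟩, ?_, mem_famSet.mpr ⟨_, hmem0, rfl⟩,
    mem_setOf24.mpr h23, fun u hu v hv hne => (hp u hu v hv hne).1⟩
  apply Finset.eq_univ_of_card
  rw [Finset.card_biUnion (t := id) (fun u hu v hv hne => (hp u hu v hv hne).1)]
  simp only [id_eq]
  rw [Finset.sum_congr rfl h4, Finset.sum_const, hcard]
  simp [ZMod.card]

theorem sextetData_key_lt : ∀ l ∈ sextetData, l.getD 0 0 < 2 ^ 24 := by
  intro l hl
  have h := sextetData_ok l hl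
  simp only [sextetOK, Bool.and_eq_true, beq_iff_eq] at h
  rw [List.getD_eq_getElem l 0 (by omega)]
  exact sextetData_lt l hl _ (List.getElem_mem _)

theorem sextet_tetrad_cover {t : Finset GolayPt} (ht : t.card = 4) (hn : none ∈ t) :
    ∃ l ∈ sextetData, setOf24 (l.getD 0 0) = t := by
  classical
  let K := ((sextetData.map fun l => l.getD 0 0).map setOf24).toFinset
  let U := ((Finset.univ.erase (none : GolayPt)).powersetCard 3).image (insert none)
  have hK : K.card = 1771 := by
    rw [List.toFinset_card_of_nodup, List.length_map, List.length_map, sextetData_keys.2]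
    refine (increasing_nodup sextetData_keys.1).map_on fun a ha b hb e => ?_
    obtain ⟨l, hl, rfl⟩ := List.mem_map.mp ha
    obtain ⟨m, hm, rfl⟩ := List.mem_map.mp hb
    exact setOf24_inj (sextetData_key_lt l hl) (sextetData_key_lt m hm) e
  have hU : U.card ≤ 1771 := by
    refine Finset.card_image_le.trans ?_
    rw [Finset.card_powersetCard, Finset.card_erase_of_mem (Finset.mem_univ _), Finset.card_univ,
      show Fintype.card GolayPt = 24 by simp [ZMod.card]]
    decide +kernel
  have hsub : K ⊆ U := by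
    intro s hs
    obtain ⟨M, hM, rfl⟩ := List.mem_map.mp (List.mem_toFinset.mp hs)
    obtain ⟨l, hl, rfl⟩ := List.mem_map.mp hM
    obtain ⟨⟨-, h4, -⟩, -, hmem, hn', -⟩ := sextet_entry hl
    refine Finset.mem_image.mpr ⟨(setOf24 (l.getD 0 0)).erase none, Finset.mem_powersetCard.mpr
      ⟨Finset.erase_subset_erase _ (Finset.subset_univ _), ?_⟩, Finset.insert_erase hn'⟩
    rw [Finset.card_erase_of_mem hn', h4 _ hmem]
  have heq : K = U := Finset.eq_of_subset_of_card_le hsub (by rw [hK]; exact hU)
  have : t ∈ U := Finset.mem_image.mpr ⟨t.erase none, Finset.mem_powersetCard.mpr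
    ⟨Finset.erase_subset_erase _ (Finset.subset_univ _), by rw [Finset.card_erase_of_mem hn, ht]⟩,
    Finset.insert_erase hn⟩
  rw [← heq] at this
  obtain ⟨M, hM, hMt⟩ := List.mem_map.mp (List.mem_toFinset.mp this)
  obtain ⟨l, hl, rfl⟩ := List.mem_map.mp hM
  exact ⟨l, hl, hMt⟩

theorem sextet_disjoint {S : Finset (Finset GolayPt)} (hS : S ∈ sextets) {u v : Finset GolayPt}
    (hu : u ∈ S) (hv : v ∈ S) (hne : u ≠ v) : Disjoint u v := by
  rw [Finset.disjoint_iff_inter_eq_empty, ← Finset.card_eq_zero]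
  have h1 := Finset.card_union_add_card_inter u v
  rw [hS.2.1 u hu, hS.2.1 v hv, (hS.2.2 u hu v hv hne).2] at h1
  omega

theorem sextets_eq_image : sextets = famSet '' {l | l ∈ sextetData} := by
  ext S
  simp only [Set.mem_image, Set.mem_ofPred_eq]
  constructor
  · intro hS
    have hcov : S.biUnion id = Finset.univ := by
      apply Finset.eq_univ_of_card
      rw [Finset.card_biUnion (t := id) (fun u hu v hv hne => sextet_disjoint hS hu hv hne)]
      simp only [id_eq]
      rw [Finset.sum_congr rfl hS.2.1, Finset.sum_const, hS.1]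
      simp [ZMod.card]
    obtain ⟨t, ht, hnt⟩ := Finset.mem_biUnion.mp (hcov.symm ▸ Finset.mem_univ (none : GolayPt))
    obtain ⟨l, hl, hlt⟩ := sextet_tetrad_cover (hS.2.1 t ht) hnt
    refine ⟨l, hl, ?_⟩
    obtain ⟨hF, hcl, hmem, -, -⟩ := sextet_entry hl
    rw [hlt] at hmem
    refine (Finset.eq_of_subset_of_card_le ?_ (by rw [hS.1, hF.1])).symm
    intro u hu
    by_cases hut : u = t
    · exact hut ▸ hmem
    obtain ⟨x, hx⟩ : u.Nonempty := Finset.card_pos.mp (by rw [hS.2.1 u hu]; norm_num)
    have hxt : x ∉ t := Finset.disjoint_left.mp (sextet_disjoint hS hu ht hut) hx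
    obtain ⟨v, hv, hxv⟩ := Finset.mem_biUnion.mp (hcl.symm ▸ Finset.mem_univ x)
    have hvt : v ≠ t := fun e => hxt (e ▸ hxv)
    have heq := octads_eq_of_five_le (hS.2.2 t ht u hu (Ne.symm hut)) (hF.2.2 t hmem v hv (Ne.symm hvt))
      (le_trans (b := (insert x t).card) (by rw [Finset.card_insert_of_notMem hxt, hS.2.1 t ht])
        (Finset.card_le_card (by
          intro y hy
          simp only [Finset.mem_insert] at hy
          simp only [Finset.mem_inter, Finset.mem_union]
          rcases hy with rfl | hy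
          · exact ⟨Or.inr hx, Or.inr hxv⟩
          · exact ⟨Or.inl hy, Or.inl hy⟩)))
    have d1 := Finset.disjoint_left.mp (sextet_disjoint hS hu ht hut)
    have d2 := Finset.disjoint_left.mp (sextet_disjoint hF hv hmem hvt)
    have : u = v := by
      ext y
      have e := Finset.ext_iff.mp heq y
      simp only [Finset.mem_union] at e
      have := @d1 y; have := @d2 y
      tauto
    exact this ▸ hv
  · rintro ⟨l, hl, rfl⟩
    exact (sextet_entry hl).1

theorem sextetData_injOn : Set.InjOn famSet {l | l ∈ sextetData} := by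
  intro l hl l' hl' e
  obtain ⟨-, -, hm, hn, hd⟩ := sextet_entry hl
  obtain ⟨-, -, hm', hn', -⟩ := sextet_entry hl'
  have h0 : setOf24 (l.getD 0 0) = setOf24 (l'.getD 0 0) := by
    by_contra hne
    exact Finset.disjoint_left.mp (hd _ hm _ (e ▸ hm') hne) hn hn'
  exact List.inj_on_of_nodup_map (increasing_nodup sextetData_keys.1) hl hl'
    (setOf24_inj (sextetData_key_lt l hl) (sextetData_key_lt l' hl') h0)

theorem ncard_fixed_sextets {g : Equiv.Perm GolayPt} {t : ℕ} (h : Rep enc g t) :
    {S : Finset (Finset GolayPt) | S ∈ sextets ∧ g • S = S}.ncard = (sextetData.filter (fixesFam t)).length :=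
  ncard_fixed_fam sextets_eq_image sextetData_nodup sextetData_injOn sextetData_lt h

/-! ### Conjugation invariance -/

theorem smul_mem_trios {g : Equiv.Perm GolayPt} (hg : g ∈ M24) {T : Finset (Finset GolayPt)}
    (hT : T ∈ trios) : g • T ∈ trios := by
  refine ⟨(Finset.card_smul_finset g T).trans hT.1, ?_, ?_⟩
  · intro o ho
    obtain ⟨u, hu, rfl⟩ := Finset.mem_smul_finset.mp ho
    exact octad_image hg (hT.2.1 u hu)
  · intro o ho o' ho' hne
    obtain ⟨u, hu, rfl⟩ := Finset.mem_smul_finset.mp ho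
    obtain ⟨v, hv, rfl⟩ := Finset.mem_smul_finset.mp ho'
    exact (Finset.disjoint_image g.injective).mpr (hT.2.2 u hu v hv (fun e => hne (by rw [e])))

theorem smul_mem_sextets {g : Equiv.Perm GolayPt} (hg : g ∈ M24) {S : Finset (Finset GolayPt)}
    (hS : S ∈ sextets) : g • S ∈ sextets := by
  refine ⟨(Finset.card_smul_finset g S).trans hS.1, ?_, ?_⟩
  · intro o ho
    obtain ⟨u, hu, rfl⟩ := Finset.mem_smul_finset.mp ho
    exact (Finset.card_smul_finset g u).trans (hS.2.1 u hu)
  · intro o ho o' ho' hne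
    obtain ⟨u, hu, rfl⟩ := Finset.mem_smul_finset.mp ho
    obtain ⟨v, hv, rfl⟩ := Finset.mem_smul_finset.mp ho'
    rw [smul_set_eq_image, smul_set_eq_image, ← Finset.image_union]
    exact octad_image hg (hS.2.2 u hu v hv (fun e => hne (by rw [e])))

theorem smul_mem_wordsOfWeight {g : Equiv.Perm GolayPt} (hg : g ∈ M24) {w : ℕ} {s : Finset GolayPt}
    (hs : s ∈ wordsOfWeight (golayCode : Set (GolayPt → ZMod 2)) w) :
    g • s ∈ wordsOfWeight (golayCode : Set (GolayPt → ZMod 2)) w :=
  ⟨setSystemAut_image_mem hg hs.1, (Finset.card_smul_finset g s).trans hs.2⟩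

theorem ncard_fixed_conj {β : Type*} [MulAction (Equiv.Perm GolayPt) β] {X : Set β}
    (hX : ∀ g ∈ M24, ∀ b ∈ X, g • b ∈ X) (g : Equiv.Perm GolayPt) {h : Equiv.Perm GolayPt} (hh : h ∈ M24) :
    {b : β | b ∈ X ∧ (h * g * h⁻¹) • b = b}.ncard = {b : β | b ∈ X ∧ g • b = b}.ncard := by
  refine Set.ncard_congr (fun b _ => h⁻¹ • b) ?_ ?_ ?_
  · rintro b ⟨hb, hfix⟩
    refine ⟨hX _ (inv_mem hh) b hb, ?_⟩
    conv_rhs => rw [← hfix]
    rw [← mul_smul, ← mul_smul]; group
  · exact fun a b _ _ e => MulAction.injective h⁻¹ e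
  · rintro b ⟨hb, hfix⟩
    refine ⟨h • b, ⟨hX _ hh b hb, ?_⟩, inv_smul_smul h b⟩
    rw [← mul_smul, show h * g * h⁻¹ * h = h * g by group, mul_smul, hfix]

end CfsgLib.M24Classes
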