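import Cfsg.Agent.Mathieu.M24Order
import Cfsg.Agent.M24Classes.Data

/-!
Permutations given by packed tables, enumeration of cosets of point stabilisers in `Cfsg.M24`,
and conjugacy certificates.
-/

set_option autoImplicit false

namespace CfsgLib.M24Classes

open Cfsg CfsgLib.Mathieu

/-- Pack `f 0, …, f (n-1)` in eight bits each. -/
def pack (f : ℕ → ℕ) : ℕ → ℕ
  | 0 => 0
  | n + 1 => f n * 256 ^ n + pack f n

theorem pack_lt (f : ℕ → ℕ) : ∀ n, (∀ i < n, f i < 256) → pack f n < 256 ^ n
  | 0, _ => by simp [pack]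
  | n + 1, hf => by
    have ih := pack_lt f n fun i hi => hf i (Nat.lt_succ_of_lt hi)
    have hn := hf n (Nat.lt_succ_self n)
    simp only [pack, pow_succ]
    calc f n * 256 ^ n + pack f n < f n * 256 ^ n + 256 ^ n := Nat.add_lt_add_left ih _
      _ = (f n + 1) * 256 ^ n := by ring
      _ ≤ 256 * 256 ^ n := Nat.mul_le_mul_right _ hn
      _ = 256 ^ n * 256 := by ring

theorem app_pack (f : ℕ → ℕ) : ∀ n, (∀ i < n, f i < 256) → ∀ i < n, app (pack f n) i = f i
  | 0, _, i, hi => absurd hi (Nat.not_lt_zero i)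
  | n + 1, hf, i, hi => by
    have hf' : ∀ i < n, f i < 256 := fun j hj => hf j (Nat.lt_succ_of_lt hj)
    have hlt := pack_lt f n hf'
    simp only [app, pack, Nat.shiftRight_eq_div_pow, pow_mul, show (2:ℕ) ^ 8 = 256 from rfl]
    rcases Nat.lt_succ_iff_lt_or_eq.mp hi with h | rfl
    · have ih := app_pack f n hf' i h
      simp only [app, Nat.shiftRight_eq_div_pow, pow_mul, show (2:ℕ) ^ 8 = 256 from rfl] at ih
      obtain ⟨d, rfl⟩ : ∃ d, n = i + (d + 1) := ⟨n - i - 1, by omega⟩
      rw [show f (i + (d + 1)) * 256 ^ (i + (d + 1)) = 256 ^ i * (f (i + (d + 1)) * 256 ^ d * 256) by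
        rw [pow_add, pow_succ]; ring, Nat.mul_add_div (by positivity), Nat.add_mod, Nat.mul_mod_left,
        Nat.zero_add, Nat.mod_mod, ih]
    · rw [Nat.mul_comm, Nat.mul_add_div (by positivity), Nat.div_eq_of_lt hlt, Nat.add_zero,
        Nat.mod_eq_of_lt (hf i hi)]

/-- Composition of tables. -/
def comp (a b : ℕ) : ℕ := pack (fun k => app a (app b k)) 24

theorem app_lt (a i : ℕ) : app a i < 256 := Nat.mod_lt _ (by norm_num)

theorem app_comp (a b i : ℕ) (hi : i < 24) : app (comp a b) i = app a (app b i) :=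
  app_pack _ 24 (fun _ _ => app_lt _ _) i hi

theorem rep_comp {σ τ : Equiv.Perm GolayPt} {a b : ℕ} (hσ : Rep enc σ a) (hτ : Rep enc τ b) :
    Rep enc (σ * τ) (comp a b) := fun p => by
  rw [app_comp _ _ _ (enc p).isLt, hτ p, hσ (τ p)]; rfl

theorem rep_unique {σ τ : Equiv.Perm GolayPt} {a : ℕ} (hσ : Rep enc σ a) (hτ : Rep enc τ a) :
    σ = τ := Equiv.ext fun p => enc.injective (Fin.ext ((hσ p).symm.trans (hτ p)))

/-- The table is that of a member of `M24`. -/
def isM24Tab (t : ℕ) : Bool :=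
  allBelow 24 (fun i => Nat.blt (app t i) 24) &&
    allBelow 24 (fun j => (List.range 24).any fun i => app t i == j) && preservesCode t

theorem inGroup_of_isM24Tab {t : ℕ} (h : isM24Tab t = true) : InGroup enc M24 t := by
  simp only [isM24Tab, Bool.and_eq_true, allBelow_iff, List.any_eq_true, List.mem_range, beq_iff_eq,
    Nat.blt_eq] at h
  obtain ⟨⟨hlt, hsur⟩, hpres⟩ := h
  let f : GolayPt → GolayPt := fun p => enc.symm ⟨app t (enc p).val, hlt _ (enc p).isLt⟩
  have hf : Function.Surjective f := by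
    intro q
    obtain ⟨i, hi, e⟩ := hsur (enc q).val (enc q).isLt
    refine ⟨enc.symm ⟨i, hi⟩, ?_⟩
    simp only [f, Equiv.apply_symm_apply]
    rw [Equiv.symm_apply_eq]; exact Fin.ext e
  let σ := Equiv.ofBijective f ⟨Finite.injective_iff_surjective.mpr hf, hf⟩
  have hrep : Rep enc σ t := fun p => by
    show _ = (enc (f p)).val
    simp only [f, Equiv.apply_symm_apply]
  exact ⟨σ, mem_M24_of_table hrep hpres, hrep⟩

/-- The elements of the stabiliser of the first four base points, as tables. -/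
def stab4 : List ℕ := trans4.flatMap fun a => trans5.flatMap fun b => trans6.map fun d => comp a (comp b d)

/-- The elements of the stabiliser of the first five base points, as tables. -/
def stab5 : List ℕ := trans5.flatMap fun b => trans6.map fun d => comp b d

theorem trans_inGroup : ∀ t ∈ trans4 ++ trans5 ++ trans6, InGroup enc M24 t := by
  have h : (trans4 ++ trans5 ++ trans6).all isM24Tab = true := by decide +kernel
  exact fun t ht => inGroup_of_isM24Tab (List.all_eq_true.mp h t ht)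

/-- A table fixes the first `k` base points and sends the next one to `q`. -/
def sendsBase (k : ℕ) (q : GolayPt) (t : ℕ) : Bool :=
  ((m24Base.take k).all fun x => app t (enc x).val == (enc x).val) &&
    app t (enc (m24Base.getD k none)).val == (enc q).val

theorem exists_trans {trs : List ℕ} (htrs : ∀ t ∈ trs, InGroup enc M24 t) (k : ℕ) (q : GolayPt)
    (h : trs.any (sendsBase k q) = true) :
    ∃ t ∈ trs, ∃ σ ∈ M24, Rep enc σ t ∧ (∀ x ∈ m24Base.take k, σ x = x) ∧
      σ (m24Base.getD k none) = q := by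
  obtain ⟨t, ht, hs⟩ := List.any_eq_true.mp h
  obtain ⟨σ, hσ, hrep⟩ := htrs t ht
  simp only [sendsBase, Bool.and_eq_true, List.all_eq_true, beq_iff_eq] at hs
  exact ⟨t, ht, σ, hσ, hrep, fun x hx => hrep.apply_eq enc (hs.1 x hx), hrep.apply_eq enc hs.2⟩

theorem cover4 : ∀ q, q ∉ m24Base.take 4 → trans4.any (sendsBase 4 q) = true := by decide +kernel

theorem cover5 : ∀ q ∈ setOf24 m24BaseRest, trans5.any (sendsBase 5 q) = true := by decide +kernel

theorem cover6 : ∀ q ∈ (setOf24 m24BaseOctad)ᶜ, trans6.any (sendsBase 6 q) = true := by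
  decide +kernel

theorem mem_stab5 {g : Equiv.Perm GolayPt} (hg : g ∈ M24) (hfix : ∀ x ∈ m24Base.take 5, g x = x) :
    ∃ t ∈ stab5, Rep enc g t := by
  have hb5 : g (m24Base.getD 5 none) ∈ setOf24 m24BaseRest := by
    have h1 : g (m24Base.getD 5 none) ∈ setOf24 m24BaseOctad := by
      rw [← m24BaseOctad_fixed hg hfix]
      exact Finset.mem_image_of_mem _ (by decide +kernel)
    have h2 := fix_image_notMem hfix (b := m24Base.getD 5 none) (by decide +kernel)
    exact (by decide +kernel : ∀ q ∈ setOf24 m24BaseOctad, q ∉ m24Base.take 5 →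
      q ∈ setOf24 m24BaseRest) _ h1 h2
  obtain ⟨b, hb, β, hβ, rβ, fβ, eβ⟩ := exists_trans
    (fun t ht => trans_inGroup t (by simp [ht])) 5 _ (cover5 _ hb5)
  have h6 : ∀ x ∈ m24Base.take 6, (β⁻¹ * g) x = x := by
    intro x hx
    rw [show m24Base.take 6 = m24Base.take 5 ++ [m24Base.getD 5 none] from rfl, List.mem_append] at hx
    rw [Equiv.Perm.mul_apply]
    rcases hx with hx | hx
    · rw [hfix x hx, Equiv.Perm.inv_eq_iff_eq, fβ x hx]
    · rw [List.mem_singleton.mp hx, Equiv.Perm.inv_eq_iff_eq, eβ]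
  have hb6 : (β⁻¹ * g) (m24Base.getD 6 none) ∈ (setOf24 m24BaseOctad)ᶜ := by
    refine Finset.mem_compl.2 fun h => ?_
    have hfix' : ∀ x ∈ m24Base.take 5, (β⁻¹ * g) x = x := fun x hx =>
      h6 x ((List.take_sublist_take_left (by norm_num : 5 ≤ 6)).subset hx)
    rw [← m24BaseOctad_fixed (mul_mem (inv_mem hβ) hg) hfix', Finset.mem_image] at h
    obtain ⟨y, hy, he⟩ := h
    rw [(β⁻¹ * g).injective he] at hy
    exact (by decide +kernel : m24Base.getD 6 none ∉ setOf24 m24BaseOctad) hy
  obtain ⟨d, hd, δ, hδ, rδ, fδ, eδ⟩ := exists_trans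
    (fun t ht => trans_inGroup t (by simp [ht])) 6 _ (cover6 _ hb6)
  have he : β⁻¹ * g = δ := by
    refine M24_ext (mul_mem (inv_mem hβ) hg) hδ fun x hx => ?_
    rw [show m24Base = m24Base.take 6 ++ [m24Base.getD 6 none] from rfl, List.mem_append] at hx
    rcases hx with hx | hx
    · rw [h6 x hx, fδ x hx]
    · rw [List.mem_singleton.mp hx, eδ]
  refine ⟨comp b d, ?_, ?_⟩
  · simp only [stab5, List.mem_flatMap, List.mem_map]
    exact ⟨b, hb, d, hd, rfl⟩
  · rw [show g = β * δ by rw [← he, mul_inv_cancel_left]]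
    exact rep_comp rβ rδ

theorem mem_stab4 {g : Equiv.Perm GolayPt} (hg : g ∈ M24) (hfix : ∀ x ∈ m24Base.take 4, g x = x) :
    ∃ t ∈ stab4, Rep enc g t := by
  have hb4 := cover4 _ (fix_image_notMem hfix (b := m24Base.getD 4 none) (by decide +kernel))
  obtain ⟨a, ha, α, hα, rα, fα, eα⟩ := exists_trans (fun t ht => trans_inGroup t (by simp [ht])) 4 _ hb4
  obtain ⟨t, ht, rt⟩ := mem_stab5 (mul_mem (inv_mem hα) hg) (fun x hx => by
    rw [show m24Base.take 5 = m24Base.take 4 ++ [m24Base.getD 4 none] from rfl, List.mem_append] at hx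
    rw [Equiv.Perm.mul_apply]
    rcases hx with hx | hx
    · rw [hfix x hx, Equiv.Perm.inv_eq_iff_eq, fα x hx]
    · rw [List.mem_singleton.mp hx, Equiv.Perm.inv_eq_iff_eq, eα])
  simp only [stab5, List.mem_flatMap, List.mem_map] at ht
  obtain ⟨b, hb, d, hd, rfl⟩ := ht
  refine ⟨comp a (comp b d), ?_, ?_⟩
  · simp only [stab4, List.mem_flatMap, List.mem_map]
    exact ⟨a, ha, b, hb, d, hd, rfl⟩
  · have := rep_comp rα rt
    rwa [mul_inv_cancel_left] at this

/-- The iterate of a table at a point. -/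
def appIter (t : ℕ) : ℕ → ℕ → ℕ
  | 0, i => i
  | n + 1, i => app t (appIter t n i)

theorem appIter_eq {σ : Equiv.Perm GolayPt} {t : ℕ} (h : Rep enc σ t) :
    ∀ (n : ℕ) (p : GolayPt), appIter t n (enc p).val = (enc ((σ ^ n) p)).val
  | 0, _ => rfl
  | n + 1, p => by
    rw [appIter, appIter_eq h n p, h ((σ ^ n) p), pow_succ', Equiv.Perm.mul_apply]

/-- The table has prime order `n`. -/
def isOrd (n t : ℕ) : Bool :=
  allBelow 24 (fun i => appIter t n i == i) && !allBelow 24 (fun i => app t i == i)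

theorem isOrd_of_orderOf {σ : Equiv.Perm GolayPt} {t n : ℕ} (h : Rep enc σ t) (ho : orderOf σ = n)
    (hn : n ≠ 1) : isOrd n t = true := by
  rw [isOrd, Bool.and_eq_true, allBelow_iff, Bool.not_eq_true', Bool.eq_false_iff]
  refine ⟨fun i hi => ?_, fun hall => hn ?_⟩
  · have := appIter_eq h n (enc.symm ⟨i, hi⟩)
    rw [← ho, pow_orderOf_eq_one, ho, Equiv.Perm.one_apply, Equiv.apply_symm_apply] at this
    rw [beq_iff_eq]; exact this
  · rw [allBelow_iff] at hall
    rw [← ho, orderOf_eq_one_iff]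
    exact Equiv.ext fun p => h.apply_eq enc (by simpa using hall _ (enc p).isLt)

/-- Conjugacy of the table `y` to the representative selected by `c`, certified by `c.2`. -/
def certOK (reps : List ℕ) (y : ℕ) (c : ℕ × ℕ) : Bool :=
  match reps[c.1]? with
  | some r => isM24Tab c.2 && allBelow 24 (fun i => app c.2 (app r i) == app y (app c.2 i))
  | none => false

/-- Check of a whole list against certificates. -/
def certsOK (reps : List ℕ) : List ℕ → List (ℕ × ℕ) → Bool
  | [], [] => true
  | y :: ys, c :: cs => certOK reps y c && certsOK reps ys cs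
  | _, _ => false

/-- `g` is conjugate in `M24` to one of the tables of `reps`. -/
def ConjToRep (reps : List ℕ) (g : Equiv.Perm GolayPt) : Prop :=
  ∃ r ∈ reps, ∀ x : Equiv.Perm GolayPt, Rep enc x r → ∃ h ∈ M24, h * x * h⁻¹ = g

theorem conjToRep_of_certs {reps : List ℕ} :
    ∀ {ys : List ℕ} {cs : List (ℕ × ℕ)}, certsOK reps ys cs = true → ∀ y ∈ ys,
      ∀ g : Equiv.Perm GolayPt, Rep enc g y → ConjToRep reps g
  | [], _, _, y, hy, _, _ => absurd hy (List.not_mem_nil)
  | a :: ys, [], h, _, _, _, _ => by simp [certsOK] at h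
  | a :: ys, c :: cs, h, y, hy, g, hg => by
    simp only [certsOK, Bool.and_eq_true] at h
    rcases List.mem_cons.mp hy with rfl | hy
    · have hc := h.1
      simp only [certOK] at hc
      split at hc
      · rename_i r hr
        simp only [Bool.and_eq_true, allBelow_iff, beq_iff_eq] at hc
        obtain ⟨σ, hσ, hrσ⟩ := inGroup_of_isM24Tab hc.1
        refine ⟨r, List.mem_of_getElem? hr, fun x hx => ⟨σ, hσ, ?_⟩⟩
        rw [mul_inv_eq_iff_eq_mul]
        refine Equiv.ext fun p => enc.injective (Fin.ext ?_)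
        have := hc.2 _ (enc p).isLt
        rw [hx p, hrσ (x p), hrσ p, hg (σ p)] at this
        exact this
      · simp at hc
    · exact conjToRep_of_certs h.2 y hy g hg

theorem ConjToRep.conj {reps : List ℕ} {g h : Equiv.Perm GolayPt} (hg : ConjToRep reps g)
    (hh : h ∈ M24) : ConjToRep reps (h * g * h⁻¹) := by
  obtain ⟨r, hr, hconj⟩ := hg
  refine ⟨r, hr, fun x hx => ?_⟩
  obtain ⟨k, hk, rfl⟩ := hconj x hx
  exact ⟨h * k, mul_mem hh hk, by group⟩

/-- Elements of order `n` with a prescribed pattern on the first four base points. -/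
theorem classify_pattern {c n : ℕ} {reps : List ℕ} {certs : List (ℕ × ℕ)} (hn : n ≠ 1)
    (hc : isM24Tab c = true)
    (hcs : certsOK reps ((stab4.map (comp c)).filter (isOrd n)) certs = true)
    {g : Equiv.Perm GolayPt} (hg : g ∈ M24) (ho : orderOf g = n)
    (hpat : ∀ x ∈ m24Base.take 4, (enc (g x)).val = app c (enc x).val) : ConjToRep reps g := by
  obtain ⟨γ, hγ, rγ⟩ := inGroup_of_isM24Tab hc
  obtain ⟨t, ht, rt⟩ := mem_stab4 (mul_mem (inv_mem hγ) hg) (fun x hx => by
    rw [Equiv.Perm.mul_apply, Equiv.Perm.inv_eq_iff_eq]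
    exact enc.injective (Fin.ext ((hpat x hx).trans (rγ x))))
  have hrep : Rep enc g (comp c t) := by
    have := rep_comp rγ rt
    rwa [mul_inv_cancel_left] at this
  exact conjToRep_of_certs hcs _
    (List.mem_filter.mpr ⟨List.mem_map.mpr ⟨t, ht, rfl⟩, isOrd_of_orderOf hrep ho hn⟩) g hrep

/-- Elements of order `n` fixing the first five base points. -/
theorem classify_fix {n : ℕ} {reps : List ℕ} {certs : List (ℕ × ℕ)} (hn : n ≠ 1)
    (hcs : certsOK reps (stab5.filter (isOrd n)) certs = true)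
    {g : Equiv.Perm GolayPt} (hg : g ∈ M24) (ho : orderOf g = n)
    (hfix : ∀ x ∈ m24Base.take 5, g x = x) : ConjToRep reps g := by
  obtain ⟨t, ht, rt⟩ := mem_stab5 hg hfix
  exact conjToRep_of_certs hcs _ (List.mem_filter.mpr ⟨ht, isOrd_of_orderOf rt ho hn⟩) g rt

end CfsgLib.M24Classes
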