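import Cfsg.Agent.M24Classes.OrbitHelpers
import Cfsg.Agent.M24Classes.Table
import Cfsg.Agent.M24Classes.AtBaseOctad

/-!
Pairs of octads, and trios through an octad.
-/

set_option autoImplicit false

namespace CfsgLib.M24Classes

open Cfsg CfsgLib.Mathieu
open scoped Pointwise

theorem baseOctad_gens : (baseOctadTabs.all isM24Tab = true ∧
    (baseOctadTabs.zip baseOctadBytes).all (fun p => bytesOK p.1 p.2) = true ∧
    baseOctadTabs.length = baseOctadBytes.length ∧
    baseOctadTabs.all (fun t => push t 24 m24BaseOctad == m24BaseOctad) = true) ∧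
    m24BaseOctad < 2 ^ 24 ∧ (isCode m24BaseOctad = true ∧ wt m24BaseOctad = 8) := by decide +kernel

theorem baseOctad_checks :
    classOK baseOctadBytes octA 131071 octFams (listInv [m24BaseOctad]) baseOctadRep0 baseOctadTree0 0 30 = true ∧
    classOK baseOctadBytes octA 131071 octFams (listInv [m24BaseOctad]) baseOctadRep1 baseOctadTree1 16 280 = true ∧
    classOK baseOctadBytes octA 131071 octFams (listInv [m24BaseOctad]) baseOctadRep2 baseOctadTree2 4 448 = true := by
  decide +kernel

theorem baseOctad_mem : setOf24 m24BaseOctad ∈ octads :=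
  setOf24_mem_wordsOfWeight baseOctad_gens.2.2.1 baseOctad_gens.2.2.2

theorem setInvar_single (o' o : Finset GolayPt) : setInvar single o' o = (o' ∩ o).card ^ 2 := by
  simp [setInvar, famInv, single]

/-- The orbit of an octad under the stabiliser of another is given by the intersection size. -/
theorem octad_pair_orbit {o o' : Finset GolayPt} (ho : o ∈ octads) (ho' : o' ∈ octads) {k n : ℕ}
    (hk : (o' ∩ o).card = k) (hn : (k = 0 ∧ n = 30) ∨ (k = 4 ∧ n = 280) ∨ (k = 2 ∧ n = 448)) :
    (MulAction.orbit ↥(MulAction.stabilizer M24 o) o').ncard = n ∧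
      MulAction.orbit ↥(MulAction.stabilizer M24 o) o' = {b | b ∈ octads ∧ (b ∩ o).card = k} := by
  obtain ⟨g, hg, hgo⟩ := M24_octad_transitive baseOctad_mem ho
  have hG := gensOK_set baseOctad_gens.2.1 baseOctad_gens.1.1 baseOctad_gens.1.2.1 baseOctad_gens.1.2.2.1
    baseOctad_gens.1.2.2.2
  have hI := setInvar_smul octListed
  have hIL := setInvar_list octListed baseOctad_gens.2.1
  obtain ⟨X, -, hc, he⟩ : ∃ X ∈ octads, (MulAction.orbit ↥(MulAction.stabilizer M24 o) X).ncard = n ∧
      MulAction.orbit ↥(MulAction.stabilizer M24 o) X = {b | b ∈ octads ∧ setInvar single b o = k ^ 2} := by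
    rcases hn with ⟨rfl, rfl⟩ | ⟨rfl, rfl⟩ | ⟨rfl, rfl⟩
    · exact orbit_class octListed _ hI hIL hG baseOctad_checks.1 hg hgo
    · exact orbit_class octListed _ hI hIL hG baseOctad_checks.2.1 hg hgo
    · exact orbit_class octListed _ hI hIL hG baseOctad_checks.2.2 hg hgo
  have hmem : o' ∈ MulAction.orbit ↥(MulAction.stabilizer M24 o) X := by
    rw [he]; exact ⟨ho', by rw [setInvar_single, hk]⟩
  rw [MulAction.orbit_eq_iff.mpr hmem]
  refine ⟨hc, he.trans ?_⟩
  ext b
  simp only [Set.mem_ofPred_eq, setInvar_single]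
  exact and_congr_right fun _ => (Nat.pow_left_injective (by norm_num)).eq_iff

theorem card_stab_mul_orbit {G β : Type*} [Group G] [MulAction G β] (b : β) :
    Nat.card (MulAction.stabilizer G b) * (MulAction.orbit G b).ncard = Nat.card G := by
  rw [← MulAction.index_stabilizer]; exact Subgroup.card_mul_index _

theorem card_octad_stabilizer {o : Finset GolayPt} (ho : o ∈ octads) :
    Nat.card (MulAction.stabilizer M24 o) = 322560 := by
  have horb : MulAction.orbit M24 o = octads := by
    ext b
    constructor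
    · rintro ⟨⟨g, hg⟩, rfl⟩; exact octad_image hg ho
    · intro hb
      obtain ⟨g, hg, e⟩ := M24_octad_transitive ho hb
      exact ⟨⟨g, hg⟩, e⟩
  have h := card_stab_mul_orbit (G := M24) o
  rw [horb, ncard_octads, card_M24] at h
  omega

theorem card_inf_stabilizer {G β γ : Type*} [Group G] [MulAction G β] [MulAction G γ] (x : β) (y : γ) :
    Nat.card ↥(MulAction.stabilizer G x ⊓ MulAction.stabilizer G y) *
      (MulAction.orbit ↥(MulAction.stabilizer G x) y).ncard = Nat.card (MulAction.stabilizer G x) := by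
  rw [← card_stab_mul_orbit (G := ↥(MulAction.stabilizer G x)) y]
  congr 1
  exact Nat.card_congr ⟨fun g => ⟨⟨g.1, g.2.1⟩, g.2.2⟩, fun g => ⟨g.1.1, g.1.2, g.2⟩, fun _ => rfl, fun _ => rfl⟩

theorem card_octad_pair {o o' : Finset GolayPt} (ho : o ∈ octads) (ho' : o' ∈ octads) :
    ((o ∩ o').card = 0 → Nat.card ↥(MulAction.stabilizer M24 o ⊓ MulAction.stabilizer M24 o') = 10752) ∧
    ((o ∩ o').card = 4 → Nat.card ↥(MulAction.stabilizer M24 o ⊓ MulAction.stabilizer M24 o') = 1152) ∧
    ((o ∩ o').card = 2 → Nat.card ↥(MulAction.stabilizer M24 o ⊓ MulAction.stabilizer M24 o') = 720) := by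
  have h := card_inf_stabilizer (G := M24) o o'
  rw [card_octad_stabilizer ho] at h
  have hh : (o' ∩ o).card = (o ∩ o').card := by rw [Finset.inter_comm]
  refine ⟨fun e => ?_, fun e => ?_, fun e => ?_⟩
  · rw [(octad_pair_orbit ho ho' (hh.trans e) (Or.inl ⟨rfl, rfl⟩)).1] at h; omega
  · rw [(octad_pair_orbit ho ho' (hh.trans e) (Or.inr (Or.inl ⟨rfl, rfl⟩))).1] at h; omega
  · rw [(octad_pair_orbit ho ho' (hh.trans e) (Or.inr (Or.inr ⟨rfl, rfl⟩))).1] at h; omega

/-! ### Fixing six points and an octad -/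

/-- The representative of the octads meeting the base octad in two points. -/
def baseTwo : ℕ := baseOctadRep2.headD 0

theorem baseTwo_check : (isCode baseTwo = true ∧ wt baseTwo = 8) ∧ wt (baseTwo &&& m24BaseOctad) = 2 ∧
    baseTwo < 2 ^ 24 ∧ (∀ x ∈ m24Base.take 5, x ∈ setOf24 m24BaseOctad \ setOf24 baseTwo) ∧
    stab5.all (fun t => !(allBelow 24 fun i =>
        !(m24BaseOctad.testBit i && !baseTwo.testBit i) || app t i == i) || !(push t 24 baseTwo == baseTwo) ||
      allBelow 24 fun i => app t i == i) = true := by decide +kernel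

/-- Fixing six points of an octad and a second octad through its other two forces the identity. -/
theorem pair_two_kernel_base {g : Equiv.Perm GolayPt} (hg : g ∈ M24)
    (hfix : ∀ x ∈ setOf24 m24BaseOctad \ setOf24 baseTwo, g x = x) (h2 : g • setOf24 baseTwo = setOf24 baseTwo) :
    g = 1 := by
  obtain ⟨-, -, hlt, h5, hall⟩ := baseTwo_check
  obtain ⟨t, ht, rt⟩ := mem_stab5 hg fun x hx => hfix x (h5 x hx)
  have h := List.all_eq_true.mp hall t ht
  have c1 : (allBelow 24 fun i => !(m24BaseOctad.testBit i && !baseTwo.testBit i) || app t i == i) = true := by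
    rw [allBelow_iff]
    intro i hi
    cases hb : (m24BaseOctad.testBit i && !baseTwo.testBit i)
    · rfl
    · rw [Bool.and_eq_true, Bool.not_eq_true'] at hb
      have hx : pt i ∈ setOf24 m24BaseOctad \ setOf24 baseTwo := by
        rw [Finset.mem_sdiff, mem_setOf24, mem_setOf24, idx_pt hi, hb.1, hb.2]; simp
      have := rt (pt i)
      rw [hfix _ hx] at this
      change app t (idx (pt i)) = idx (pt i) at this
      rw [idx_pt hi] at this
      simpa using this
  have c2 : push t 24 baseTwo = baseTwo :=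
    setOf24_inj (push_lt rt _) hlt (by rw [← smul_setOf24 rt, h2])
  rw [c1, c2, beq_self_eq_true, Bool.not_true, Bool.false_or, Bool.false_or, allBelow_iff] at h
  exact Equiv.ext fun p => rt.apply_eq enc (by simpa using h _ (enc p).isLt)

theorem pair_two_kernel {o o' : Finset GolayPt} (ho : o ∈ octads) (ho' : o' ∈ octads) (h : (o' ∩ o).card = 2)
    {g : Equiv.Perm GolayPt} (hg : g ∈ M24) (hfix : ∀ x ∈ o \ o', g x = x) (h2 : g • o' = o') : g = 1 := by
  obtain ⟨a, ha, hao⟩ := M24_octad_transitive baseOctad_mem ho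
  change a • setOf24 m24BaseOctad = o at hao
  obtain ⟨hb, hb2, -⟩ := baseTwo_check
  have h1 : ((a • setOf24 baseTwo) ∩ o).card = 2 := by
    rw [← hao, smul_set_eq_image, smul_set_eq_image, ← Finset.image_inter _ _ a.injective,
      Finset.card_image_of_injective _ a.injective, ← setOf24_and, card_setOf24, hb2]
  have hbo : a • setOf24 baseTwo ∈ octads := octad_image ha (setOf24_mem_wordsOfWeight hb.1 hb.2)
  obtain ⟨-, e⟩ := octad_pair_orbit ho hbo h1 (Or.inr (Or.inr ⟨rfl, rfl⟩))
  obtain ⟨⟨⟨c, hc⟩, hco⟩, hcb⟩ : o' ∈ MulAction.orbit ↥(MulAction.stabilizer M24 o) (a • setOf24 baseTwo) :=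
    e ▸ ⟨ho', h⟩
  change c • o = o at hco
  change c • a • setOf24 baseTwo = o' at hcb
  set d := c * a with hd
  have hdm : d ∈ M24 := mul_mem hc ha
  have hdo : d • setOf24 m24BaseOctad = o := by rw [hd, mul_smul, hao, hco]
  have hdb : d • setOf24 baseTwo = o' := by rw [hd, mul_smul, hcb]
  have key := pair_two_kernel_base (g := d⁻¹ * g * d) (mul_mem (mul_mem (inv_mem hdm) hg) hdm)
    (fun x hx => by
      rw [Equiv.Perm.mul_apply, Equiv.Perm.mul_apply, Equiv.Perm.inv_eq_iff_eq]
      refine hfix _ ?_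
      rw [← hdo, ← hdb, smul_set_eq_image, smul_set_eq_image, ← Finset.image_sdiff _ _ d.injective]
      exact Finset.mem_image_of_mem d hx)
    (by rw [mul_smul, mul_smul, hdb, h2, ← hdb, inv_smul_smul])
  calc g = d * (d⁻¹ * g * d) * d⁻¹ := by group
    _ = 1 := by rw [key]; group

theorem octad_pair_two_iso {o o' : Finset GolayPt} (ho : o ∈ octads) (ho' : o' ∈ octads)
    (h : (o ∩ o').card = 2) :
    Nonempty (↥(MulAction.stabilizer M24 o ⊓ MulAction.stabilizer M24 o') ≃* Equiv.Perm (Fin 6)) := by
  set K := MulAction.stabilizer M24 o ⊓ MulAction.stabilizer M24 o'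
  have hcard6 : (o \ o').card = 6 := by
    rw [Finset.card_sdiff, Finset.inter_comm o' o, h, ho.2]
  have hinv : ∀ g : ↥K, ∀ x, x ∈ o \ o' ↔ (g.1.1 : Equiv.Perm GolayPt) x ∈ o \ o' := by
    intro g x
    have e1 : (g.1.1 : Equiv.Perm GolayPt) • o = o := g.2.1
    have e2 : (g.1.1 : Equiv.Perm GolayPt) • o' = o' := g.2.2
    conv_rhs => rw [← e1, ← e2, smul_set_eq_image, smul_set_eq_image,
      ← Finset.image_sdiff _ _ (Equiv.injective _)]
    exact ((Equiv.injective _).mem_finset_image).symm
  let φ : ↥K →* Equiv.Perm {x // x ∈ o \ o'} :=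
    { toFun := fun g => (g.1.1 : Equiv.Perm GolayPt).subtypePerm fun x => (hinv g x).symm
      map_one' := by ext x; rfl
      map_mul' := fun g g' => by ext x; rfl }
  have hinj : Function.Injective φ := by
    rw [injective_iff_map_eq_one]
    intro g hgone
    refine Subtype.ext (Subtype.ext (pair_two_kernel ho ho' (by rw [Finset.inter_comm]; exact h) g.1.2 ?_ g.2.2))
    intro x hx
    exact congrArg Subtype.val (Equiv.Perm.ext_iff.mp hgone ⟨x, hx⟩)
  have hbij : Function.Bijective φ := hinj.bijective_of_nat_card_le (by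
    rw [(card_octad_pair ho ho').2.2 h, Nat.card_perm, Nat.card_eq_fintype_card, Fintype.card_coe, hcard6]
    decide)
  exact ⟨(MulEquiv.ofBijective φ hbij).trans
    (Finset.equivFinOfCardEq hcard6).permCongrHom⟩

/-! ### The disjointness graph -/

/-- Whether some octad in the list is disjoint from both. -/
def commonDisjoint (a b : ℕ) (L : List ℕ) : Bool := L.any fun c => c &&& a == 0 && c &&& b == 0

theorem octad_distance_checks :
    octList.all (fun b => b == m24BaseOctad || wt (b &&& m24BaseOctad) == 0 || wt (b &&& m24BaseOctad) == 4 ||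
      wt (b &&& m24BaseOctad) == 2) = true ∧
    octList.all (fun b => b == m24BaseOctad || !(commonDisjoint b m24BaseOctad
        (octList.filter fun c => c &&& m24BaseOctad == 0)) || wt (b &&& m24BaseOctad) == 4 ||
      wt (b &&& m24BaseOctad) == 0) = true ∧
    octList.all (fun b => !(wt (b &&& m24BaseOctad) == 4) ||
      commonDisjoint b m24BaseOctad (octList.filter fun c => c &&& m24BaseOctad == 0)) = true ∧
    octList.all (fun b => !(wt (b &&& m24BaseOctad) == 2) ||
      (octList.filter fun c => c &&& m24BaseOctad == 0).any fun c => wt (b &&& c) == 4) = true := by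
  decide +kernel

theorem mem_octList_maskOf {o : Finset GolayPt} (ho : o ∈ octads) : maskOf o ∈ octList :=
  mem_octList.mpr ((mem_wordsOfWeight_iff o 8).mp ho)

theorem octList_mem_octads {M : ℕ} (h : M ∈ octList) : setOf24 M ∈ octads :=
  setOf24_mem_wordsOfWeight (mem_octList.mp h).1 (mem_octList.mp h).2

theorem wt_and_mask (o : Finset GolayPt) (N : ℕ) : wt (maskOf o &&& N) = (o ∩ setOf24 N).card := by
  rw [← card_setOf24, setOf24_and, setOf24_maskOf]

theorem disjoint_of_card {s t : Finset GolayPt} (h : (s ∩ t).card = 0) : Disjoint s t :=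
  Finset.disjoint_iff_inter_eq_empty.mpr (Finset.card_eq_zero.mp h)

theorem and_zero_of_card {M N : ℕ} (hM : M < 2 ^ 24) (h : (setOf24 M ∩ setOf24 N).card = 0) : M &&& N = 0 :=
  and_eq_zero_of_disjoint hM (disjoint_of_card h)

/-- Facts on three octads, transported from the base. -/
theorem octad_inter_facts {o b : Finset GolayPt} (ho : o ∈ octads) (hb : b ∈ octads) (hne : b ≠ o) :
    ((b ∩ o).card = 0 ∨ (b ∩ o).card = 4 ∨ (b ∩ o).card = 2) ∧
    ((∃ c ∈ octads, Disjoint c b ∧ Disjoint c o) → (b ∩ o).card = 4 ∨ (b ∩ o).card = 0) ∧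
    ((b ∩ o).card = 4 → ∃ c ∈ octads, Disjoint c b ∧ Disjoint c o) ∧
    ((b ∩ o).card = 2 → ∃ c ∈ octads, Disjoint c o ∧ (b ∩ c).card = 4) := by
  obtain ⟨a, ha, hao⟩ := M24_octad_transitive baseOctad_mem ho
  change a • setOf24 m24BaseOctad = o at hao
  subst hao
  have hb' : a⁻¹ • b ∈ octads := octad_image (inv_mem ha) hb
  set N := m24BaseOctad with hN
  obtain ⟨c1, c2, c3, c4⟩ := octad_distance_checks
  have hM := mem_octList_maskOf hb'
  have hcardsmul : ∀ s t : Finset GolayPt, ((a • s) ∩ (a • t)).card = (s ∩ t).card := fun s t => by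
    rw [smul_set_eq_image, smul_set_eq_image, ← Finset.image_inter _ _ a.injective,
      Finset.card_image_of_injective _ a.injective]
  have e : (b ∩ a • setOf24 N).card = wt (maskOf (a⁻¹ • b) &&& N) := by
    rw [wt_and_mask]
    conv_lhs => rw [← smul_inv_smul a b, hcardsmul]
  have hne' : maskOf (a⁻¹ • b) ≠ N := fun h => hne (by
    rw [← h, setOf24_maskOf, smul_inv_smul])
  have hsm : ∀ {s t : Finset GolayPt}, Disjoint s t → Disjoint (a • s) (a • t) := fun h =>
    (Finset.disjoint_image a.injective).mpr h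
  refine ⟨?_, ?_, ?_, ?_⟩
  · have := List.all_eq_true.mp c1 _ hM
    simp only [Bool.or_eq_true, beq_iff_eq, ← hN] at this
    rw [e]
    rcases this with ((h | h) | h) | h
    · exact absurd h hne'
    all_goals omega
  · rintro ⟨c, hc, hcb, hco⟩
    have hc' : a⁻¹ • c ∈ octads := octad_image (inv_mem ha) hc
    have h0 : ∀ {X : Finset GolayPt}, Disjoint c (a • X) → ((a⁻¹ • c) ∩ X).card = 0 := by
      intro X hX
      rw [← hcardsmul, smul_inv_smul, Finset.disjoint_iff_inter_eq_empty.mp hX, Finset.card_empty]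
    have hcd : commonDisjoint (maskOf (a⁻¹ • b)) N (octList.filter fun c => c &&& N == 0) = true := by
      refine List.any_eq_true.mpr ⟨maskOf (a⁻¹ • c), List.mem_filter.mpr ⟨mem_octList_maskOf hc', ?_⟩, ?_⟩
      · rw [beq_iff_eq]
        exact and_zero_of_card (maskOf_lt _) (by rw [setOf24_maskOf]; exact h0 hco)
      · rw [Bool.and_eq_true, beq_iff_eq, beq_iff_eq]
        exact ⟨and_zero_of_card (maskOf_lt _) (by
            rw [setOf24_maskOf, setOf24_maskOf]; exact h0 (by rwa [smul_inv_smul])),
          and_zero_of_card (maskOf_lt _) (by rw [setOf24_maskOf]; exact h0 hco)⟩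
    have := List.all_eq_true.mp c2 _ hM
    rw [hcd] at this
    simp only [Bool.not_true, Bool.or_false, Bool.or_eq_true, beq_iff_eq, ← hN] at this
    rw [e]
    rcases this with (h | h) | h
    · exact absurd h hne'
    all_goals omega
  · intro h4
    have := List.all_eq_true.mp c3 _ hM
    rw [← e, h4] at this
    simp only [beq_self_eq_true, Bool.not_true, Bool.false_or, commonDisjoint, List.any_eq_true,
      List.mem_filter, Bool.and_eq_true, beq_iff_eq] at this
    obtain ⟨c, ⟨hc, hcN⟩, hcb, -⟩ := this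
    refine ⟨a • setOf24 c, octad_image ha (octList_mem_octads hc), ?_, hsm (disjoint_of_and hcN)⟩
    rw [← smul_inv_smul a b]
    refine hsm ?_
    rw [← setOf24_maskOf (a⁻¹ • b)]
    exact disjoint_of_and hcb
  · intro h2
    have := List.all_eq_true.mp c4 _ hM
    rw [← e, h2] at this
    simp only [beq_self_eq_true, Bool.not_true, Bool.false_or, List.any_eq_true, List.mem_filter,
      beq_iff_eq] at this
    obtain ⟨c, ⟨hc, hcN⟩, hbc⟩ := this
    refine ⟨a • setOf24 c, octad_image ha (octList_mem_octads hc), hsm (disjoint_of_and hcN), ?_⟩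
    rw [← smul_inv_smul a b, hcardsmul, ← wt_and_mask, hbc]

theorem octad_adj {x y : ↥octads} :
    (blockGraph octads).Adj x y ↔ Disjoint (x : Finset GolayPt) (y : Finset GolayPt) := by
  rw [blockGraph, SimpleGraph.fromRel_adj]
  constructor
  · rintro ⟨-, h | h⟩
    · exact h
    · exact h.symm
  · intro h
    refine ⟨fun e => ?_, Or.inl h⟩
    subst e
    rw [disjoint_self, Finset.bot_eq_empty] at h
    have := x.2.2
    rw [h, Finset.card_empty] at this
    exact absurd this (by norm_num)

theorem octad_graph_dist {o o' : Finset GolayPt} (ho : o ∈ octads) (ho' : o' ∈ octads) (hne : o ≠ o') :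
    (blockGraph octads).Connected ∧
    ((blockGraph octads).dist ⟨o, ho⟩ ⟨o', ho'⟩ = 1 ↔ (o ∩ o').card = 0) ∧
    ((blockGraph octads).dist ⟨o, ho⟩ ⟨o', ho'⟩ = 2 ↔ (o ∩ o').card = 4) ∧
    ((blockGraph octads).dist ⟨o, ho⟩ ⟨o', ho'⟩ = 3 ↔ (o ∩ o').card = 2) := by
  -- a walk of length at most three between any two octads
  have hwalk : ∀ x y : ↥octads, x ≠ y → ∃ p : (blockGraph octads).Walk x y,
      ((x.1 ∩ y.1).card = 0 → p.length = 1) ∧ ((x.1 ∩ y.1).card = 4 → p.length = 2) ∧
      ((x.1 ∩ y.1).card = 2 → p.length = 3) := by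
    intro x y hxy
    obtain ⟨hcases, -, h4, h2⟩ := octad_inter_facts y.2 x.2 fun e => hxy (Subtype.ext e)
    rcases hcases with h | h | h
    · have hadj : (blockGraph octads).Adj x y := octad_adj.mpr (disjoint_of_card h)
      refine ⟨.cons hadj .nil, fun _ => by simp, fun e => ?_, fun e => ?_⟩ <;> omega
    · obtain ⟨c, hc, hcx, hcy⟩ := h4 h
      have a1 : (blockGraph octads).Adj x ⟨c, hc⟩ := octad_adj.mpr hcx.symm
      have a2 : (blockGraph octads).Adj ⟨c, hc⟩ y := octad_adj.mpr hcy
      refine ⟨.cons a1 (.cons a2 .nil), fun e => ?_, fun _ => by simp, fun e => ?_⟩ <;> omega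
    · obtain ⟨c, hc, hcy, hxc⟩ := h2 h
      have hxc' : x.1 ≠ c := by
        intro e
        rw [← e, Finset.inter_self, x.2.2] at hxc
        omega
      obtain ⟨-, -, h4', -⟩ := octad_inter_facts hc x.2 hxc'
      obtain ⟨d, hd, hdx, hdc⟩ := h4' hxc
      have a1 : (blockGraph octads).Adj x ⟨d, hd⟩ := octad_adj.mpr hdx.symm
      have a2 : (blockGraph octads).Adj ⟨d, hd⟩ ⟨c, hc⟩ := octad_adj.mpr hdc
      have a3 : (blockGraph octads).Adj ⟨c, hc⟩ y := octad_adj.mpr hcy
      refine ⟨.cons a1 (.cons a2 (.cons a3 .nil)), fun e => ?_, fun e => ?_, fun _ => by simp⟩ <;> omega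
  have hconn : (blockGraph octads).Connected := by
    have : Nonempty ↥octads := ⟨⟨o, ho⟩⟩
    refine ⟨fun x y => ?_⟩
    by_cases h : x = y
    · subst h; exact SimpleGraph.Reachable.refl _
    · exact ⟨(hwalk x y h).choose⟩
  set x : ↥octads := ⟨o, ho⟩
  set y : ↥octads := ⟨o', ho'⟩
  have hxy : x ≠ y := fun e => hne (congrArg Subtype.val e)
  obtain ⟨p, p0, p4, p2⟩ := hwalk x y hxy
  obtain ⟨hcases, hcommon, -, -⟩ := octad_inter_facts ho' ho hne
  have hle := SimpleGraph.dist_le p
  have hd0 : (blockGraph octads).dist x y ≠ 0 := fun e => hxy ((hconn.dist_eq_zero_iff).mp e)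
  obtain ⟨q, hq⟩ := hconn.exists_walk_length_eq_dist x y
  have hone : (blockGraph octads).dist x y = 1 → (o ∩ o').card = 0 := fun e => by
    have := octad_adj.mp (SimpleGraph.dist_eq_one_iff_adj.mp e)
    exact Finset.card_eq_zero.mpr (Finset.disjoint_iff_inter_eq_empty.mp this)
  have htwo : (blockGraph octads).dist x y = 2 → (o ∩ o').card = 4 ∨ (o ∩ o').card = 0 := fun e => by
    have h1 := q.adj_getVert_succ (i := 0) (by omega)
    have h2 := q.adj_getVert_succ (i := 1) (by omega)
    rw [q.getVert_zero] at h1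
    rw [show 1 + 1 = q.length by omega, q.getVert_length] at h2
    exact hcommon ⟨_, (q.getVert 1).2, (octad_adj.mp h1).symm, octad_adj.mp h2⟩
  refine ⟨hconn, ?_, ?_, ?_⟩
  all_goals
    rcases hcases with h | h | h
    all_goals
      constructor
      · intro e
        first | omega | (have := hone e; omega) | (have := htwo e; omega) | (have := p0 h; omega) | (have := p4 h; omega)
      · intro e
        first
          | omega
          | (have := p0 h; omega)
          | (have := p4 h
             rcases Nat.lt_or_ge ((blockGraph octads).dist x y) 2 with hh | hh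
             · have := hone (by omega); omega
             · omega)
          | (have := p2 h
             rcases Nat.lt_or_ge ((blockGraph octads).dist x y) 3 with hh | hh
             · by_cases h1 : (blockGraph octads).dist x y = 1
               · have := hone h1; omega
               · have := htwo (by omega); omega
             · omega)

end CfsgLib.M24Classes
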