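import Cfsg.Agent.M24Classes.CentData
import Cfsg.Agent.M24Classes.Classes
import Cfsg.Agent.M24Classes.Configs

/-!
The centraliser of a fixed-point-free involution.
-/

set_option autoImplicit false

namespace CfsgLib.M24Classes

open Cfsg CfsgLib.Mathieu
open scoped Pointwise

/-- Commutation of tables. -/
def commTab (s t : ℕ) : Bool := allBelow 24 fun i => app s (app t i) == app t (app s i)

theorem commTab_sound {σ τ : Equiv.Perm GolayPt} {s t : ℕ} (hs : Rep enc σ s) (ht : Rep enc τ t)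
    (h : commTab s t = true) : σ * τ = τ * σ := by
  rw [commTab, allBelow_iff] at h
  refine Equiv.ext fun p => enc.injective (Fin.ext ?_)
  have := beq_iff_eq.mp (h (enc p).val (enc p).isLt)
  rw [ht p, hs (τ p), hs p, ht (σ p)] at this
  exact this

theorem cen2_static :
    cen2Tetrad < 2 ^ 24 ∧
    cen2Sextet.contains cen2Tetrad = true ∧ cen2Tetrad.testBit 0 = true ∧
    sextetData.contains cen2Sextet = true ∧
    (cen2Sextet.filter fun M => M.testBit 0) = [cen2Tetrad] ∧
    (sextetData.all fun l => l == cen2Sextet || !(l.all fun M => push tab2Free 24 M == M)) = true ∧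
    cen2Sextet.all (fun M => push tab2Free 24 M == M) = true ∧
    (cen2Tabs.length = 320 ∧ cen2Trans.length = 24) := by
  decide +kernel

/-- The four points of the fixed tetrad. -/
def cen2Pts : List ℕ := [0, app tab2Free 0, cen2Pair.1, cen2Pair.2]

theorem cen2_pair_checks :
    (allBelow 24 fun i => !(cen2Tetrad.testBit i) || cen2Pts.contains i) = true ∧
    cen2Tetrad.testBit cen2Pair.1 = true ∧ app tab2Free cen2Pair.1 = cen2Pair.2 ∧
    cen2Pair.1 < 24 ∧ cen2Pair.2 < 24 ∧ app tab2Free 0 < 24 ∧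
    cen2Pair.1 ≠ 0 ∧ cen2Pair.1 ≠ app tab2Free 0 ∧
    isM24Tab cen2Reduce.1 = true ∧
    allBelow 24 (fun i => app cen2Reduce.2.1 (app cen2Reduce.1 i) == i) = true ∧
    comp cen2Reduce.1 (comp tab2Free cen2Reduce.2.1) = cen2Reduce.2.2.1 ∧
    (m24Base.take 4).all (fun b => cen2Pts.contains (app cen2Reduce.2.1 (idx b))) = true ∧
    cen2Tabs.contains cen2Reduce.2.2.2 = true ∧ app cen2Reduce.2.2.2 cen2Pair.1 = cen2Pair.2 := by
  decide +kernel

theorem cen2_complete :
    stab4.all (fun t => !(commTab t cen2Reduce.2.2.1) ||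
      cen2Tabs.contains (comp cen2Reduce.2.1 (comp t cen2Reduce.1))) = true ∧
    cen2Tabs.all (fun d => !(app d cen2Pair.1 == cen2Pair.1) || cen2Tabs.contains (comp cen2Reduce.2.2.2 d)) = true := by
  decide +kernel

theorem cen2_members :
    cen2Tabs.all (fun t => isM24Tab t && commTab t tab2Free && app t 0 == 0) = true ∧
    allBelow 24 (fun q => isM24Tab (cen2Trans.getD q 0) && commTab (cen2Trans.getD q 0) tab2Free &&
      app (cen2Trans.getD q 0) 0 == q) = true := by
  decide +kernel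

theorem cen2_nodup : cen2Tabs.Nodup ∧ cen2Tabs.all (fun t => allBelow 24 (fun i => app t i < 24) &&
    pack (app t) 24 == t) = true := by
  decide +kernel

theorem cen2_order3 : cen2Trans.all (fun u => cen2Tabs.all fun h =>
    !(allBelow 24 fun i => app u (app h (app u (app h (app u (app h i))))) == i) ||
      (allBelow 24 fun i => app u (app h i) == i) || allBelow 24 fun i => !(app u (app h i) == i)) = true := by
  decide +kernel

/-- The sextet of the involution. -/
def cen2Fam : Finset (Finset GolayPt) := famSet cen2Sextet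

theorem cen2Fam_mem : cen2Fam ∈ sextets :=
  sextets_eq_image ▸ ⟨cen2Sextet, List.contains_iff_mem.mp cen2_static.2.2.2.1, rfl⟩

theorem inv2Free_fix_fam {M : ℕ} (hM : M ∈ cen2Sextet) : inv2Free • setOf24 M = setOf24 M := by
  rw [smul_setOf24 inv2Free_rep, beq_iff_eq.mp (List.all_eq_true.mp cen2_static.2.2.2.2.2.2.1 M hM)]

theorem inv2Free_smul_fam : inv2Free • cen2Fam = cen2Fam := by
  refine Finset.eq_of_subset_of_card_le (fun s hs => ?_) (by rw [Finset.card_smul_finset])
  obtain ⟨s', hs', rfl⟩ := Finset.mem_smul_finset.mp hs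
  obtain ⟨M, hM, rfl⟩ := mem_famSet.mp hs'
  rw [inv2Free_fix_fam hM]; exact hs'

theorem cen2_smul_fam {c : Equiv.Perm GolayPt} (hc : c ∈ M24) (hcomm : c * inv2Free = inv2Free * c) :
    c • cen2Fam = cen2Fam := by
  have hS : c • cen2Fam ∈ famSet '' {l | l ∈ sextetData} := sextets_eq_image ▸ smul_mem_sextets hc cen2Fam_mem
  obtain ⟨l, hl, e⟩ := hS
  have hall : (l.all fun M => push tab2Free 24 M == M) = true := by
    rw [List.all_eq_true]
    intro M hM
    have hmem : setOf24 M ∈ c • cen2Fam := e ▸ mem_famSet.mpr ⟨M, hM, rfl⟩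
    obtain ⟨s, hs, hsM⟩ := Finset.mem_smul_finset.mp hmem
    obtain ⟨N, hN, rfl⟩ := mem_famSet.mp hs
    rw [beq_iff_eq]
    refine setOf24_inj (push_lt inv2Free_rep M) (sextetData_lt l hl M hM) ?_
    rw [← smul_setOf24 inv2Free_rep, ← hsM, ← mul_smul, ← hcomm, mul_smul, inv2Free_fix_fam hN]
  have h := List.all_eq_true.mp cen2_static.2.2.2.2.2.1 l hl
  rw [hall, Bool.not_true, Bool.or_false, beq_iff_eq] at h
  rw [← e, h]; rfl

theorem commTab_complete {σ τ : Equiv.Perm GolayPt} {s t : ℕ} (hs : Rep enc σ s) (ht : Rep enc τ t)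
    (h : σ * τ = τ * σ) : commTab s t = true := by
  rw [commTab, allBelow_iff]
  intro i hi
  obtain ⟨p, rfl⟩ : ∃ p, (enc p).val = i := ⟨enc.symm ⟨i, hi⟩, by rw [Equiv.apply_symm_apply]⟩
  rw [ht p, hs (τ p), hs p, ht (σ p), beq_iff_eq]
  exact congrArg (fun x => (enc x).val) (Equiv.Perm.ext_iff.mp h p)

theorem apply_pt_of_app {σ : Equiv.Perm GolayPt} {t i j : ℕ} (r : Rep enc σ t) (hi : i < 24) (hj : j < 24)
    (e : app t i = j) : σ (pt i) = pt j := r.apply_eq enc (by
  change app t (idx (pt i)) = idx (pt j)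
  rw [idx_pt hi, idx_pt hj, e])

theorem cen2_stab_pair {c : Equiv.Perm GolayPt} (hc : c ∈ M24) (hcomm : c * inv2Free = inv2Free * c)
    (h0 : c (pt 0) = pt 0) (hr : c (pt cen2Pair.1) = pt cen2Pair.1) : ∃ t ∈ cen2Tabs, Rep enc c t := by
  obtain ⟨-, -, htr, l1, l2, l0, -, -, hh, hinv, htc, hbase, -⟩ := cen2_pair_checks
  obtain ⟨σ, hσ, rσ⟩ := inGroup_of_isM24Tab hh
  have rσi : Rep enc σ⁻¹ cen2Reduce.2.1 := fun p => by
    rw [allBelow_iff] at hinv
    have := beq_iff_eq.mp (hinv (enc (σ⁻¹ p)).val (enc _).isLt)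
    rwa [rσ (σ⁻¹ p), perm_apply_inv] at this
  have hfixpts : ∀ i ∈ cen2Pts, c (pt i) = pt i := by
    intro i hi
    have hcs : ∀ p, c p = p → c (inv2Free p) = inv2Free p := fun p hp => by
      rw [← Equiv.Perm.mul_apply, hcomm, Equiv.Perm.mul_apply, hp]
    simp only [cen2Pts, List.mem_cons, List.not_mem_nil, or_false] at hi
    rcases hi with rfl | rfl | rfl | rfl
    · exact h0
    · rw [← apply_pt_of_app inv2Free_rep (by norm_num) l0 rfl]; exact hcs _ h0
    · exact hr
    · rw [← apply_pt_of_app inv2Free_rep l1 l2 htr]; exact hcs _ hr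
  have hfix : ∀ x ∈ m24Base.take 4, (σ * c * σ⁻¹) x = x := by
    intro x hx
    have hmem := List.contains_iff_mem.mp (List.all_eq_true.mp hbase x hx)
    have hp : σ⁻¹ x = pt (app cen2Reduce.2.1 (idx x)) := by
      rw [show app cen2Reduce.2.1 (idx x) = idx (σ⁻¹ x) from rσi x, pt_idx]
    rw [Equiv.Perm.mul_apply, Equiv.Perm.mul_apply, hp, hfixpts _ hmem, ← hp, perm_apply_inv]
  obtain ⟨t, ht, rt⟩ := mem_stab4 (mul_mem (mul_mem hσ hc) (inv_mem hσ)) hfix
  have rtc : Rep enc (σ * (inv2Free * σ⁻¹)) cen2Reduce.2.2.1 := htc ▸ rep_comp rσ (rep_comp inv2Free_rep rσi)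
  have hct : commTab t cen2Reduce.2.2.1 = true := commTab_complete rt rtc (by
    calc σ * c * σ⁻¹ * (σ * (inv2Free * σ⁻¹)) = σ * (c * inv2Free) * σ⁻¹ := by group
      _ = σ * (inv2Free * c) * σ⁻¹ := by rw [hcomm]
      _ = _ := by group)
  have hmem := List.all_eq_true.mp cen2_complete.1 t ht
  rw [hct, Bool.not_true, Bool.false_or] at hmem
  refine ⟨_, List.contains_iff_mem.mp hmem, ?_⟩
  have := rep_comp rσi (rep_comp rt rσ)
  rwa [show σ⁻¹ * (σ * c * σ⁻¹ * σ) = c by group] at this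

theorem cen2_member {t : ℕ} (ht : t ∈ cen2Tabs) :
    ∃ c ∈ M24, Rep enc c t ∧ c * inv2Free = inv2Free * c ∧ c (pt 0) = pt 0 := by
  have h := List.all_eq_true.mp cen2_members.1 t ht
  simp only [Bool.and_eq_true, beq_iff_eq] at h
  obtain ⟨c, hc, r⟩ := inGroup_of_isM24Tab h.1.1
  refine ⟨c, hc, r, commTab_sound r inv2Free_rep h.1.2, r.apply_eq enc ?_⟩
  change app t (idx (pt 0)) = idx (pt 0)
  rw [idx_pt (by norm_num), h.2]

theorem cen2_stab {c : Equiv.Perm GolayPt} (hc : c ∈ M24) (hcomm : c * inv2Free = inv2Free * c)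
    (h0 : c (pt 0) = pt 0) : ∃ t ∈ cen2Tabs, Rep enc c t := by
  obtain ⟨hlt, hT, hT0, hS, hfil, -, -, -⟩ := cen2_static
  obtain ⟨hT4, hTr, htr, l1, l2, l0, n0, n1, -, -, -, -, hel, her⟩ := cen2_pair_checks
  have hm : c • setOf24 cen2Tetrad ∈ cen2Fam :=
    cen2_smul_fam hc hcomm ▸ Finset.smul_mem_smul_finset (mem_famSet.mpr ⟨_, List.contains_iff_mem.mp hT, rfl⟩)
  obtain ⟨N, hN, e⟩ := mem_famSet.mp hm
  have h0T : pt 0 ∈ setOf24 cen2Tetrad := by rw [mem_setOf24, idx_pt (by norm_num)]; exact hT0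
  have hNbit : N.testBit 0 = true := by
    rw [← idx_pt (i := 0) (by norm_num), ← mem_setOf24, e, ← h0]
    exact Finset.smul_mem_smul_finset h0T
  have hNmem : N ∈ [cen2Tetrad] := hfil ▸ List.mem_filter.mpr ⟨hN, hNbit⟩
  have hcT : c • setOf24 cen2Tetrad = setOf24 cen2Tetrad := by rw [← e, List.mem_singleton.mp hNmem]
  have hrT : c (pt cen2Pair.1) ∈ setOf24 cen2Tetrad := by
    rw [← hcT]
    exact Finset.smul_mem_smul_finset (mem_setOf24.mpr (by rw [idx_pt l1]; exact hTr))
  rw [allBelow_iff] at hT4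
  have h4 := hT4 _ (idx_lt (c (pt cen2Pair.1)))
  rw [mem_setOf24.mp hrT, Bool.not_true, Bool.false_or, List.contains_iff_mem] at h4
  simp only [cen2Pts, List.mem_cons, List.not_mem_nil, or_false] at h4
  have hne : ∀ i, i < 24 → idx (c (pt cen2Pair.1)) = i → c (pt i) = pt i → cen2Pair.1 = i := fun i hi e1 e2 => by
    have : c (pt cen2Pair.1) = c (pt i) := by rw [e2, ← e1, pt_idx]
    rw [← idx_pt l1, c.injective this, idx_pt hi]
  rcases h4 with h4 | h4 | h4 | h4
  · exact absurd (hne 0 (by norm_num) h4 h0) n0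
  · refine absurd (hne _ l0 h4 ?_) n1
    rw [← apply_pt_of_app inv2Free_rep (by norm_num) l0 rfl, ← Equiv.Perm.mul_apply, hcomm, Equiv.Perm.mul_apply, h0]
  · exact cen2_stab_pair hc hcomm h0 (idx_injective (by rw [h4, idx_pt l1]))
  · obtain ⟨g, hg, rg, hgc, hg0⟩ := cen2_member (List.contains_iff_mem.mp hel)
    have hgr : g (pt cen2Pair.1) = pt cen2Pair.2 := apply_pt_of_app rg l1 l2 her
    have hfixr : (g⁻¹ * c) (pt cen2Pair.1) = pt cen2Pair.1 := by
      rw [Equiv.Perm.mul_apply, Equiv.Perm.inv_eq_iff_eq, hgr, ← h4, pt_idx]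
    obtain ⟨d, hd, rd⟩ := cen2_stab_pair (mul_mem (inv_mem hg) hc) ((Commute.inv_left hgc).mul_left hcomm)
      (by rw [Equiv.Perm.mul_apply, h0, Equiv.Perm.inv_eq_iff_eq, hg0]) hfixr
    have hd1 : app d cen2Pair.1 = cen2Pair.1 := by
      have := rd (pt cen2Pair.1)
      rw [hfixr] at this
      change app d (idx (pt cen2Pair.1)) = idx (pt cen2Pair.1) at this
      rwa [idx_pt l1] at this
    have h := List.all_eq_true.mp cen2_complete.2 d hd
    rw [hd1, beq_self_eq_true, Bool.not_true, Bool.false_or] at h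
    refine ⟨_, List.contains_iff_mem.mp h, ?_⟩
    have := rep_comp rg rd
    rwa [mul_inv_cancel_left] at this

theorem cen2_mover (q : GolayPt) : ∃ u ∈ M24, Rep enc u (cen2Trans.getD (idx q) 0) ∧
    u * inv2Free = inv2Free * u ∧ u (pt 0) = q := by
  have h := cen2_members.2
  rw [allBelow_iff] at h
  have h' := h (idx q) (idx_lt q)
  simp only [Bool.and_eq_true, beq_iff_eq] at h'
  obtain ⟨u, hu, r⟩ := inGroup_of_isM24Tab h'.1.1
  refine ⟨u, hu, r, commTab_sound r inv2Free_rep h'.1.2, r.apply_eq enc ?_⟩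
  change app _ (idx (pt 0)) = idx q
  rw [idx_pt (by norm_num)]; exact h'.2

theorem card_cen2 : Nat.card {c : Equiv.Perm GolayPt // c ∈ M24 ∧ c * inv2Free = inv2Free * c} = 7680 := by
  choose u hu hru hcu hu0 using cen2_mover
  choose v hv hrv hcv hv0 using fun t : {t // t ∈ cen2Tabs.toFinset} => cen2_member (List.mem_toFinset.mp t.2)
  let F : GolayPt × {t // t ∈ cen2Tabs.toFinset} → {c : Equiv.Perm GolayPt // c ∈ M24 ∧ c * inv2Free = inv2Free * c} :=
    fun x => ⟨u x.1 * v x.2, mul_mem (hu _) (hv _), by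
      rw [mul_assoc, hcv, ← mul_assoc, hcu, mul_assoc]⟩
  have hF : Function.Bijective F := by
    constructor
    · rintro ⟨q, t⟩ ⟨q', t'⟩ e
      have e' : u q * v t = u q' * v t' := congrArg Subtype.val e
      have hq : q = q' := by
        have := Equiv.Perm.ext_iff.mp e' (pt 0)
        rwa [Equiv.Perm.mul_apply, Equiv.Perm.mul_apply, hv0, hv0, hu0, hu0] at this
      subst hq
      have hvv : v t = v t' := mul_left_cancel e'
      refine Prod.ext rfl (Subtype.ext ?_)
      have hb := fun x hx => (Bool.and_eq_true_iff.mp (List.all_eq_true.mp cen2_nodup.2 x hx)).2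
      have pa := beq_iff_eq.mp (hb _ (List.mem_toFinset.mp t.2))
      have pb := beq_iff_eq.mp (hb _ (List.mem_toFinset.mp t'.2))
      show t.1 = t'.1
      rw [← pa, ← pb]
      have hcongr : ∀ n, n ≤ 24 → pack (app t.1) n = pack (app t'.1) n := by
        intro n
        induction n with
        | zero => exact fun _ => rfl
        | succ n ih =>
          intro hn
          simp only [pack]
          have h1 := hrv t (enc.symm ⟨n, hn⟩)
          have h2 := hrv t' (enc.symm ⟨n, hn⟩)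
          rw [hvv] at h1
          rw [Equiv.apply_symm_apply] at h1 h2
          rw [ih (Nat.le_of_succ_le hn), h1, h2]
      exact hcongr 24 le_rfl
    · rintro ⟨c, hc, hcomm⟩
      set q := c (pt 0) with hq
      have hcomm' : (u q)⁻¹ * c * inv2Free = inv2Free * ((u q)⁻¹ * c) :=
        ((Commute.inv_left (hcu q)).mul_left hcomm)
      obtain ⟨t, ht, r⟩ := cen2_stab (mul_mem (inv_mem (hu q)) hc) hcomm' (by
        rw [Equiv.Perm.mul_apply, ← hq, Equiv.Perm.inv_eq_iff_eq, hu0])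
      refine ⟨(q, ⟨t, List.mem_toFinset.mpr ht⟩), Subtype.ext ?_⟩
      show u q * v _ = c
      rw [rep_unique (hrv ⟨t, List.mem_toFinset.mpr ht⟩) r, mul_inv_cancel_left]
  rw [← Nat.card_eq_of_bijective F hF, Nat.card_prod, Nat.card_eq_fintype_card (α := GolayPt), card_golayPt,
    Nat.card_eq_fintype_card, Fintype.card_coe, List.toFinset_card_of_nodup cen2_nodup.1, cen2_static.2.2.2.2.2.2.2.1]

theorem inv2Free_commute_order3 {c : Equiv.Perm GolayPt} (hc : c ∈ M24) (hcomm : c * inv2Free = inv2Free * c)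
    (h3 : orderOf c = 3) : fixCount c = 0 := by
  obtain ⟨u, hu, ru, hcu, hu0⟩ := cen2_mover (c (pt 0))
  obtain ⟨t, ht, r⟩ := cen2_stab (mul_mem (inv_mem hu) hc) ((Commute.inv_left hcu).mul_left hcomm) (by
    rw [Equiv.Perm.mul_apply, Equiv.Perm.inv_eq_iff_eq, hu0])
  have hlen : idx (c (pt 0)) < cen2Trans.length := by
    rw [cen2_static.2.2.2.2.2.2.2.2]; exact idx_lt _
  have hmem : cen2Trans.getD (idx (c (pt 0))) 0 ∈ cen2Trans := by
    rw [List.getD_eq_getElem _ _ hlen]; exact List.getElem_mem _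
  have h := List.all_eq_true.mp (List.all_eq_true.mp cen2_order3 _ hmem) t ht
  have happ : ∀ p : GolayPt, app (cen2Trans.getD (idx (c (pt 0))) 0) (app t (enc p).val) = (enc (c p)).val :=
    fun p => by rw [r p, ru, Equiv.Perm.mul_apply, perm_apply_inv]
  simp only [Bool.or_eq_true, Bool.not_eq_true', allBelow_iff, beq_eq_false_iff_ne, beq_iff_eq,
    ← Bool.not_eq_true] at h
  have hc3 : ∀ p, c (c (c p)) = p := fun p => by
    have := pow_orderOf_eq_one c
    rw [h3] at this
    simpa [pow_succ, mul_assoc] using Equiv.Perm.ext_iff.mp this p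
  rcases h with (h | h) | h
  · refine absurd (fun i hi => ?_) h
    have e : i = (enc (enc.symm ⟨i, hi⟩)).val := by rw [Equiv.apply_symm_apply]
    rw [e, happ, happ, happ, hc3]
  · have h1 : c = 1 := Equiv.ext fun p => enc.injective (Fin.ext (by
      rw [← happ p]; exact h _ (enc p).isLt))
    rw [h1, orderOf_one] at h3
    omega
  · rw [fixCount, Finset.card_eq_zero, Finset.filter_eq_empty_iff]
    intro p _ hp
    exact h _ (enc p).isLt (by rw [happ, hp])

theorem free_involution_centralizer {t : Equiv.Perm GolayPt} (ht : t ∈ M24) (h₂ : orderOf t = 2)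
    (h₀ : ∀ p, t p ≠ p) :
    Nat.card {c : Equiv.Perm GolayPt // c ∈ M24 ∧ c * t = t * c} = 7680 ∧
    (∀ p q : GolayPt, ∃ c ∈ M24, c * t = t * c ∧ c p = q) ∧
    ∃ S ∈ sextets, t • S = S ∧ ∀ c ∈ M24, c * t = t * c → c • S = S := by
  obtain ⟨-, h, hh, rfl⟩ : fixCount t = 0 ∧ ∃ h ∈ M24, h * inv2Free * h⁻¹ = t := by
    rcases conj_inv2_of_fix ht h₂ with e | ⟨e, -⟩
    · exact e
    · rw [fixCount, Finset.filter_false_of_mem (fun p _ => h₀ p), Finset.card_empty] at e
      omega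
  have key : ∀ c, (c ∈ M24 ∧ c * inv2Free = inv2Free * c) ↔
      (h * c * h⁻¹ ∈ M24 ∧ h * c * h⁻¹ * (h * inv2Free * h⁻¹) = h * inv2Free * h⁻¹ * (h * c * h⁻¹)) := by
    intro c
    refine and_congr ⟨fun hc => mul_mem (mul_mem hh hc) (inv_mem hh), fun hc => ?_⟩ ?_
    · have := mul_mem (mul_mem (inv_mem hh) hc) hh
      simpa [mul_assoc] using this
    · rw [show h * c * h⁻¹ * (h * inv2Free * h⁻¹) = h * (c * inv2Free) * h⁻¹ by group,
        show h * inv2Free * h⁻¹ * (h * c * h⁻¹) = h * (inv2Free * c) * h⁻¹ by group,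
        mul_left_inj, mul_right_inj]
  refine ⟨?_, fun p q => ?_, h • cen2Fam, smul_mem_sextets hh cen2Fam_mem, ?_, fun c hc hcomm => ?_⟩
  · rw [← card_cen2]
    exact (Nat.card_congr ((MulAut.conj h).toEquiv.subtypeEquiv key)).symm
  · obtain ⟨u, hu, -, hcu, hu0⟩ := cen2_mover (h⁻¹ p)
    obtain ⟨w, hw, -, hcw, hw0⟩ := cen2_mover (h⁻¹ q)
    obtain ⟨h1, h2⟩ := (key (w * u⁻¹)).mp ⟨mul_mem hw (inv_mem hu),
      ((show Commute w inv2Free from hcw).mul_left (Commute.inv_left hcu))⟩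
    refine ⟨_, h1, h2, ?_⟩
    rw [Equiv.Perm.mul_apply, Equiv.Perm.mul_apply, Equiv.Perm.mul_apply, ← hu0, perm_inv_apply, hw0,
      perm_apply_inv]
  · rw [mul_smul, mul_smul, inv_smul_smul, inv2Free_smul_fam]
  · obtain ⟨h1, h2⟩ := (key (h⁻¹ * c * h)).mpr (by simp only [mul_assoc, mul_inv_cancel, mul_one, mul_inv_cancel_left]; exact ⟨hc, by simpa [mul_assoc] using hcomm⟩)
    have := cen2_smul_fam h1 h2
    rw [mul_smul, mul_smul, inv_smul_eq_iff] at this
    exact this

theorem commuting_three_two {x s : Equiv.Perm GolayPt} (hx : x ∈ M24) (hs : s ∈ M24) (h₃ : orderOf x = 3)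
    (h₂ : orderOf s = 2) (hc : Commute x s) :
    (fixCount x = 6 ∧ fixCount s = 8) ∨ (fixCount x = 0 ∧ fixCount s = 0) := by
  rcases conj_inv2_of_fix hs h₂ with ⟨e, h, hh, rfl⟩ | ⟨e, -⟩
  · refine Or.inr ⟨?_, e⟩
    have h1 : h⁻¹ * x * h ∈ M24 := mul_mem (mul_mem (inv_mem hh) hx) hh
    have h2 : h⁻¹ * x * h * inv2Free = inv2Free * (h⁻¹ * x * h) := by
      have hc' : x * (h * inv2Free * h⁻¹) = h * inv2Free * h⁻¹ * x := hc
      calc h⁻¹ * x * h * inv2Free = h⁻¹ * (x * (h * inv2Free * h⁻¹)) * h := by group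
        _ = h⁻¹ * (h * inv2Free * h⁻¹ * x) * h := by rw [hc']
        _ = _ := by group
    have h3 : orderOf (h⁻¹ * x * h) = 3 := by
      have := (MulAut.conj h⁻¹).orderOf_eq x
      rw [MulAut.conj_apply, inv_inv] at this
      rw [this, h₃]
    have := inv2Free_commute_order3 h1 h2 h3
    rw [← fixCount_conj x h⁻¹, inv_inv]
    exact this
  · refine Or.inl ⟨?_, e⟩
    rcases conj_ord3_of_fix hx h₃ with ⟨e3, -⟩ | ⟨e3, -⟩
    · exfalso
      have hinv : ∀ p, s p = p ↔ s (x p) = x p := fun p => by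
        rw [show s (x p) = x (s p) from Equiv.Perm.ext_iff.mp hc.symm p, x.injective.eq_iff]
      let y : Equiv.Perm {p // s p = p} := x.subtypePerm (fun p => (hinv p).symm)
      have hy : y ^ 3 ^ 1 = 1 := by
        refine Equiv.ext fun p => Subtype.ext ?_
        have h33 := pow_orderOf_eq_one x
        rw [h₃] at h33
        have h := Equiv.Perm.ext_iff.mp h33 p.1
        simp only [y, pow_one, Equiv.Perm.subtypePerm_pow, Equiv.Perm.subtypePerm_apply, Equiv.Perm.one_apply] at h ⊢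
        exact h
      have : Fact (Nat.Prime 3) := ⟨Nat.prime_three⟩
      obtain ⟨a, ha⟩ := Equiv.Perm.exists_fixed_point_of_prime (p := 3) (n := 1)
        (by rw [Fintype.card_subtype]; change ¬ 3 ∣ fixCount s; omega) hy
      rw [fixCount, Finset.card_eq_zero, Finset.filter_eq_empty_iff] at e3
      exact e3 (Finset.mem_univ a.1) (congrArg Subtype.val ha)
    · exact e3

end CfsgLib.M24Classes
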