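import Cfsg.Agent.M24Classes.Classes
import Cfsg.Agent.Mathieu.SmallOrders

/-!
The stabiliser of the pair and the two-point group.
-/

set_option autoImplicit false

namespace CfsgLib.M24Classes

open Cfsg CfsgLib.Mathieu
open scoped Pointwise

theorem pair_apply {b : Equiv.Perm GolayPt}
    (hb : b • ({none, some 0} : Finset GolayPt) = {none, some 0}) :
    (b none = none ∧ b (some 0) = some 0) ∨ (b none = some 0 ∧ b (some 0) = none) := by
  have h1 : b none ∈ ({none, some 0} : Finset GolayPt) := by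
    rw [← hb]; exact Finset.smul_mem_smul_finset (by simp)
  have h2 : b (some 0) ∈ ({none, some 0} : Finset GolayPt) := by
    rw [← hb]; exact Finset.smul_mem_smul_finset (by simp)
  have hne : b none ≠ b (some 0) := fun e => Option.some_ne_none _ (b.injective e).symm
  simp only [Finset.mem_insert, Finset.mem_singleton] at h1 h2
  rcases h1 with h1 | h1 <;> rcases h2 with h2 | h2
  · exact absurd (h1.trans h2.symm) hne
  · exact Or.inl ⟨h1, h2⟩
  · exact Or.inr ⟨h1, h2⟩
  · exact absurd (h1.trans h2.symm) hne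

theorem relIndex_SporM22 (g : Equiv.Perm GolayPt) (hg : g ∈ M24) (h₁ : g none = some 0) (h₂ : g (some 0) = none) :
    Spor.M22.relIndex (M24 ⊓ MulAction.stabilizer (Equiv.Perm GolayPt) ({none, some 0} : Finset GolayPt)) = 2 := by
  set K := M24 ⊓ MulAction.stabilizer (Equiv.Perm GolayPt) ({none, some 0} : Finset GolayPt)
  have hgK : g ∈ K := ⟨hg, by
    show g • ({none, some 0} : Finset GolayPt) = {none, some 0}
    rw [Finset.smul_finset_insert, Finset.smul_finset_singleton,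
      Equiv.Perm.smul_def, Equiv.Perm.smul_def, h₁, h₂, Finset.pair_comm]⟩
  rw [Subgroup.relIndex, Subgroup.index_eq_two_iff]
  refine ⟨⟨g, hgK⟩, fun b => ?_⟩
  simp only [Subgroup.mem_subgroupOf, Subgroup.coe_mul, mem_SporM22, Equiv.Perm.mul_apply, h₁, h₂]
  rcases pair_apply b.2.2 with ⟨e1, e2⟩ | ⟨e1, e2⟩
  · exact Or.inr ⟨⟨⟨b.2.1, e1⟩, e2⟩, fun h => Option.some_ne_none _ (e2.symm.trans h.1.2)⟩
  · exact Or.inl ⟨⟨⟨mul_mem b.2.1 hg, e2⟩, e1⟩, fun h => Option.some_ne_none _ (e1.symm.trans h.1.2)⟩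

theorem five_points (p q r : GolayPt) (hp : p ≠ none) (hp0 : p ≠ some 0) (hq : q ≠ none) (hq0 : q ≠ some 0)
    (hr : r ≠ none) (hr0 : r ≠ some 0) (hpq : p ≠ q) (hpr : p ≠ r) :
    ∃ h ∈ Spor.M22, h p = p ∧ h q = r := by
  have h0 : (none : GolayPt) ≠ some 0 := (Option.some_ne_none _).symm
  have ext4 : ∀ a : GolayPt, a ≠ none → a ≠ some 0 → p ≠ a → ∃ v : Fin 5 → GolayPt, Function.Injective v ∧
      v 0 = none ∧ v 1 = some 0 ∧ v 2 = p ∧ v 3 = a := by
    intro a ha ha0 hpa
    obtain ⟨e, -, he⟩ := Finset.exists_mem_notMem_of_card_lt_card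
      (s := ({none, some 0, p, a} : Finset GolayPt)) (t := Finset.univ)
      (Finset.card_le_four.trans_lt (by rw [Finset.card_univ, card_golayPt]; norm_num))
    simp only [Finset.mem_insert, Finset.mem_singleton, not_or] at he
    refine ⟨![none, some 0, p, a, e], ?_, rfl, rfl, rfl, rfl⟩
    intro i j hij
    fin_cases i <;> fin_cases j <;> first | rfl | (simp at hij <;> grind)
  obtain ⟨x, hx, x0, x1, x2, x3⟩ := ext4 q hq hq0 hpq
  obtain ⟨y, hy, y0, y1, y2, y3⟩ := ext4 r hr hr0 hpr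
  obtain ⟨h, hh, hxy⟩ := M24_map_five x y hx hy
  refine ⟨h, mem_SporM22.mpr ⟨⟨hh, ?_⟩, ?_⟩, ?_, ?_⟩
  · have := hxy 0; rwa [x0, y0] at this
  · have := hxy 1; rwa [x1, y1] at this
  · have := hxy 2; rwa [x2, y2] at this
  · have := hxy 3; rwa [x3, y3] at this

theorem not_inner_SporM22 (g : Equiv.Perm GolayPt) (hg : g ∈ M24) (h₁ : g none = some 0) (h₂ : g (some 0) = none) :
    ¬ ∃ h ∈ Spor.M22, ∀ x ∈ Spor.M22, g * x * g⁻¹ = h * x * h⁻¹ := by
  rintro ⟨h, hh, hconj⟩
  set c := h⁻¹ * g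
  have hh' := mem_SporM22.mp hh
  have hc : c ∈ M24 := mul_mem (inv_mem hh'.1.1) hg
  have c0 : c none = some 0 := by
    show h⁻¹ (g none) = _
    rw [h₁, Equiv.Perm.inv_eq_iff_eq, hh'.2]
  have c1 : c (some 0) = none := by
    show h⁻¹ (g (some 0)) = _
    rw [h₂, Equiv.Perm.inv_eq_iff_eq, hh'.1.2]
  have hcomm : ∀ x ∈ Spor.M22, ∀ p, c (x p) = x (c p) := fun x hx p => by
    have e : c * x = x * c := by
      have := hconj x hx
      calc c * x = h⁻¹ * (g * x * g⁻¹) * g := by simp only [c]; group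
        _ = x * (h⁻¹ * g) := by rw [this]; group
    exact Equiv.Perm.ext_iff.mp e p
  have hfix : ∀ p, p ≠ none → p ≠ some 0 → c p = p := by
    intro p hp hp0
    by_contra hne
    have hr : c p ≠ none := fun e => hp0 (c.injective (e.trans c1.symm))
    have hr0 : c p ≠ some 0 := fun e => hp (c.injective (e.trans c0.symm))
    obtain ⟨r, -, hr'⟩ := Finset.exists_mem_notMem_of_card_lt_card
      (s := ({none, some 0, p, c p} : Finset GolayPt)) (t := Finset.univ)
      (Finset.card_le_four.trans_lt (by rw [Finset.card_univ, card_golayPt]; norm_num))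
    simp only [Finset.mem_insert, Finset.mem_singleton, not_or] at hr'
    obtain ⟨x, hx, hxp, hxq⟩ := five_points p (c p) r hp hp0 hr hr0 hr'.1 hr'.2.1 (Ne.symm hne)
      (Ne.symm hr'.2.2.1)
    have := hcomm x hx p
    rw [hxp, hxq] at this
    exact hr'.2.2.2 this.symm
  have hord : orderOf c = 2 := by
    have := Fact.mk Nat.prime_two
    refine orderOf_eq_prime (Equiv.ext fun p => ?_) fun h1 => ?_
    · rw [pow_two, Equiv.Perm.mul_apply, Equiv.Perm.one_apply]
      by_cases hp : p = none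
      · rw [hp, c0, c1]
      · by_cases hp0 : p = some 0
        · rw [hp0, c1, c0]
        · rw [hfix p hp hp0, hfix p hp hp0]
    · exact Option.some_ne_none _ (c0.symm.trans (by rw [h1]; rfl))
  have h22 : 22 ≤ fixCount c := by
    have hsub : Finset.univ \ ({none, some 0} : Finset GolayPt) ⊆ Finset.univ.filter fun p => c p = p := by
      intro p hp
      simp only [Finset.mem_sdiff, Finset.mem_insert, Finset.mem_singleton, not_or] at hp
      simp [hfix p hp.2.1 hp.2.2]
    refine le_trans (le_of_eq ?_) (Finset.card_le_card hsub)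
    rw [← Finset.compl_eq_univ_sdiff, Finset.card_compl, card_golayPt, Finset.card_pair (Option.some_ne_none _).symm]
  rcases conj_inv2_of_fix hc hord with ⟨e, -⟩ | ⟨e, -⟩ <;> omega

theorem normalises_SporM22 (g : Equiv.Perm GolayPt) (hg : g ∈ M24) (h₁ : g none = some 0) (h₂ : g (some 0) = none) :
    ∀ x ∈ Spor.M22, g * x * g⁻¹ ∈ Spor.M22 := by
  intro x hx
  obtain ⟨⟨hx, x0⟩, x1⟩ := mem_SporM22.mp hx
  have i0 : g⁻¹ none = some 0 := Equiv.Perm.inv_eq_iff_eq.mpr h₂.symm
  have i1 : g⁻¹ (some 0) = none := Equiv.Perm.inv_eq_iff_eq.mpr h₁.symm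
  refine mem_SporM22.mpr ⟨⟨mul_mem (mul_mem hg hx) (inv_mem hg), ?_⟩, ?_⟩
  · rw [Equiv.Perm.mul_apply, Equiv.Perm.mul_apply, i0, x1, h₂]
  · rw [Equiv.Perm.mul_apply, Equiv.Perm.mul_apply, i1, x0, h₁]

end CfsgLib.M24Classes
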