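import Cfsg.Agent.M24Classes.OrbitTree

/-! Spanning tree of the trios through the base octad. -/

set_option autoImplicit false

namespace CfsgLib.M24Classes

/-- Tree. -/
def baseTriosTree : OTree :=
  .node 0 (.node 0 (.node 0 .nil (.node 1 (.node 1 .nil .nil) .nil)) (.node 1 (.node 0 (.node 0 .nil (.node 1 .nil .nil)) .nil) .nil)) (.node 1 (.node 0 .nil (.node 1 (.node 0 (.node 0 .nil .nil) .nil) .nil)) .nil)

end CfsgLib.M24Classes
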