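import Cfsg.Agent.M24Classes.OrbitTree

/-! Orbit data for a configuration stabiliser. -/

set_option autoImplicit false
set_option maxRecDepth 20000

namespace CfsgLib.M24Classes

/-- The configuration. -/
def cfgDodecads : List ℕ := [28637, 16748578]

/-- Tables of members of its stabiliser. -/
def cfgDodecadsTabs : List ℕ := [74616752794794652563001664612974947560928681172465878801,
  270969614621824382285137315058222047590572429240284808211]

/-- Their byte tables. -/
def cfgDodecadsBytes : List (List ℕ) := [[129455514591541755319936192370724566216797647223403059792865128523562859932936520190283362008618927024064585313782753564166972428377827500404456810960301919828294893408913102736283196845736250648747590403615546372088346259977891871946329887227746606751407271470119494945123220916566716694396645118939343551876825660479411654496156358512628306845127409066308586286228263428903778604922220189384905871953687542913656337199358339722222418608010522423299966176881096170763356581373725285776940160319978401140182646861115468813415711343647442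15924320733799863637222934637506466913910762928447339385915029050246882270880656159052054718401905391628786812090815450261506962823745142271876449498335312093010526289882989433983798034861256431579492026814145800119184254228637573284378213080278308689101406606994071156602724128996762311078547525085399525145179552289626371311164354382685495316537634487415895548706414940019020593740275906724649467584530811917320295301937930201234559587737540694179585874817083169334332896317680726128411096284155478779328709291683543068433706805031274225148657943477145943157285703297613748861782402504408958336279535372041928997625281456848958322447884850042938119904342728235320136495535081943682683664329052992692241692137754693895025268432037374678761132061129160930103794614078362021075182918735195486079460991480282086305358408337633491038204677976382835836426295142230097672475115110468711180446682586879806776046886495639792792831054912962383573978539026934133945930261870339912095494602739047351443839330835253884745933647298544637259778892299439243442755128909613057289074173151437280734203458320307112965071711430041945014858202049809912957378287585643302452880757861123555203289376137482727402614056762710807419365162158845407016223585621841665739417599127445230344865620745111090861338638102628031322457441979858944,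 20765130864643158308295136846705574098924433299106443301326350855018718728317609635697488668194571757268191777099053682376189635817860216694574451567428089081980541755088173576416925250825440348635410009805752994179829945667570133601471462441376389696067726811777321184715239433417009749105746365889066686104872923995415281431501137562693092124464773440960669549234033382703738789193874974528787346011620383819054982700926500959955663427839945388408776956854532039454661668403273458387977720997681798627182727234653770134953767339990558127855526357270684850920325159765106318747039255606905677018336449616151058190697757979000091552813987153591829191558439240903046113102664826207302949309840836396515643291409056617290618947514213444063377766221010382465331878659713269141711396904772400596896845845112490563957299195938913392436967360743033679411656179600847502254892534339148905813866324781105020799123810217798009691467696540612516853066391246710852939488337100718465409161697686556142258467032928480562752941582288601903380308886213316240310686152845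544274717378259308489875004738302955612105245979883938123733165149893330970154091643083798020409696355042295007390686386213313645330931716513565833937947397907434072485633064013847633241940623440437092233131493857385233844453944492318288281182711267051707293137539589060078295545286802361118080854895311176423430530329243386485284021432481625620485343030419413921487002648810537299248639509114099341660850008270732449145292448776974157084911487548217061786574994287371697846316509169718698162977371824773164842911017873237164726002363530676597553718268497134873036547630196247912675469551650531575084939492025039239238001090373957802740419204930521525673096959043225453524537712943164091465402899614233224956110982157689515506724174221340725345213332812898312474273205628717146746457151426789376, 4083847592792805637375365709953845944004188541243075669151440114622033022996068919291517482828975516676018447147537817218748257453247277820269871391858293033563483024544806761359188677469438418270968215752105352771392622224140145589427889505973031589814086808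522496158130457901595545808802550483826113716095212211262282377120550340184282794247959197850724836161303525678490332599229047633543930496891981701369724489413732895364452469427908616608592612699887268465027565852068778183978907429570007034650951846374789178181589790781627552873474932556075762230640762356297203566837902522197648150834839459778510117862635928907311455053362052199024109264447753778569393270849272384200658792494778927035360523123586707668930565395863168187606013042867325870445139665073796901085010608024838933193777017328976854627250127287604017673971192873959339362799480176406588333303401524068923891129002354196712906111487050990428347676960785793432222973885680387204064701505757739174743161891769902920010187944026152896570553438951127534940441683890892173019385092872454078578701419995618738827745757286903987198681363721956901873933503323694630064935708075017636497998256811882538655097553447574679243239705137877643950967338897305468453191694108790708019778436912594920515442596405340939581230502781501505811223884580262460021662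9290075463517954649146717724538908950018672897186823699614594182282530090971780561888046978104996718663071597269914535782909677839210345255972551749242228503440702414158895856504166485349768632540738061344701987806663270726284592066972192057610488211150489213296557302210262894405939687921016207353030833265431720853821923747960517477262228862870433554501873016283915199740997530207051224414894404708154923618233513003096175531625765838594799931591625469056951001767373942338345449867564581075714384984120134456180621398654656184320],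
  [34382898114744657857534675188301072207712065056517411334646548578127385440013423360215785272183674117271911118520770085447248031054421578494471311104573376310178848597621616342177374845487082156417425509448700124351389886617312996891466493437852336118127703976330322879562732435025945879361344687840734843498542919290893111084225959979413043661370379408579636103514708143070071495697603401182024828338924915445234666678453552008929923772502428138228823890690264340030096954714693566871322153986182845960177549916289537878544748114189416015697689150539055413785370190453902704963793910583465590033426979257498259316957976739983739850858429464468444097933448728067685375470207932816939948597683387913976754302189356536156309716980740530053709435570418498594870882796581129950685789487498068207149789289554656610417897451185259990862181490757692955158990483880489233212411907535781294289751051832647185263008359750860530661465444818894592260223178148393269916931399486568967159776146216036645803190858870843721258327462553297076411162064779065145569029173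93203433786492751085028309506965220638074400895090857941946382198885895120759679581664476683100190629508579869317928823312107035474314013206293818994349650581916924655909855176536595609804887597094534905789176752939402713432928267976895711448275847653048161228082618806610525642100295525520357494991840771192535774784435978780554797776533441607680942042309447172510916919301360817442827707401414042304957370733884116097594294902273107261684190635847035124367241302992502707524585042108610651851591389444673725277798743809265840509987489991526996170746887252654864211147407175335260306100970638290600503873995963371012846390225869718137075539443728507702314881732668549357060572711923166233057673771359482298347309683994746974657497874235754615960847134572158546164888392278311380185606960109846528, 30257987095095060194649466646924247776015865935712752873171649689725097876679130180294184894763664860479595444160696034327458012860929401181361308882191606625688509904234451192172765250637461643882159519963160813286452486854680514052958770536469985111811056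468099433208726807111036916861631566646894779302587577889008067878912542233110181715389457985972589493684479812781442036268906585191252209932456059840088459277223326258114570663347247169561446079075579968339842507528139826410144684684118547983141303753670263018293274280207795173870572127008642242061952903408586444394075351425856010790570878889038113188441447919180377392875195477541059995412193270065723842790866003150043309514586903368640143568137055161280730747484540647030224356025599692262314452331458350910939472260263240127955546300294975853657871305470408325906981759554279082424828148000558533860564233904577442993228900653746363492711828127866275758600290196484283229867835703059516039828017393024859845491293328059493771131460495985822676863448631100041109410645339763672946868919711548475005780088089563083622767836439388008142848210510258075760352488430098252421276916980473024704306298525719096904626414435873371546064383839937091884251900853501559749989430610406063247943350097157458309169496220812774128326160610672435972709724076753089454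881244411678294332307874855817306261380500115781618426876868249777784771116001440635785341044030724101291490332882877660734190956073465071391629121050496292875945163064706794508957037189360784447590475842744997361314855820154628259904832458646068681045619810595739661141808798700343237612801106969518732136668255773797813391357707318644484236551651281506557274655834445688645675618929181506648026957730902672907897311836830304302183405412157903082213169290549628596831972602698501359354975287179673256605395966718280012245821426325520384, 5524460047203958976201947497999549846132870672635336315191772460031838771968024469553192418572235391099230311237671188925725778405979418037382514975649643200151689373035141107521373987230018436410652189360300054089993265622450724530175679021421171759839954749023478406241596774874658554777099882896633784006726902217603119986650294274086650533469435032876617715698564690299218539307756648698390439931297271952790873610488019876170819930203693897683258514375022542268627518776886220687987201203321452782698061348311242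7913767489243043743266541873902923417963841856011580427052565534066037096355247419934459721778220799616368625947241591246762631511016599005701406174000041414231344263067191925107989861135303959912754150927834080002747763043987819466562589139878087719022013243741455841065834425989088882854032932130195303870792426482283245309735110832450982264356137421797246262885517133797013315827209921674798388927823413260287952494300908058600935754515975368818821013872683624977143732590795253691067884501864595355961290009827522083993407779587223866899045237508679583854767799058564012657950615942693019415883875182136225175485962788817301690689610542695259077157041434561880013767406719921217154324936020268768734301926045486602181010808498797387364840630433860085923285981008350686024235964402368103057942465795195839624333422137578295141832266434004004969973294350344207300110810213543040412035186733766392752692758959746520982949313039512366114434215325444115349149094615896186676506483679319199067113544136087214586924099071530075691826954196859565742814705331457570781542151000827098014657687079107253401206044789812398878405898281452546071947759812258946554044206164941421987748626155868766163334323890283882400077206209355148413820407063414668758779515888623981295446500463507850533571005504461628055681800064708835595908930389147648]]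

/-- Root of class 0. -/
def cfgDodecadsSextetRep0 : List ℕ := [8388615, 147496, 268544, 1082880, 2621632, 4268048]

/-- Spanning tree of class 0. -/
def cfgDodecadsSextetTree0 : OTree :=
  .node 0 (.node 0 (.node 0 (.node 0 (.node 0 (.node 0 (.node 0 (.node 1 (.node 0 (.node 0 .nil
  .nil) (.node 1 .nil .nil)) .nil) (.node 1 (.node 0 (.node 0 (.node 1 .nil .nil) (.node 1 .nil
  .nil)) .nil) .nil)) .nil) (.node 1 (.node 0 (.node 0 (.node 0 (.node 0 (.node 1 .nil .nil)
  (.node 1 (.node 0 .nil .nil) .nil)) .nil) (.node 1 (.node 0 (.node 0 (.node 0 .nil .nil)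
  (.node 1 .nil .nil)) (.node 1 (.node 0 (.node 0 .nil .nil) (.node 1 (.node 0 .nil .nil) .nil))
  .nil)) .nil)) .nil) .nil)) (.node 1 (.node 0 (.node 1 (.node 0 (.node 0 (.node 1 (.node 0 .nil
  .nil) .nil) .nil) (.node 1 (.node 0 (.node 1 (.node 0 .nil .nil) .nil) (.node 1 (.node 0
  (.node 0 .nil .nil) .nil) .nil)) .nil)) .nil) (.node 1 (.node 0 (.node 0 (.node 0 (.node 0
  (.node 1 .nil .nil) .nil) (.node 1 (.node 0 (.node 0 (.node 1 .nil .nil) .nil) .nil) .nil))
  .nil) (.node 1 (.node 0 (.node 1 .nil .nil) .nil) .nil)) .nil)) .nil)) (.node 1 (.node 0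
  (.node 0 (.node 0 (.node 0 (.node 0 (.node 1 (.node 0 .nil (.node 1 .nil .nil)) .nil) (.node 1
  (.node 1 (.node 0 .nil .nil) .nil) .nil)) (.node 1 (.node 0 (.node 0 (.node 0 (.node 0 .nil
  .nil) .nil) .nil) (.node 1 (.node 0 (.node 0 .nil (.node 1 .nil .nil)) .nil) .nil)) .nil))
  (.node 1 (.node 0 (.node 0 (.node 1 (.node 0 .nil (.node 1 .nil .nil)) .nil) (.node 1 (.node 0
  .nil (.node 1 (.node 0 .nil .nil) .nil)) .nil)) (.node 1 (.node 0 (.node 0 (.node 0 .nil
  (.node 1 .nil .nil)) (.node 1 .nil .nil)) .nil) .nil)) .nil)) (.node 1 (.node 0 (.node 0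
  (.node 1 (.node 0 .nil (.node 1 .nil .nil)) .nil) (.node 1 (.node 0 (.node 0 (.node 1 .nil
  .nil) (.node 1 (.node 1 .nil .nil) .nil)) .nil) .nil)) (.node 1 (.node 0 (.node 0 (.node 0
  (.node 1 .nil .nil) .nil) (.node 1 (.node 0 (.node 0 .nil .nil) (.node 1 (.node 1 .nil .nil)
  .nil)) .nil)) (.node 1 (.node 0 (.node 0 .nil (.node 1 .nil .nil)) .nil) .nil)) .nil)) .nil))
  .nil) .nil)) (.node 1 (.node 0 (.node 0 (.node 0 (.node 0 .nil (.node 1 (.node 0 (.node 0
  (.node 0 .nil .nil) (.node 1 (.node 0 .nil (.node 1 (.node 1 .nil .nil) .nil)) .nil)) .nil)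
  .nil)) (.node 1 (.node 0 (.node 0 (.node 1 (.node 0 .nil (.node 1 (.node 1 .nil .nil) .nil))
  .nil) (.node 1 (.node 0 (.node 0 .nil .nil) (.node 1 (.node 0 .nil (.node 1 (.node 0 .nil
  .nil) .nil)) .nil)) .nil)) .nil) .nil)) (.node 1 (.node 0 (.node 0 (.node 0 (.node 0 (.node 0
  .nil .nil) (.node 1 (.node 0 (.node 0 .nil .nil) (.node 1 .nil .nil)) .nil)) (.node 1 (.node 0
  (.node 0 (.node 0 .nil .nil) (.node 1 (.node 1 .nil .nil) .nil)) (.node 1 (.node 0 (.node 0
  .nil .nil) .nil) .nil)) .nil)) (.node 1 (.node 0 (.node 1 .nil .nil) (.node 1 .nil .nil))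
  .nil)) (.node 1 (.node 0 (.node 0 .nil (.node 1 (.node 0 (.node 1 (.node 1 .nil .nil) .nil)
  (.node 1 (.node 0 .nil (.node 1 .nil .nil)) .nil)) .nil)) (.node 1 .nil .nil)) .nil)) .nil))
  (.node 1 (.node 0 (.node 0 (.node 0 (.node 0 (.node 0 .nil (.node 1 .nil .nil)) (.node 1
  (.node 0 (.node 0 (.node 1 .nil .nil) (.node 1 .nil .nil)) (.node 1 .nil .nil)) .nil)) (.node
  1 (.node 0 (.node 0 .nil (.node 1 (.node 0 .nil .nil) .nil)) (.node 1 (.node 0 (.node 1 .nil
  .nil) .nil) .nil)) .nil)) (.node 1 (.node 1 (.node 0 (.node 1 .nil .nil) (.node 1 .nil .nil))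
  .nil) .nil)) (.node 1 (.node 0 (.node 0 (.node 0 (.node 0 .nil (.node 1 (.node 0 (.node 0 .nil
  .nil) (.node 1 .nil .nil)) .nil)) (.node 1 (.node 0 .nil (.node 1 (.node 0 (.node 0 .nil .nil)
  (.node 1 .nil .nil)) .nil)) .nil)) (.node 1 (.node 0 (.node 0 (.node 1 .nil .nil) .nil) .nil)
  .nil)) .nil) .nil)) .nil)) .nil)) (.node 1 (.node 0 (.node 0 (.node 0 (.node 1 (.node 0 (.node
  1 (.node 0 (.node 1 .nil .nil) (.node 1 (.node 1 .nil .nil) .nil)) .nil) (.node 1 (.node 0
  (.node 0 (.node 0 .nil .nil) (.node 1 .nil .nil)) (.node 1 (.node 0 (.node 1 .nil .nil) .nil)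
  .nil)) .nil)) .nil) (.node 1 (.node 0 (.node 0 (.node 0 (.node 0 .nil (.node 1 (.node 0 .nil
  .nil) .nil)) (.node 1 (.node 0 (.node 1 .nil .nil) (.node 1 (.node 0 (.node 1 .nil .nil) .nil)
  .nil)) .nil)) (.node 1 (.node 0 (.node 0 (.node 0 .nil .nil) (.node 1 (.node 0 .nil .nil)
  .nil)) (.node 1 (.node 1 (.node 0 .nil .nil) .nil) .nil)) .nil)) (.node 1 (.node 0 (.node 0
  (.node 1 (.node 1 (.node 1 .nil .nil) .nil) .nil) (.node 1 (.node 0 .nil (.node 1 (.node 0
  .nil (.node 1 .nil .nil)) .nil)) .nil)) (.node 1 (.node 0 (.node 0 (.node 1 (.node 1 (.node 1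
  .nil .nil) .nil) .nil) .nil) .nil) .nil)) .nil)) .nil)) (.node 1 (.node 0 (.node 0 (.node 0
  (.node 0 (.node 0 (.node 1 (.node 0 .nil .nil) .nil) .nil) (.node 1 (.node 0 (.node 1 (.node 0
  .nil .nil) .nil) (.node 1 (.node 1 .nil .nil) .nil)) .nil)) (.node 1 (.node 0 (.node 0 (.node
  0 .nil .nil) (.node 1 (.node 0 .nil (.node 1 .nil .nil)) .nil)) (.node 1 (.node 0 .nil (.node
  1 .nil .nil)) .nil)) .nil)) (.node 1 (.node 0 (.node 0 .nil (.node 1 (.node 0 .nil .nil)
  .nil)) (.node 1 (.node 0 (.node 0 (.node 0 .nil .nil) .nil) (.node 1 (.node 0 (.node 0 .nil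
  .nil) .nil) .nil)) .nil)) .nil)) .nil) .nil)) (.node 1 (.node 0 (.node 0 (.node 0 (.node 1
  (.node 0 (.node 1 .nil .nil) (.node 1 (.node 0 .nil .nil) .nil)) .nil) (.node 1 (.node 0
  (.node 0 .nil .nil) .nil) .nil)) (.node 1 (.node 0 (.node 0 (.node 0 (.node 0 (.node 1 (.node
  0 .nil .nil) .nil) (.node 1 .nil .nil)) (.node 1 (.node 1 .nil .nil) .nil)) (.node 1 (.node 0
  (.node 0 .nil (.node 1 .nil .nil)) (.node 1 (.node 0 (.node 1 (.node 0 .nil (.node 1 .nil
  .nil)) .nil) .nil) .nil)) .nil)) (.node 1 (.node 0 (.node 0 (.node 0 (.node 0 .nil (.node 1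
  .nil .nil)) (.node 1 (.node 1 .nil .nil) .nil)) .nil) (.node 1 .nil .nil)) .nil)) .nil))
  (.node 1 (.node 0 (.node 0 (.node 0 (.node 0 (.node 0 .nil .nil) (.node 1 (.node 0 .nil .nil)
  .nil)) (.node 1 (.node 0 (.node 0 .nil .nil) (.node 1 (.node 0 (.node 1 (.node 0 .nil .nil)
  .nil) (.node 1 (.node 0 (.node 0 .nil .nil) .nil) .nil)) .nil)) .nil)) (.node 1 (.node 0
  (.node 0 (.node 1 .nil .nil) (.node 1 (.node 0 .nil .nil) .nil)) (.node 1 (.node 0 (.node 0
  (.node 0 .nil .nil) (.node 1 .nil .nil)) (.node 1 (.node 0 .nil .nil) .nil)) .nil)) .nil))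
  .nil) .nil)) .nil)) .nil)

/-- Root of class 1. -/
def cfgDodecadsSextetRep1 : List ℕ := [8388619, 9536, 147492, 328320, 1574928, 6328320]

/-- Spanning tree of class 1. -/
def cfgDodecadsSextetTree1 : OTree :=
  .node 0 (.node 0 (.node 0 (.node 0 (.node 0 (.node 1 (.node 0 (.node 1 (.node 0 .nil (.node 1
  (.node 0 (.node 1 .nil .nil) (.node 1 .nil .nil)) .nil)) .nil) (.node 1 (.node 0 (.node 0
  (.node 1 (.node 1 .nil .nil) .nil) .nil) (.node 1 (.node 0 (.node 1 (.node 0 .nil (.node 1
  .nil .nil)) .nil) .nil) .nil)) .nil)) .nil) (.node 1 (.node 0 (.node 0 (.node 0 .nil (.node 1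
  (.node 1 .nil .nil) .nil)) .nil) (.node 1 (.node 1 (.node 0 (.node 0 .nil (.node 1 (.node 0
  .nil (.node 1 .nil .nil)) .nil)) .nil) .nil) .nil)) .nil)) (.node 1 (.node 0 (.node 0 (.node 0
  (.node 1 (.node 0 (.node 1 (.node 0 (.node 0 .nil .nil) (.node 1 .nil .nil)) .nil) (.node 1
  .nil .nil)) .nil) (.node 1 (.node 0 .nil (.node 1 (.node 0 (.node 0 .nil .nil) (.node 1 .nil
  .nil)) .nil)) .nil)) (.node 1 (.node 0 (.node 0 (.node 0 .nil (.node 1 .nil .nil)) .nil)
  (.node 1 (.node 0 (.node 0 .nil (.node 1 (.node 0 .nil (.node 1 .nil .nil)) .nil)) .nil)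
  .nil)) .nil)) (.node 1 (.node 0 (.node 0 (.node 0 (.node 0 .nil .nil) (.node 1 (.node 0 (.node
  1 .nil .nil) (.node 1 (.node 0 (.node 1 .nil .nil) .nil) .nil)) .nil)) (.node 1 (.node 0 .nil
  (.node 1 (.node 0 (.node 0 .nil (.node 1 .nil .nil)) (.node 1 .nil .nil)) .nil)) .nil)) (.node
  1 .nil .nil)) .nil)) .nil)) (.node 1 (.node 0 (.node 0 (.node 0 (.node 1 (.node 0 (.node 0
  .nil (.node 1 (.node 0 (.node 0 .nil .nil) .nil) .nil)) (.node 1 .nil .nil)) .nil) (.node 1
  (.node 0 (.node 0 (.node 0 (.node 0 .nil (.node 1 .nil .nil)) (.node 1 .nil .nil)) (.node 1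
  (.node 0 .nil (.node 1 .nil .nil)) .nil)) (.node 1 (.node 0 (.node 1 (.node 1 .nil .nil) .nil)
  (.node 1 (.node 0 (.node 0 .nil .nil) .nil) .nil)) .nil)) .nil)) (.node 1 (.node 0 (.node 0
  (.node 0 (.node 0 .nil (.node 1 .nil .nil)) (.node 1 (.node 0 (.node 1 .nil .nil) (.node 1
  .nil .nil)) .nil)) (.node 1 .nil .nil)) (.node 1 (.node 0 (.node 0 (.node 0 (.node 0 .nil
  (.node 1 .nil .nil)) .nil) .nil) (.node 1 (.node 0 (.node 0 .nil (.node 1 (.node 1 .nil .nil)
  .nil)) .nil) .nil)) .nil)) .nil)) (.node 1 (.node 0 (.node 0 (.node 0 (.node 1 (.node 1 (.node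
  1 .nil .nil) .nil) .nil) (.node 1 (.node 0 (.node 1 (.node 0 (.node 1 .nil .nil) .nil) .nil)
  .nil) .nil)) (.node 1 (.node 0 (.node 0 (.node 0 (.node 1 .nil .nil) (.node 1 .nil .nil))
  (.node 1 (.node 1 (.node 0 (.node 0 .nil .nil) .nil) .nil) .nil)) (.node 1 (.node 0 (.node 1
  (.node 0 .nil .nil) .nil) (.node 1 .nil .nil)) .nil)) .nil)) (.node 1 (.node 0 (.node 0 (.node
  0 (.node 0 .nil (.node 1 (.node 0 .nil (.node 1 .nil .nil)) .nil)) (.node 1 (.node 0 .nil
  .nil) .nil)) (.node 1 (.node 0 (.node 0 (.node 0 .nil .nil) .nil) (.node 1 (.node 0 (.node 0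
  .nil (.node 1 .nil .nil)) (.node 1 (.node 0 (.node 0 .nil .nil) .nil) .nil)) .nil)) .nil))
  .nil) .nil)) .nil)) .nil)) (.node 1 (.node 0 (.node 0 (.node 0 (.node 0 (.node 0 (.node 0
  (.node 0 (.node 1 .nil .nil) (.node 1 (.node 0 .nil .nil) .nil)) (.node 1 (.node 1 (.node 1
  (.node 0 .nil .nil) .nil) .nil) .nil)) (.node 1 (.node 0 (.node 0 .nil (.node 1 .nil .nil))
  .nil) .nil)) (.node 1 (.node 0 (.node 0 (.node 0 (.node 1 .nil .nil) (.node 1 (.node 1 .nil
  .nil) .nil)) (.node 1 .nil .nil)) (.node 1 (.node 0 .nil .nil) .nil)) .nil)) (.node 1 (.node 0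
  (.node 0 (.node 0 (.node 0 .nil (.node 1 (.node 1 (.node 0 .nil .nil) .nil) .nil)) (.node 1
  (.node 0 (.node 0 .nil (.node 1 .nil .nil)) (.node 1 .nil .nil)) .nil)) (.node 1 (.node 0
  (.node 0 .nil (.node 1 .nil .nil)) .nil) .nil)) (.node 1 (.node 0 (.node 0 (.node 0 (.node 0
  (.node 0 .nil .nil) .nil) (.node 1 (.node 1 (.node 1 .nil .nil) .nil) .nil)) (.node 1 (.node 0
  (.node 0 .nil (.node 1 .nil .nil)) .nil) .nil)) (.node 1 (.node 0 (.node 1 .nil .nil) .nil)
  .nil)) .nil)) .nil)) (.node 1 (.node 0 (.node 0 (.node 0 (.node 0 (.node 1 .nil .nil) (.node 1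
  (.node 0 .nil (.node 1 (.node 1 .nil .nil) .nil)) .nil)) (.node 1 (.node 0 (.node 1 (.node 0
  (.node 0 .nil .nil) .nil) .nil) (.node 1 (.node 0 .nil .nil) .nil)) .nil)) .nil) (.node 1
  (.node 0 (.node 0 (.node 0 (.node 0 (.node 0 .nil (.node 1 (.node 0 .nil .nil) .nil)) .nil)
  (.node 1 (.node 0 .nil .nil) .nil)) (.node 1 (.node 0 (.node 0 .nil (.node 1 .nil .nil))
  (.node 1 (.node 0 (.node 0 (.node 1 .nil .nil) .nil) .nil) .nil)) .nil)) (.node 1 (.node 0
  (.node 0 (.node 0 .nil .nil) (.node 1 (.node 0 (.node 0 .nil .nil) .nil) .nil)) .nil) .nil))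
  .nil)) .nil)) (.node 1 (.node 0 (.node 0 (.node 0 (.node 0 (.node 1 (.node 1 .nil .nil) .nil)
  (.node 1 (.node 0 .nil (.node 1 (.node 0 .nil (.node 1 .nil .nil)) .nil)) .nil)) (.node 1
  (.node 0 (.node 1 .nil .nil) (.node 1 (.node 0 (.node 0 .nil (.node 1 .nil .nil)) (.node 1
  (.node 0 (.node 1 .nil .nil) .nil) .nil)) .nil)) .nil)) (.node 1 (.node 0 (.node 0 (.node 0
  .nil (.node 1 (.node 0 (.node 0 .nil .nil) (.node 1 (.node 0 .nil .nil) .nil)) .nil)) (.node 1
  (.node 0 (.node 0 .nil (.node 1 (.node 1 (.node 1 .nil .nil) .nil) .nil)) (.node 1 (.node 0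
  (.node 0 (.node 1 .nil .nil) (.node 1 .nil .nil)) (.node 1 (.node 0 .nil .nil) .nil)) .nil))
  .nil)) (.node 1 (.node 0 (.node 0 (.node 0 (.node 1 .nil .nil) .nil) .nil) .nil) .nil)) .nil))
  (.node 1 (.node 0 (.node 1 (.node 0 (.node 0 .nil (.node 1 (.node 0 .nil .nil) .nil)) (.node 1
  (.node 0 (.node 0 .nil .nil) (.node 1 (.node 0 .nil .nil) .nil)) .nil)) .nil) .nil) .nil))
  .nil)) .nil)) (.node 1 (.node 0 (.node 0 (.node 0 (.node 0 (.node 0 (.node 0 (.node 0 (.node 0
  .nil .nil) .nil) (.node 1 (.node 0 (.node 0 (.node 0 .nil .nil) .nil) (.node 1 (.node 1 .nil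
  .nil) .nil)) .nil)) (.node 1 (.node 0 (.node 0 (.node 1 (.node 0 .nil .nil) .nil) (.node 1
  (.node 0 (.node 0 .nil .nil) .nil) .nil)) (.node 1 (.node 0 (.node 0 (.node 0 .nil .nil)
  (.node 1 (.node 0 .nil .nil) .nil)) (.node 1 (.node 0 .nil .nil) .nil)) .nil)) .nil)) (.node 1
  .nil .nil)) (.node 1 (.node 0 (.node 0 (.node 0 (.node 0 (.node 0 (.node 1 .nil .nil) .nil)
  (.node 1 (.node 0 (.node 0 .nil .nil) (.node 1 (.node 0 .nil .nil) .nil)) .nil)) (.node 1
  (.node 1 (.node 1 .nil .nil) .nil) .nil)) (.node 1 (.node 0 (.node 0 (.node 0 .nil .nil) .nil)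
  .nil) .nil)) (.node 1 (.node 0 (.node 0 (.node 0 (.node 1 (.node 0 .nil (.node 1 .nil .nil))
  .nil) (.node 1 (.node 0 (.node 1 .nil .nil) (.node 1 (.node 0 (.node 1 .nil .nil) (.node 1
  .nil .nil)) .nil)) .nil)) (.node 1 (.node 1 (.node 0 .nil .nil) .nil) .nil)) .nil) .nil))
  .nil)) (.node 1 (.node 0 (.node 0 (.node 1 (.node 0 (.node 0 (.node 1 .nil .nil) (.node 1
  (.node 1 .nil .nil) .nil)) .nil) .nil) (.node 1 (.node 0 (.node 0 (.node 1 (.node 0 (.node 1
  .nil .nil) .nil) .nil) (.node 1 (.node 1 (.node 1 .nil .nil) .nil) .nil)) .nil) .nil)) .nil)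
  .nil)) (.node 1 (.node 0 (.node 0 (.node 0 (.node 0 (.node 0 (.node 1 .nil .nil) (.node 1
  (.node 1 .nil .nil) .nil)) (.node 1 (.node 0 (.node 1 .nil .nil) (.node 1 .nil .nil)) .nil))
  (.node 1 (.node 0 (.node 0 (.node 0 .nil (.node 1 (.node 0 .nil (.node 1 .nil .nil)) .nil))
  (.node 1 (.node 0 (.node 0 (.node 1 .nil .nil) (.node 1 .nil .nil)) .nil) .nil)) (.node 1
  (.node 0 .nil (.node 1 (.node 0 .nil .nil) .nil)) .nil)) .nil)) .nil) (.node 1 (.node 0 (.node
  0 (.node 0 (.node 0 (.node 1 (.node 0 (.node 0 .nil (.node 1 .nil .nil)) (.node 1 (.node 1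
  .nil .nil) .nil)) .nil) (.node 1 (.node 0 (.node 1 .nil .nil) .nil) .nil)) (.node 1 (.node 0
  .nil .nil) .nil)) (.node 1 (.node 0 (.node 0 (.node 1 (.node 0 .nil (.node 1 .nil .nil)) .nil)
  (.node 1 (.node 0 (.node 1 .nil .nil) (.node 1 (.node 0 .nil (.node 1 (.node 0 .nil .nil)
  .nil)) .nil)) .nil)) (.node 1 (.node 0 (.node 0 (.node 1 .nil .nil) .nil) .nil) .nil)) .nil))
  .nil) .nil)) .nil)) .nil)

/-- Root of class 2. -/
def cfgDodecadsSextetRep2 : List ℕ := [8388621, 43136, 147490, 1118272, 2097936, 4981760]

/-- Spanning tree of class 2. -/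
def cfgDodecadsSextetTree2 : OTree :=
  .node 0 (.node 0 (.node 0 (.node 0 (.node 0 (.node 0 (.node 0 (.node 0 (.node 0 (.node 0 .nil
  (.node 1 .nil .nil)) (.node 1 (.node 0 .nil .nil) .nil)) (.node 1 (.node 0 (.node 0 .nil
  (.node 1 (.node 1 .nil .nil) .nil)) (.node 1 (.node 0 (.node 0 (.node 0 .nil .nil) (.node 1
  .nil .nil)) .nil) .nil)) .nil)) (.node 1 (.node 0 (.node 0 .nil (.node 1 (.node 0 (.node 0
  (.node 0 .nil .nil) (.node 1 (.node 1 .nil .nil) .nil)) (.node 1 (.node 1 .nil .nil) .nil))
  .nil)) (.node 1 (.node 1 (.node 0 (.node 0 .nil .nil) .nil) .nil) .nil)) .nil)) (.node 1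
  (.node 0 (.node 0 .nil (.node 1 (.node 0 (.node 0 (.node 0 .nil (.node 1 .nil .nil)) (.node 1
  .nil .nil)) (.node 1 (.node 0 (.node 1 .nil .nil) .nil) .nil)) .nil)) .nil) .nil)) (.node 1
  (.node 0 (.node 0 (.node 0 (.node 0 (.node 0 .nil .nil) .nil) (.node 1 (.node 0 (.node 0
  (.node 1 (.node 0 .nil .nil) .nil) (.node 1 (.node 0 .nil (.node 1 (.node 1 .nil .nil) .nil))
  .nil)) (.node 1 (.node 1 .nil .nil) .nil)) .nil)) .nil) (.node 1 (.node 0 (.node 0 (.node 0
  (.node 0 .nil (.node 1 (.node 0 .nil .nil) .nil)) (.node 1 (.node 0 (.node 0 .nil .nil) .nil)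
  .nil)) (.node 1 (.node 0 (.node 0 (.node 0 .nil .nil) (.node 1 .nil .nil)) (.node 1 (.node 1
  (.node 0 (.node 0 (.node 1 .nil .nil) .nil) .nil) .nil) .nil)) .nil)) (.node 1 (.node 0 (.node
  0 (.node 0 (.node 0 .nil .nil) (.node 1 (.node 0 .nil .nil) .nil)) (.node 1 (.node 0 (.node 0
  (.node 0 .nil .nil) .nil) (.node 1 (.node 1 (.node 0 .nil .nil) .nil) .nil)) .nil)) .nil)
  .nil)) .nil)) .nil)) (.node 1 (.node 0 (.node 0 (.node 0 (.node 0 (.node 0 (.node 0 (.node 0
  .nil .nil) .nil) (.node 1 (.node 0 (.node 1 (.node 0 .nil (.node 1 (.node 1 .nil .nil) .nil))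
  .nil) (.node 1 (.node 0 (.node 0 .nil .nil) .nil) .nil)) .nil)) (.node 1 (.node 0 (.node 1
  (.node 0 .nil (.node 1 (.node 1 (.node 0 .nil .nil) .nil) .nil)) .nil) .nil) .nil)) (.node 1
  (.node 0 (.node 0 (.node 0 (.node 1 (.node 0 .nil .nil) .nil) (.node 1 (.node 1 .nil .nil)
  .nil)) (.node 1 (.node 0 .nil (.node 1 .nil .nil)) .nil)) (.node 1 (.node 0 (.node 0 .nil
  (.node 1 (.node 1 .nil .nil) .nil)) (.node 1 (.node 0 (.node 1 (.node 0 (.node 1 .nil .nil)
  .nil) .nil) .nil) .nil)) .nil)) .nil)) (.node 1 (.node 0 (.node 0 (.node 0 (.node 1 .nil .nil)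
  (.node 1 (.node 0 .nil (.node 1 (.node 1 .nil .nil) .nil)) .nil)) (.node 1 (.node 0 (.node 1
  .nil .nil) (.node 1 (.node 1 (.node 0 .nil .nil) .nil) .nil)) .nil)) (.node 1 (.node 0 (.node
  1 (.node 0 (.node 0 .nil .nil) (.node 1 (.node 0 .nil .nil) .nil)) .nil) (.node 1 (.node 0
  (.node 1 .nil .nil) .nil) .nil)) .nil)) .nil)) (.node 1 (.node 0 (.node 0 (.node 0 (.node 1
  (.node 1 (.node 0 .nil .nil) .nil) .nil) .nil) (.node 1 (.node 1 .nil .nil) .nil)) (.node 1
  (.node 0 (.node 0 (.node 0 (.node 0 (.node 1 .nil .nil) .nil) .nil) .nil) .nil) .nil)) .nil))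
  .nil)) (.node 1 (.node 0 (.node 0 (.node 0 (.node 0 (.node 0 (.node 1 (.node 0 .nil (.node 1
  .nil .nil)) .nil) (.node 1 (.node 0 (.node 0 (.node 0 .nil .nil) .nil) (.node 1 (.node 1
  (.node 0 .nil .nil) .nil) .nil)) .nil)) (.node 1 (.node 0 (.node 1 (.node 0 (.node 0 (.node 1
  .nil .nil) (.node 1 .nil .nil)) .nil) .nil) (.node 1 (.node 1 .nil .nil) .nil)) .nil)) (.node
  1 (.node 0 (.node 0 (.node 0 (.node 0 (.node 1 (.node 0 .nil .nil) .nil) (.node 1 (.node 0
  .nil .nil) .nil)) .nil) (.node 1 (.node 0 (.node 0 .nil (.node 1 .nil .nil)) .nil) .nil))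
  .nil) .nil)) (.node 1 (.node 0 (.node 0 (.node 0 (.node 0 (.node 0 (.node 0 .nil .nil) .nil)
  (.node 1 (.node 0 (.node 0 (.node 1 .nil .nil) .nil) (.node 1 (.node 0 .nil .nil) .nil))
  .nil)) (.node 1 (.node 0 (.node 0 .nil .nil) (.node 1 (.node 0 (.node 0 .nil .nil) .nil)
  .nil)) .nil)) (.node 1 (.node 0 (.node 0 (.node 0 .nil (.node 1 (.node 0 .nil .nil) .nil))
  (.node 1 (.node 1 (.node 0 (.node 1 (.node 1 .nil .nil) .nil) (.node 1 (.node 0 .nil .nil)
  .nil)) .nil) .nil)) .nil) .nil)) (.node 1 (.node 0 (.node 0 (.node 0 (.node 0 (.node 0 .nil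
  (.node 1 .nil .nil)) .nil) .nil) (.node 1 (.node 0 (.node 1 (.node 1 (.node 1 .nil .nil) .nil)
  .nil) (.node 1 (.node 0 (.node 0 (.node 0 .nil .nil) (.node 1 .nil .nil)) (.node 1 (.node 0
  .nil .nil) .nil)) .nil)) .nil)) (.node 1 (.node 0 (.node 0 (.node 0 (.node 1 (.node 1 .nil
  .nil) .nil) .nil) .nil) .nil) .nil)) .nil)) .nil)) (.node 1 (.node 0 (.node 0 (.node 0 (.node
  0 (.node 0 (.node 0 .nil .nil) (.node 1 .nil .nil)) (.node 1 (.node 0 (.node 0 .nil .nil)
  (.node 1 (.node 0 .nil (.node 1 .nil .nil)) .nil)) .nil)) .nil) (.node 1 (.node 0 (.node 0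
  .nil (.node 1 (.node 0 (.node 0 (.node 0 .nil .nil) .nil) (.node 1 (.node 0 (.node 1 .nil
  .nil) .nil) .nil)) .nil)) (.node 1 (.node 0 (.node 0 (.node 0 (.node 1 .nil .nil) .nil) (.node
  1 (.node 1 .nil .nil) .nil)) (.node 1 .nil .nil)) .nil)) .nil)) (.node 1 (.node 0 (.node 0
  (.node 0 .nil .nil) (.node 1 (.node 0 (.node 0 (.node 0 (.node 0 .nil .nil) (.node 1 .nil
  .nil)) (.node 1 (.node 1 (.node 0 .nil .nil) .nil) .nil)) (.node 1 (.node 1 (.node 0 .nil
  .nil) .nil) .nil)) .nil)) .nil) .nil)) .nil)) .nil)) (.node 1 (.node 0 (.node 0 (.node 0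
  (.node 0 (.node 0 (.node 0 (.node 0 (.node 0 (.node 0 (.node 0 .nil .nil) (.node 1 .nil .nil))
  (.node 1 .nil .nil)) .nil) (.node 1 (.node 1 (.node 0 (.node 0 .nil (.node 1 .nil .nil))
  (.node 1 .nil .nil)) .nil) .nil)) (.node 1 (.node 0 (.node 1 (.node 1 (.node 1 .nil .nil)
  .nil) .nil) (.node 1 (.node 0 .nil .nil) .nil)) .nil)) (.node 1 (.node 0 (.node 0 (.node 0
  (.node 1 .nil .nil) (.node 1 (.node 0 (.node 0 .nil .nil) (.node 1 (.node 0 (.node 0 (.node 0
  .nil .nil) .nil) (.node 1 .nil .nil)) .nil)) .nil)) (.node 1 (.node 1 (.node 0 (.node 0 .nil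
  .nil) .nil) .nil) .nil)) (.node 1 (.node 1 (.node 0 .nil .nil) .nil) .nil)) .nil)) (.node 1
  (.node 0 (.node 0 (.node 0 (.node 1 (.node 1 .nil .nil) .nil) (.node 1 (.node 0 (.node 1
  (.node 0 (.node 1 .nil .nil) .nil) .nil) (.node 1 (.node 0 (.node 1 .nil .nil) (.node 1 .nil
  .nil)) .nil)) .nil)) (.node 1 (.node 0 (.node 0 (.node 0 (.node 1 .nil .nil) (.node 1 (.node 0
  .nil (.node 1 .nil .nil)) .nil)) .nil) (.node 1 (.node 0 (.node 1 .nil .nil) (.node 1 .nil
  .nil)) .nil)) .nil)) (.node 1 (.node 0 (.node 0 .nil (.node 1 (.node 0 (.node 1 (.node 0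
  (.node 0 .nil .nil) (.node 1 .nil .nil)) .nil) (.node 1 .nil .nil)) .nil)) (.node 1 (.node 0
  (.node 1 (.node 1 .nil .nil) .nil) .nil) .nil)) .nil)) .nil)) (.node 1 (.node 0 (.node 0
  (.node 1 (.node 0 (.node 1 .nil .nil) .nil) .nil) (.node 1 (.node 0 (.node 0 (.node 1 (.node 0
  .nil .nil) .nil) (.node 1 .nil .nil)) (.node 1 (.node 0 (.node 0 .nil (.node 1 (.node 0 .nil
  (.node 1 .nil .nil)) .nil)) (.node 1 (.node 0 (.node 1 (.node 0 .nil .nil) .nil) .nil) .nil))
  .nil)) .nil)) (.node 1 (.node 0 (.node 0 (.node 0 (.node 0 (.node 1 (.node 0 .nil .nil) .nil)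
  (.node 1 (.node 1 .nil .nil) .nil)) .nil) .nil) (.node 1 (.node 0 (.node 0 (.node 0 (.node 0
  (.node 0 (.node 0 .nil .nil) .nil) .nil) (.node 1 (.node 0 .nil .nil) .nil)) (.node 1 (.node 1
  (.node 0 .nil .nil) .nil) .nil)) .nil) .nil)) .nil)) .nil)) (.node 1 (.node 0 (.node 0 (.node
  0 (.node 0 (.node 0 (.node 1 .nil .nil) (.node 1 (.node 1 (.node 0 .nil (.node 1 .nil .nil))
  .nil) .nil)) (.node 1 (.node 0 (.node 0 (.node 0 .nil .nil) (.node 1 .nil .nil)) (.node 1
  (.node 0 (.node 0 (.node 1 .nil .nil) (.node 1 (.node 0 .nil .nil) .nil)) .nil) .nil)) .nil))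
  (.node 1 (.node 0 (.node 0 (.node 0 (.node 0 .nil (.node 1 (.node 0 (.node 0 (.node 1 .nil
  .nil) .nil) .nil) .nil)) .nil) (.node 1 (.node 0 (.node 0 (.node 0 .nil .nil) .nil) (.node 1
  (.node 0 .nil .nil) .nil)) .nil)) (.node 1 (.node 0 (.node 1 (.node 0 (.node 1 (.node 1 .nil
  .nil) .nil) (.node 1 .nil .nil)) .nil) (.node 1 (.node 0 (.node 1 (.node 0 .nil .nil) .nil)
  .nil) .nil)) .nil)) .nil)) (.node 1 (.node 0 (.node 0 (.node 1 (.node 1 (.node 1 .nil .nil)
  .nil) .nil) (.node 1 (.node 0 .nil (.node 1 (.node 0 .nil (.node 1 .nil .nil)) .nil)) .nil))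
  (.node 1 (.node 0 (.node 1 (.node 0 (.node 1 (.node 0 (.node 1 .nil .nil) (.node 1 (.node 0
  .nil .nil) .nil)) .nil) .nil) .nil) (.node 1 (.node 0 (.node 1 (.node 0 (.node 1 .nil .nil)
  .nil) .nil) .nil) .nil)) .nil)) .nil)) (.node 1 (.node 0 (.node 0 (.node 0 (.node 0 (.node 0
  (.node 1 .nil .nil) (.node 1 .nil .nil)) (.node 1 (.node 0 (.node 0 (.node 1 (.node 1 .nil
  .nil) .nil) .nil) (.node 1 (.node 0 .nil .nil) .nil)) .nil)) (.node 1 (.node 0 (.node 0 (.node
  1 (.node 0 .nil .nil) .nil) (.node 1 (.node 0 .nil .nil) .nil)) (.node 1 (.node 1 .nil .nil)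
  .nil)) .nil)) (.node 1 (.node 0 (.node 0 (.node 1 .nil .nil) (.node 1 (.node 0 .nil (.node 1
  .nil .nil)) .nil)) (.node 1 (.node 1 .nil .nil) .nil)) .nil)) .nil) .nil)) .nil)) .nil))
  (.node 1 (.node 0 (.node 0 (.node 0 (.node 0 (.node 0 (.node 1 (.node 0 (.node 0 (.node 1
  (.node 1 .nil .nil) .nil) (.node 1 (.node 1 (.node 1 .nil .nil) .nil) .nil)) .nil) .nil)
  (.node 1 (.node 0 (.node 0 (.node 1 (.node 0 (.node 0 .nil .nil) (.node 1 (.node 1 .nil .nil)
  .nil)) .nil) .nil) (.node 1 (.node 0 (.node 0 .nil (.node 1 (.node 1 .nil .nil) .nil)) (.node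
  1 (.node 0 (.node 1 (.node 0 .nil .nil) .nil) .nil) .nil)) .nil)) .nil)) (.node 1 (.node 0
  (.node 0 (.node 0 (.node 1 (.node 1 (.node 0 .nil .nil) .nil) .nil) .nil) (.node 1 (.node 0
  .nil (.node 1 (.node 1 .nil .nil) .nil)) .nil)) .nil) .nil)) (.node 1 (.node 0 (.node 0 (.node
  1 (.node 0 (.node 0 (.node 0 .nil (.node 1 .nil .nil)) .nil) (.node 1 (.node 0 (.node 0 .nil
  .nil) .nil) .nil)) .nil) .nil) .nil) .nil)) (.node 1 (.node 0 (.node 0 (.node 0 (.node 1
  (.node 0 (.node 0 (.node 0 (.node 0 .nil (.node 1 .nil .nil)) (.node 1 (.node 1 .nil .nil)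
  .nil)) .nil) (.node 1 (.node 0 (.node 0 (.node 0 .nil .nil) .nil) (.node 1 (.node 0 (.node 0
  .nil (.node 1 .nil .nil)) .nil) .nil)) .nil)) .nil) (.node 1 (.node 0 (.node 0 (.node 1 .nil
  .nil) (.node 1 (.node 1 .nil .nil) .nil)) (.node 1 (.node 0 (.node 0 .nil (.node 1 (.node 1
  (.node 0 .nil .nil) .nil) .nil)) (.node 1 (.node 0 (.node 1 .nil .nil) .nil) .nil)) .nil))
  .nil)) (.node 1 (.node 0 (.node 0 (.node 1 (.node 0 (.node 0 (.node 0 .nil .nil) (.node 1
  (.node 0 .nil (.node 1 .nil .nil)) .nil)) .nil) .nil) (.node 1 (.node 0 (.node 0 .nil (.node 1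
  .nil .nil)) .nil) .nil)) (.node 1 (.node 0 (.node 0 (.node 1 (.node 0 (.node 0 .nil .nil)
  (.node 1 .nil .nil)) .nil) .nil) (.node 1 (.node 0 (.node 0 (.node 0 (.node 1 .nil .nil)
  (.node 1 .nil .nil)) .nil) .nil) .nil)) .nil)) .nil)) (.node 1 (.node 0 (.node 0 (.node 0
  (.node 0 (.node 0 (.node 0 .nil (.node 1 (.node 1 (.node 0 .nil (.node 1 .nil .nil)) .nil)
  .nil)) .nil) (.node 1 (.node 1 (.node 0 .nil (.node 1 .nil .nil)) .nil) .nil)) (.node 1 (.node
  0 (.node 1 (.node 1 .nil .nil) .nil) .nil) .nil)) (.node 1 (.node 0 (.node 0 (.node 0 (.node 0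
  (.node 0 .nil .nil) (.node 1 (.node 1 .nil .nil) .nil)) (.node 1 (.node 0 .nil .nil) .nil))
  (.node 1 (.node 0 (.node 0 .nil (.node 1 .nil .nil)) (.node 1 (.node 0 .nil .nil) .nil))
  .nil)) (.node 1 (.node 0 (.node 0 (.node 0 (.node 0 .nil .nil) (.node 1 (.node 0 .nil .nil)
  .nil)) (.node 1 (.node 1 .nil .nil) .nil)) .nil) .nil)) .nil)) (.node 1 (.node 0 (.node 1
  (.node 0 (.node 0 (.node 1 (.node 0 .nil .nil) .nil) (.node 1 .nil .nil)) (.node 1 (.node 1
  (.node 0 .nil .nil) .nil) .nil)) .nil) .nil) .nil)) .nil)) .nil)) (.node 1 (.node 0 (.node 0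
  (.node 0 (.node 0 (.node 0 (.node 1 (.node 0 (.node 0 .nil (.node 1 .nil .nil)) .nil) .nil)
  (.node 1 (.node 0 (.node 0 .nil (.node 1 .nil .nil)) (.node 1 (.node 1 (.node 0 .nil .nil)
  .nil) .nil)) .nil)) (.node 1 (.node 0 (.node 0 (.node 0 (.node 1 .nil .nil) .nil) .nil) (.node
  1 (.node 0 (.node 1 (.node 0 (.node 0 (.node 0 .nil .nil) (.node 1 .nil .nil)) .nil) .nil)
  (.node 1 .nil .nil)) .nil)) .nil)) (.node 1 (.node 0 (.node 0 (.node 0 .nil (.node 1 (.node 0
  (.node 0 (.node 1 (.node 0 .nil (.node 1 .nil .nil)) .nil) .nil) (.node 1 (.node 1 .nil .nil)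
  .nil)) .nil)) (.node 1 (.node 0 (.node 0 (.node 1 .nil .nil) .nil) (.node 1 (.node 1 .nil
  .nil) .nil)) .nil)) (.node 1 (.node 0 (.node 1 (.node 1 .nil .nil) .nil) (.node 1 (.node 0
  (.node 0 (.node 1 (.node 0 .nil .nil) .nil) (.node 1 (.node 0 (.node 0 (.node 0 .nil .nil)
  .nil) .nil) .nil)) .nil) .nil)) .nil)) .nil)) (.node 1 (.node 0 (.node 0 (.node 1 (.node 0
  (.node 0 (.node 0 (.node 1 .nil .nil) (.node 1 .nil .nil)) (.node 1 (.node 1 .nil .nil) .nil))
  (.node 1 (.node 0 (.node 1 (.node 0 .nil .nil) .nil) .nil) .nil)) .nil) (.node 1 (.node 0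
  (.node 1 .nil .nil) .nil) .nil)) (.node 1 (.node 0 (.node 0 (.node 0 .nil .nil) (.node 1
  (.node 0 (.node 0 (.node 0 (.node 1 .nil .nil) (.node 1 .nil .nil)) .nil) (.node 1 (.node 0
  (.node 1 .nil .nil) .nil) .nil)) .nil)) (.node 1 .nil .nil)) .nil)) .nil)) (.node 1 (.node 0
  (.node 0 (.node 0 (.node 0 (.node 0 .nil (.node 1 (.node 0 (.node 0 .nil .nil) .nil) .nil))
  (.node 1 (.node 0 (.node 0 .nil (.node 1 .nil .nil)) (.node 1 (.node 0 .nil (.node 1 .nil
  .nil)) .nil)) .nil)) (.node 1 (.node 0 (.node 0 (.node 0 .nil (.node 1 .nil .nil)) (.node 1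
  (.node 1 (.node 0 (.node 1 .nil .nil) .nil) .nil) .nil)) .nil) .nil)) (.node 1 (.node 0 (.node
  0 (.node 1 (.node 0 (.node 1 (.node 1 .nil .nil) .nil) (.node 1 (.node 1 (.node 0 .nil .nil)
  .nil) .nil)) .nil) (.node 1 (.node 0 (.node 1 (.node 0 (.node 0 .nil (.node 1 .nil .nil))
  (.node 1 .nil .nil)) .nil) (.node 1 .nil .nil)) .nil)) (.node 1 (.node 0 (.node 0 (.node 1
  (.node 0 .nil (.node 1 .nil .nil)) .nil) .nil) (.node 1 (.node 0 .nil .nil) .nil)) .nil))
  .nil)) .nil) .nil)) .nil)) .nil)

end CfsgLib.M24Classes
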