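import Cfsg.Agent.M24Classes.OrbitHelpers
import Cfsg.Agent.M24Classes.AtDodecads

/-!
Certified orbits for this configuration.
-/

set_option autoImplicit false

namespace CfsgLib.M24Classes

open Cfsg CfsgLib.Mathieu
open scoped Pointwise

theorem dodecads_gens : cfgDodecadsTabs.all isM24Tab = true ∧
    (cfgDodecadsTabs.zip cfgDodecadsBytes).all (fun p => bytesOK p.1 p.2) = true ∧ cfgDodecadsTabs.length = cfgDodecadsBytes.length ∧
    cfgDodecadsTabs.all (fun t => fixesFam t cfgDodecads) = true ∧ (∀ M ∈ cfgDodecads, M < 2 ^ 24) ∧ cfgDodecads.Nodup := by decide +kernel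

theorem dodecadsSextet_check0 : classOK cfgDodecadsBytes sextA 262139 sextetData (listInv cfgDodecads)
    cfgDodecadsSextetRep0 cfgDodecadsSextetTree0 48 396 = true := by decide +kernel

theorem dodecadsSextet_check1 : classOK cfgDodecadsBytes sextA 262139 sextetData (listInv cfgDodecads)
    cfgDodecadsSextetRep1 cfgDodecadsSextetTree1 64 495 = true := by decide +kernel

theorem dodecadsSextet_check2 : classOK cfgDodecadsBytes sextA 262139 sextetData (listInv cfgDodecads)
    cfgDodecadsSextetRep2 cfgDodecadsSextetTree2 60 880 = true := by decide +kernel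

theorem dodecadsSextet_all : sextetData.all (fun l => [48, 64, 60].contains ((listInv cfgDodecads) l)) = true := by decide +kernel

theorem dodecadsSextet_orbits {σ : Equiv.Perm GolayPt} (hσ : σ ∈ M24) {x : Finset (Finset GolayPt)}
    (hx : σ • (famSet cfgDodecads) = x) :
    ∃ X0 ∈ sextets, ∃ X1 ∈ sextets, ∃ X2 ∈ sextets,
      (MulAction.orbit ↥(MulAction.stabilizer M24 x) X0).ncard = 396 ∧
      (MulAction.orbit ↥(MulAction.stabilizer M24 x) X1).ncard = 495 ∧
      (MulAction.orbit ↥(MulAction.stabilizer M24 x) X2).ncard = 880 ∧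
      sextets = MulAction.orbit ↥(MulAction.stabilizer M24 x) X0 ∪ MulAction.orbit ↥(MulAction.stabilizer M24 x) X1 ∪ MulAction.orbit ↥(MulAction.stabilizer M24 x) X2 := by
  obtain ⟨X0, hX0, c0, e0⟩ := orbit_class sextetListed (famInvar id) (famInvar_smul sextetListed) (famInvar_list sextetListed dodecads_gens.2.2.2.2.1 dodecads_gens.2.2.2.2.2)
    (gensOK_fam dodecads_gens.2.2.2.2.1 dodecads_gens.1 dodecads_gens.2.1 dodecads_gens.2.2.1 dodecads_gens.2.2.2.1) dodecadsSextet_check0 hσ hx
  obtain ⟨X1, hX1, c1, e1⟩ := orbit_class sextetListed (famInvar id) (famInvar_smul sextetListed) (famInvar_list sextetListed dodecads_gens.2.2.2.2.1 dodecads_gens.2.2.2.2.2)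
    (gensOK_fam dodecads_gens.2.2.2.2.1 dodecads_gens.1 dodecads_gens.2.1 dodecads_gens.2.2.1 dodecads_gens.2.2.2.1) dodecadsSextet_check1 hσ hx
  obtain ⟨X2, hX2, c2, e2⟩ := orbit_class sextetListed (famInvar id) (famInvar_smul sextetListed) (famInvar_list sextetListed dodecads_gens.2.2.2.2.1 dodecads_gens.2.2.2.2.2)
    (gensOK_fam dodecads_gens.2.2.2.2.1 dodecads_gens.1 dodecads_gens.2.1 dodecads_gens.2.2.1 dodecads_gens.2.2.2.1) dodecadsSextet_check2 hσ hx
  exact ⟨X0, hX0, X1, hX1, X2, hX2, c0, c1, c2, union3 (fun b => famInvar id b x) e0 e1 e2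
    (class_cover sextetListed (famInvar id) (famInvar_smul sextetListed) (famInvar_list sextetListed dodecads_gens.2.2.2.2.1 dodecads_gens.2.2.2.2.2) dodecadsSextet_all hσ hx)⟩

end CfsgLib.M24Classes
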