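import Cfsg.Agent.M24Classes.OrbitTree

/-! Orbit data for a configuration stabiliser. -/

set_option autoImplicit false
set_option maxRecDepth 20000

namespace CfsgLib.M24Classes

/-- The configuration. -/
def cfgNothing : List ℕ := []

/-- Tables of members of its stabiliser. -/
def cfgNothingTabs : List ℕ := [1727074028941855999032161069013493741843691538083941911,
  564054172283323721581850111682338679072783326267616527106,
  565590387305492265713569078750904326639152332267843552256]

/-- Their byte tables. -/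
def cfgNothingBytes : List (List ℕ) := [[26480648598233404386560700463967335973875507692601478538670392837301655128149198611441027513570088342689184584444847234049450652935496960385304708490164599695260375961046969476717123486927146702792636732572800782258184846410566426594684593293546342756554407145614772087849718605446970814093012729041783447778845008370165334262066314915891575067002190624135195453023080878442424308044914995878681810062693080431246181486844714039239246881419159589053663902059861333186299843925293398353136118102716099115241956341903916123385934425330444443932235565197685695668725339467561314757498930336966149718959244085976873740891042819506665585865132211107411407216992253335373987677193608690916877315993951414632922533543394098000823758020164339701184985737908731984865132435904039197216690411776699075998452411974677076246749706901089656893705797728986772438634524819557239300702916836717151673391950784538433082485718685921311705885581542785230970647197069461243529413335668632823028994335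337710631283042997708867637499905941818737956257266362824101749212563946659585460055492618962326163807402825411194577455324419187814122558252352794944686493875163850660666575638672206753482399499298893164751535644016869807244123396593114463977865688744239286010566024743978116465589623562872412655800171179330983178524353611034198392177886582818048067761084235218325698451312046550218332756189292342041772112100952304427781956782345222304900846617080706818082332325235551431500620932821625485040558092657086537099724426680921391519311085033185199831030700277183390360606926739359933517248321344148359706219999554189462168484081398430667977530638751257579302793153621763402870084892760086341349480782860514729719358226605871280572462132006987871397336332859089461127859212051440988187206158281777271323720989716615751683206075058853418170472564713809299376359189893873664, 634719239408775245787918417685065951910931965646766258576678371685353834466917052270379692652727896504206861477681088343687946137659981482654154874701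38378493856767489567322840605299382362460597342475941176369552539886964929635488386701879424304330409311021990884032509322472097258527834212377893902976392704882277213511471914185969140527167964498013085741082516497580126647232271423515565094383415749198679051416861704720446138257142235490074141074277319658220785525895433411070007432294871443673043013018234054257080991334904548537713363680544667857397968660439386292103110301451059997623148258077919174438601462854005948309329543406639700797441397661457995005145281860735821099661252821423105576933680513897355415391406513676536283955173777321551927934741602536569412928853238846966455163748723275876693896173832804682801429213229213190318800693169271932612403595570249992059132159214484782120729540470562219850941030955015586864073078965096667885616856676483628375175977227712815731341505665013041431387947353224293356263196177941420401111571544292429838351683758819455893529212832379834757882289588113605112746003291613626500206173917573488977480642376171284234633166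72925301688337804023662776102574167966088994138491691439849546504968763174072908457850346424723632613220048504665176038673916850943200563977250165537309809565330624958248676975243547411619390799247024608538355093108768064219661874177837629228007953509637854677026238797974798290429437400437950420531674893493434094279121002701204033013931813247283740737123977170467463726114659406804009365465387989564782749199649057057623474752683015280290303749150168817350767682339435064824045531309621682462892011567133848545941805575109876838851934906514879618961933386341058309044068631204768528768777430781936565847933174705508971717825487693768936640978961338237413317611485003515953152, 9236798231055191005769789109406423617772010398543882200425983194368059129143108310553013450993201434733626418313627981955872042161585174367778546808694511155288947686115396072941337526421386404160274209699286146225593137749203513404704102486963558019422971727845319041607000080406200997630186149535547582778229512292336499338253740182611426157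65015981106701063584829125366542350990514467691426725696351372922159255452711954283154325868416851506813388054374693261729656285457530189857933757446891495877831391376307903263949854792613123491909974639528754185818446688469735740711111482603919669148140858279752514855974529957472656803876534807672689320729160060183912236279604359569572475969450654618909622959982358750287735781033356392549885044716135790503405586552597044263048288522589505001804089418891411358052686717773321819952143091902478366678750835644013932837341234706775268556555734342409990468496524174043843307318920422388221705896723368922602614092279659141122727966335642624301286985076221967064842172680832343995530776476699355922596718068316031272282969799801581939965425061654665532477717473922051347141864569658608915341478380145451464494392101554832873669215089512191545016391831629807275204997949637610669077155525197661302731817647736042344296126394644764118137499092627252921038376111940820197605720671878028400235631048740889411563927705668802557906157386021409234617784272703632330060926284031508237132031867481005567726066218119083544780932549640008853922366439168842130970569940041371331111631841843791795944393544680329212810010348505888984787037911896862724623857945884646691816786339063670916821775523425045447955334712769021123529695456174717456686730228603382970072292911451698081448726021975202066087910513649667849425740327079901828185180182839907369429724060611240047350056672517199561395907591827234028079224480333824],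
  [2051982539999656799640979384234460608178665169657624434818138318135012443738423370641164470328755662573986012044931356078956609524395877358883611369959575497974095912030720105518733029600986337131294606339603032118294845168657393708754855616441127063051362668193209352547492514374559923234237776961587316587065014743912774327480686895551158429916965824449059163949566606020806242572403832030667757844094285843376398395079253341223814316005620784228627897718064552627624818088517386393142330348355611535643783270572705887181421429379259363027841694176007800788676282452007277408014556690053424741758934681132686981957944873740475765524637812284429817481608362779502100185001977364612008861581947397771292421584553578974233637093834524956471410971892720881832607052445690176293115852944260321842489972282178495308816199102367541776832922496595973653485340534567459549332279768166459990248083115413088976463972509005677589831242447392860190833480226279647979304847681826923288271715882898749973962287849263050484381905670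493767579099957633421256421625540950424221732814010109392604678053750565763855217773004541505873121385168533935771881107229681256370220028731380830809147495860172969912680408604356932810864499088603403521171139826140913848324927988721741723818900199763105223120934886860933969051330311744932368352035854363942888708121880276714761067844653674907613695284681426892072703841345735274375674136145225529469423576062126301284855025343937115598622138291644291468113953107855556082674330121455845186330838285625621868131059858900260321781325657032360357197713731401570235085384302838426312109000783776705414236634165357473908106608970008963273351962708797015182339447271730744785643647648085700973277585775412629547615458146382494602144051897729541420899819295403739842531553651904591048091886771523625998142626424742976208976069263360, 525307530239912140708090722364021915693738283432351855313443409442563185597036382884138104404161449618940419083502427156212892038245344603874204510709651327481368553479864347012795655577852502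30561141922293837622228348036317629278944124303780892852814114884305746159425215808367988734034796487090216635304628864377444167022783505584526109655805874325105895914597108905114132639809853538099985094600808813717590435798914028885535329646489743892076252874181582452547267195343066045091664443656917903655312480851726661270711844388592109039693512747370905799700190112830771386301645172651265367673389028727836996786738123388767756179597430727994481403327529174087155253764736050620534067426856497853382945085992564571621740381109602163838885668120880453654574914740542609668513103765835373064239167743290423769479905694697020609069486922815912856925529224717684926964462906362065061375750350927754575077797477696230545346299679806653257220885337093792758988270204100654769236179755926602207999333434568941134092400176785164640450024958915415584164393613848330860076360038658800450679758176014483554693574988916262550351907460314468755760156345079840163077632735523349268714175894020428029764618460271537479958131176668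2471301419811795492073945171181565112765881297638451139354937118959331036399096077140559806702686298121178717169379509279201350838978833368231340776349105992878445284370612183384508230240172578853177735544172435471904333128922886488047901593247267402660938615837171995611022357164628511092696367700694601120159198241551323878466642376019368200284251442614715238801980181858381526637135899904200646836586044578346331513320475291896322294597978102453452035886678898501563070665124773797909939449159061958505633164189557285473918618148877285818762603750353739623357399688077734887575308311523013510048255524512364734201909497873731420160, 33224162277101824466537701459141688985149642486841443590280167491896674377439074293388425256185585458608108400117564946638882143928699802950437065259887168349344720515736628250942031092117234936909529311680700761927483503211595636973574990983633788509795754787947452656824779651697620964030131144004358872505854956760427110701281394204463854266531391693963954224173105045139392395991894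945067501199236381264010573484889224018045374897589176479665744690134468168711861942064531411619977256927846682369951309477152462389203463188532772713699823898894453876260244172882430026778291215805825937046512795435713373986416280952550222999260239126128426357278479235882399726419854479432542087610161630408657985041042370217948304306262293824966780191298191945475570487745590401737883728533215649679603305119045855200301270364980074082183832261018757162944768108619007353152458169146593199438717698802290395816885347212096287917186182331849180550956355863341687486620941591744388823747091940855560812945866191983623276019455026033358528638400146772416957192055938621256658754833361720728208133585778090231540251390085168008315187911674713924495822380112761322066700705538310420235114911062129690644904645207184748916386042484749245079895530471089244267564017807028155613222691104505561827744888890273935503253528590060036549548235227546434994161210333882562025633271241457974499389495367656464196404851390923409874197500772858678840154594671384754153822692955206508728682315375400064686058203857310701540080215868483352894802236784765348763955025736878169826681296701155029941728064069226120065861358169326384029381551137974571125737893784666604950796845277736681655654041011257295968195391376445779643167217919146534305132350386449428145499104245702736221006352386926679679515561167866983472735075406381716710195256823801328357752204742908079694077049574522880],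
  [6855961347646388959201274040261729987826072956196725177752784928845527321132569865063441576741503233183952487748650010325055672217898815391021806288778795776389799604652584388570562706677900307735942587308115873031448820215266097131632449143896794443461191899764451430997691638720126372410801334970941186249648484623982577529536162276855137574244913398997167617763890683498359444817641527308790276399390535070088060940303588963480773138001876072454006359015915856922039764086104062402483105410863832537331121867623266973610034964313957924738142446667936042016460006465349188607229688164088281060030627977963136361452402763423890027784136194626574012072901983061133601107896562265956473957670980136708639025441383361127520687162089922119355731109050471732841564309268141195575690649623760387483152705514272519389700394670413888365911132105769412701966532195565337599409106199488642141901650098932673857100169945342870590932171336208500933680762816144393040839689921702250560829683546924106604070355713509572986473864116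482158957547566059962379342164333682907849396480860072253827650708165590558156186889320262660366360740114605739697618605379822526094543856470836987538970715177819323076027958820402512059370824140628983158460944900661850534360830117287619082954249008273445917580071300703562906235484044979358382257695768047475542357170249885112219010627738781685143900697605022158205837612823550663764535971282018023423567078681596539666074581435302293464628547111547780337550611658968424784379677780206175655029338281223339330241515307436968580090801332407450115621025649521010456896723922942561422898850604409875184270086503182519038777046243144149642301031962858242974418816266335392932354103930934983716745593852484270359337441089937455960070665423956569814133602047842945117223940636423492853467318715238416503049320576075242940727765074182144, 866506358901153871228536502552050441776850856282435727422448188335905455506970244636779849836707748328629629088355064965995096728262485815451789673568648748362543683718331930477622533511460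57346438788614821760653076838292782128562140624584847961671469593127647082842724505288846276891231650809158617013619426102100772272359800742805605418911051923126993593123616091451053870859101739943830022421401482607274017488356610128619812052542570894188290450504636956026829691257629196751869884796095379242413629423184273936903056536947298877885275323366145805492987509458165100968556122635363104866807557629111601538514310533751576524959565854735446651015669671278476467704573877807011631480926585762914895571903311384167082482135747776987439901839095250760710291253911488321815075162261717853417861874459334171355706996035512747269391154775534149275235632138151685153177443816240265203648445126904069919051688157446290604202413130699005359558684391292654384940032574837069604922749585728824215786243249817296474378552797338126790674076431501053246046229944025016351394105769187729447280636486225088572645391610477489492496017600048264316193860688924429635404676049517514043684851038045659367775257335507552458865877020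96861603339369288785065551079892362714677605643148420433380176450812775189484707786261273357204250890428754066880182506946918618079590868744412182553976445055292100545923260059778710920841235033636820081975781460659183555311282052537548057337692598692599623289688881760846977941002523564444361813511634002141378693291083346829200461832408766583989134992642019448907550202251453873418499463903024923241725757520926326142810378985666411489313714409992855966551289105326820423836381977230743644434621321358639854084973118076272836689169666923994222895851351495857937611474463744650408141214406530440397186267582515738632480584063996265496576, 1823049688373681762552072110128957603036726169833361184931812765283874643337599546785047665579930115590790705287934883435776690674071659120770569842998934676392311728464670474086887594929397854156015086177017354261744648328296629358139088386058667168146854062912501675112068885516080519671233453319732132734428599660427893444706492798837636314097617964795764387073951428797649930851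0093762684328083139809128706755036652748828783108032564641720658512474122228066629344836954839524833619781803217632655103448918343604786974098565804464687087058596657225449315415964691092837483659234151438229297629161954295088900521340599588937808242382960436064320516652960244767841214169795752288599809053202152786581109689642628293693034530764496792098723694737554506189390181294151633474647295957091554934098920479719690032206512261518138596411495547766924099687091549109123847668049083039309979094427606956930459745964566489614881092565937363586090315142659179717111628683814457013853146836781670529467337770931290050461108375900759968466057638617882728470964300329425016361571706898676201193264616790474085316456543055240770967381583337884041966596330863952057373107667069009338639921424151907571367145257115974967962248943560992778612957810047294354349283399170900342417085608262161888839930193225374214623621288372516223231516459084898705738764710784578634739090318769096696075269874800698134985780548982631075072938646767472062004764275511851763167745276217457772606817037715581695307226906633283623848196566117758486059221937215459396125729676197750000431397990252471040551857688518423331452236991156973219020320818004339896720731727415115547211089534233076899464889033659993646437367389119847757769718434863730259153428899819427848325644594102125614770080813230287003564373940683552741299493974869704492578068551825435069703773746203431156903399307345920000]]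

/-- Root of class 0. -/
def cfgNothingTrioRep0 : List ℕ := [8391797, 307594, 8077824]

/-- Spanning tree of class 0. -/
def cfgNothingTrioTree0 : OTree :=
  .node 0 (.node 1 (.node 0 (.node 1 (.node 0 (.node 1 (.node 1 (.node 0 (.node 1 (.node 0 .nil
  (.node 2 (.node 1 .nil .nil) .nil)) (.node 2 .nil .nil)) (.node 1 (.node 0 .nil (.node 1
  (.node 0 .nil (.node 1 .nil (.node 2 .nil .nil))) (.node 2 (.node 1 .nil (.node 2 .nil .nil))
  .nil))) (.node 2 (.node 1 (.node 0 .nil (.node 2 .nil .nil)) .nil) .nil))) .nil) (.node 2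
  (.node 1 (.node 0 (.node 1 .nil .nil) (.node 1 (.node 0 (.node 1 .nil .nil) (.node 1 (.node 0
  .nil (.node 1 .nil .nil)) .nil)) (.node 2 (.node 1 (.node 0 .nil (.node 2 .nil .nil)) (.node 2
  (.node 2 .nil .nil) .nil)) .nil))) (.node 2 (.node 1 (.node 0 (.node 2 (.node 1 .nil .nil)
  .nil) (.node 1 .nil (.node 2 (.node 1 .nil (.node 2 .nil .nil)) .nil))) (.node 2 (.node 1
  (.node 0 (.node 1 .nil .nil) .nil) (.node 2 (.node 1 .nil .nil) .nil)) .nil)) .nil)) .nil))
  (.node 1 (.node 0 (.node 1 (.node 0 (.node 2 .nil .nil) (.node 1 (.node 0 (.node 2 (.node 2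
  .nil .nil) .nil) (.node 1 .nil (.node 2 (.node 1 .nil (.node 2 .nil .nil)) .nil))) (.node 2
  (.node 1 .nil .nil) .nil))) (.node 2 (.node 1 (.node 0 .nil .nil) (.node 2 .nil .nil)) .nil))
  (.node 1 (.node 0 (.node 1 (.node 0 (.node 1 .nil .nil) (.node 1 (.node 0 .nil (.node 1 .nil
  (.node 2 (.node 1 .nil .nil) .nil))) (.node 2 (.node 2 .nil .nil) .nil))) (.node 2 (.node 1
  (.node 0 .nil (.node 1 .nil .nil)) (.node 2 .nil .nil)) .nil)) (.node 1 (.node 0 (.node 1
  (.node 2 .nil .nil) (.node 2 (.node 2 .nil .nil) .nil)) (.node 1 (.node 0 .nil (.node 1 .nil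
  (.node 2 .nil .nil))) (.node 2 (.node 1 (.node 1 (.node 0 .nil .nil) .nil) (.node 2 .nil
  .nil)) .nil))) (.node 2 (.node 2 (.node 1 .nil (.node 2 (.node 1 .nil .nil) .nil)) .nil)
  .nil))) (.node 2 (.node 1 (.node 0 (.node 2 .nil .nil) (.node 1 (.node 0 .nil (.node 1 .nil
  (.node 2 (.node 2 .nil .nil) .nil))) (.node 2 (.node 1 (.node 1 .nil .nil) .nil) .nil)))
  (.node 2 (.node 1 (.node 0 .nil (.node 1 (.node 0 .nil (.node 1 .nil (.node 2 .nil .nil)))
  .nil)) (.node 2 (.node 1 (.node 2 .nil .nil) .nil) .nil)) .nil)) .nil))) (.node 2 (.node 1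
  (.node 0 (.node 1 (.node 0 (.node 1 .nil (.node 2 .nil .nil)) (.node 1 (.node 0 .nil (.node 2
  .nil .nil)) (.node 2 (.node 1 (.node 0 .nil .nil) .nil) .nil))) (.node 2 (.node 2 .nil .nil)
  .nil)) (.node 1 (.node 0 (.node 1 (.node 1 .nil (.node 2 .nil .nil)) .nil) (.node 1 .nil
  (.node 2 (.node 1 (.node 1 .nil .nil) .nil) .nil))) (.node 2 (.node 1 (.node 2 (.node 1 .nil
  .nil) .nil) (.node 2 (.node 1 (.node 1 .nil .nil) (.node 2 (.node 2 .nil .nil) .nil)) .nil))
  .nil))) (.node 2 (.node 1 (.node 0 (.node 1 (.node 0 .nil (.node 2 .nil .nil)) (.node 2 (.node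
  2 (.node 2 .nil .nil) .nil) .nil)) (.node 1 (.node 1 .nil (.node 2 (.node 2 .nil .nil) .nil))
  (.node 2 (.node 1 (.node 1 .nil .nil) (.node 2 (.node 2 .nil .nil) .nil)) .nil))) (.node 2
  (.node 2 (.node 1 .nil .nil) .nil) .nil)) .nil)) .nil))) (.node 2 (.node 1 (.node 0 (.node 2
  (.node 1 (.node 1 (.node 1 (.node 2 .nil .nil) .nil) .nil) (.node 2 (.node 1 (.node 0 (.node 1
  .nil .nil) (.node 2 (.node 2 .nil .nil) .nil)) (.node 2 .nil .nil)) .nil)) .nil) (.node 1
  (.node 0 (.node 2 (.node 1 (.node 2 .nil .nil) (.node 2 (.node 1 .nil .nil) .nil)) .nil)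
  (.node 1 (.node 0 .nil (.node 2 (.node 1 .nil .nil) .nil)) (.node 2 (.node 1 (.node 0 .nil
  (.node 1 (.node 0 .nil (.node 2 (.node 2 .nil .nil) .nil)) (.node 2 .nil .nil))) (.node 2
  (.node 1 (.node 1 .nil (.node 2 .nil .nil)) (.node 2 (.node 1 (.node 1 .nil (.node 2 .nil
  .nil)) .nil) .nil)) .nil)) .nil))) (.node 2 (.node 1 (.node 0 .nil (.node 1 (.node 0 (.node 1
  (.node 2 .nil .nil) .nil) (.node 2 (.node 2 (.node 1 .nil .nil) .nil) .nil)) .nil)) (.node 2
  (.node 1 (.node 0 (.node 1 (.node 0 .nil .nil) .nil) (.node 2 .nil .nil)) (.node 2 (.node 1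
  .nil (.node 2 .nil .nil)) .nil)) .nil)) .nil))) (.node 2 (.node 1 (.node 0 (.node 1 (.node 0
  (.node 2 .nil .nil) (.node 2 (.node 2 .nil .nil) .nil)) (.node 2 (.node 2 (.node 2 .nil .nil)
  .nil) .nil)) (.node 1 (.node 0 .nil (.node 1 (.node 2 .nil .nil) (.node 2 .nil .nil))) (.node
  2 (.node 1 (.node 0 (.node 1 (.node 2 .nil .nil) .nil) .nil) (.node 2 (.node 1 (.node 1 (.node
  1 .nil .nil) .nil) (.node 2 .nil .nil)) .nil)) .nil))) (.node 2 (.node 1 (.node 0 (.node 1
  (.node 2 .nil .nil) (.node 2 (.node 1 (.node 1 .nil .nil) (.node 2 (.node 1 .nil .nil) .nil))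
  .nil)) (.node 1 (.node 1 (.node 1 (.node 1 .nil .nil) .nil) .nil) (.node 2 (.node 1 (.node 0
  .nil (.node 1 .nil .nil)) (.node 2 (.node 1 .nil (.node 2 .nil .nil)) .nil)) .nil))) (.node 2
  (.node 1 (.node 0 (.node 1 .nil .nil) (.node 1 (.node 0 .nil .nil) .nil)) .nil) .nil)) .nil))
  .nil)) .nil)) (.node 1 (.node 0 (.node 1 (.node 0 (.node 1 (.node 0 (.node 2 (.node 1 .nil
  .nil) .nil) (.node 1 (.node 0 (.node 1 .nil .nil) (.node 1 (.node 2 .nil .nil) .nil)) (.node 2
  (.node 1 (.node 0 .nil (.node 2 .nil .nil)) (.node 2 .nil .nil)) .nil))) (.node 2 (.node 1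
  (.node 0 .nil (.node 1 (.node 0 .nil (.node 1 (.node 1 .nil .nil) (.node 2 .nil .nil))) (.node
  2 (.node 1 (.node 2 .nil .nil) .nil) .nil))) (.node 2 .nil .nil)) .nil)) (.node 1 (.node 0
  (.node 1 (.node 0 (.node 1 .nil (.node 2 .nil .nil)) (.node 2 (.node 2 .nil .nil) .nil))
  (.node 2 (.node 1 (.node 1 .nil (.node 2 .nil .nil)) (.node 2 .nil .nil)) .nil)) (.node 1
  (.node 0 (.node 2 .nil .nil) (.node 2 (.node 1 (.node 0 .nil .nil) (.node 2 (.node 1 (.node 0
  .nil .nil) (.node 2 .nil .nil)) .nil)) .nil)) (.node 2 (.node 1 (.node 1 .nil (.node 2 (.node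
  1 .nil (.node 2 .nil .nil)) .nil)) (.node 2 (.node 1 (.node 2 .nil .nil) (.node 2 (.node 1
  (.node 0 .nil .nil) (.node 2 .nil .nil)) .nil)) .nil)) .nil))) (.node 2 (.node 1 (.node 0
  (.node 1 .nil (.node 2 (.node 1 (.node 1 .nil .nil) .nil) .nil)) (.node 1 (.node 0 (.node 1
  (.node 0 .nil .nil) (.node 2 .nil .nil)) (.node 1 .nil (.node 2 (.node 1 .nil .nil) .nil)))
  (.node 2 .nil .nil))) (.node 2 (.node 1 (.node 0 .nil (.node 1 .nil (.node 2 .nil .nil)))
  .nil) .nil)) .nil))) (.node 2 (.node 1 (.node 0 (.node 1 (.node 0 (.node 1 .nil (.node 2 .nil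
  .nil)) (.node 1 .nil (.node 2 .nil .nil))) (.node 2 (.node 1 .nil (.node 2 (.node 1 .nil
  (.node 2 .nil .nil)) .nil)) .nil)) (.node 1 (.node 0 (.node 1 (.node 2 .nil .nil) .nil) (.node
  1 (.node 0 (.node 1 (.node 1 .nil .nil) .nil) (.node 1 .nil (.node 2 (.node 1 .nil (.node 2
  (.node 2 .nil .nil) .nil)) .nil))) .nil)) (.node 2 (.node 2 (.node 2 (.node 1 .nil .nil) .nil)
  .nil) .nil))) (.node 2 (.node 1 (.node 0 .nil (.node 1 (.node 0 (.node 1 .nil (.node 2 .nil
  .nil)) (.node 2 (.node 2 .nil .nil) .nil)) (.node 2 .nil .nil))) (.node 2 (.node 1 (.node 1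
  .nil (.node 2 (.node 2 .nil .nil) .nil)) (.node 2 (.node 1 (.node 0 .nil .nil) .nil) .nil))
  .nil)) .nil)) .nil)) (.node 1 (.node 0 (.node 1 (.node 1 (.node 0 (.node 1 (.node 1 .nil
  (.node 2 (.node 2 .nil .nil) .nil)) (.node 2 (.node 1 .nil .nil) .nil)) (.node 1 (.node 0 .nil
  (.node 2 (.node 1 .nil (.node 2 .nil .nil)) .nil)) (.node 2 (.node 1 (.node 1 .nil (.node 2
  .nil .nil)) .nil) .nil))) (.node 2 (.node 1 .nil (.node 2 (.node 1 (.node 0 .nil .nil) .nil)
  .nil)) .nil)) (.node 2 (.node 1 (.node 0 .nil (.node 1 (.node 0 (.node 1 .nil .nil) (.node 1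
  (.node 0 .nil (.node 1 .nil .nil)) (.node 2 (.node 2 .nil .nil) .nil))) (.node 2 (.node 2 .nil
  .nil) .nil))) (.node 2 (.node 1 (.node 0 .nil (.node 2 .nil .nil)) (.node 2 .nil .nil)) .nil))
  .nil)) (.node 1 (.node 0 (.node 1 (.node 2 (.node 1 (.node 2 .nil .nil) (.node 2 (.node 2 .nil
  .nil) .nil)) .nil) (.node 2 (.node 1 (.node 1 (.node 0 .nil (.node 1 (.node 2 .nil .nil)
  .nil)) (.node 2 (.node 2 .nil .nil) .nil)) (.node 2 (.node 1 (.node 0 .nil (.node 1 (.node 0
  .nil .nil) (.node 2 .nil .nil))) .nil) .nil)) .nil)) (.node 1 (.node 0 (.node 1 (.node 0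
  (.node 1 .nil (.node 2 (.node 2 .nil .nil) .nil)) (.node 1 (.node 0 .nil (.node 1 .nil (.node
  2 .nil .nil))) (.node 2 (.node 1 (.node 2 .nil .nil) (.node 2 .nil .nil)) .nil))) (.node 2
  .nil .nil)) (.node 1 (.node 1 (.node 0 .nil (.node 1 .nil (.node 2 .nil .nil))) (.node 2
  (.node 1 (.node 2 .nil .nil) (.node 2 (.node 1 (.node 1 .nil .nil) .nil) .nil)) .nil)) (.node
  2 (.node 1 (.node 0 (.node 2 .nil .nil) (.node 2 (.node 1 .nil .nil) .nil)) (.node 2 (.node 1
  (.node 0 .nil (.node 2 .nil .nil)) (.node 2 (.node 1 .nil .nil) .nil)) .nil)) .nil))) (.node 2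
  (.node 1 (.node 1 (.node 1 (.node 1 .nil .nil) (.node 2 .nil .nil)) (.node 2 (.node 1 (.node 0
  .nil (.node 2 .nil .nil)) .nil) .nil)) (.node 2 (.node 1 (.node 1 (.node 1 .nil (.node 2 .nil
  .nil)) (.node 2 .nil .nil)) .nil) .nil)) .nil))) (.node 2 (.node 1 (.node 0 (.node 2 (.node 1
  (.node 1 .nil .nil) .nil) .nil) (.node 1 (.node 1 (.node 0 (.node 2 .nil .nil) (.node 2 (.node
  1 .nil .nil) .nil)) (.node 2 (.node 1 (.node 2 (.node 2 .nil .nil) .nil) (.node 2 (.node 1
  .nil .nil) .nil)) .nil)) (.node 2 (.node 1 (.node 0 (.node 1 .nil .nil) (.node 1 (.node 0 .nil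
  (.node 2 .nil .nil)) .nil)) (.node 2 (.node 1 (.node 0 .nil (.node 2 .nil .nil)) .nil) .nil))
  .nil))) (.node 2 (.node 1 (.node 0 (.node 1 (.node 0 .nil (.node 1 .nil .nil)) (.node 2 (.node
  1 .nil .nil) .nil)) (.node 1 (.node 0 (.node 2 (.node 2 .nil .nil) .nil) (.node 2 (.node 2
  .nil .nil) .nil)) (.node 2 (.node 1 (.node 0 .nil (.node 1 (.node 1 .nil .nil) .nil)) (.node 2
  .nil .nil)) .nil))) (.node 2 (.node 1 (.node 0 .nil (.node 1 (.node 1 .nil .nil) (.node 2 .nil
  .nil))) (.node 2 (.node 1 .nil .nil) .nil)) .nil)) .nil)) .nil))) (.node 2 (.node 1 (.node 0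
  (.node 1 (.node 0 (.node 1 (.node 1 .nil (.node 2 .nil .nil)) .nil) (.node 1 (.node 0 .nil
  (.node 2 (.node 1 .nil .nil) .nil)) .nil)) (.node 2 (.node 1 (.node 0 .nil .nil) (.node 2
  (.node 1 (.node 0 .nil (.node 2 .nil .nil)) .nil) .nil)) .nil)) (.node 1 (.node 0 (.node 1
  (.node 0 (.node 1 .nil (.node 2 .nil .nil)) (.node 1 (.node 0 (.node 1 .nil .nil) .nil) (.node
  2 (.node 2 .nil .nil) .nil))) (.node 2 (.node 1 .nil .nil) .nil)) (.node 1 (.node 0 (.node 1
  (.node 0 .nil .nil) (.node 2 (.node 1 .nil .nil) .nil)) (.node 1 (.node 0 (.node 2 (.node 2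
  .nil .nil) .nil) (.node 2 (.node 2 .nil .nil) .nil)) (.node 2 (.node 1 (.node 0 .nil .nil)
  .nil) .nil))) (.node 2 (.node 1 (.node 2 .nil .nil) (.node 2 (.node 2 (.node 2 .nil .nil)
  .nil) .nil)) .nil))) (.node 2 (.node 1 (.node 0 .nil (.node 1 (.node 1 (.node 0 .nil (.node 2
  .nil .nil)) (.node 2 (.node 1 .nil .nil) .nil)) (.node 2 (.node 2 (.node 1 .nil .nil) .nil)
  .nil))) (.node 2 (.node 1 .nil (.node 2 (.node 2 (.node 1 .nil .nil) .nil) .nil)) .nil))
  .nil))) (.node 2 (.node 1 (.node 0 (.node 1 .nil (.node 2 (.node 1 (.node 1 .nil .nil) .nil)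
  .nil)) (.node 1 (.node 0 (.node 1 (.node 0 .nil (.node 2 (.node 2 .nil .nil) .nil)) .nil)
  (.node 1 (.node 2 .nil .nil) (.node 2 (.node 1 .nil (.node 2 .nil .nil)) .nil))) (.node 2
  (.node 1 (.node 0 (.node 2 .nil .nil) (.node 2 .nil .nil)) .nil) .nil))) (.node 2 (.node 1
  (.node 0 .nil (.node 1 (.node 0 (.node 2 .nil .nil) (.node 1 .nil (.node 2 .nil .nil))) (.node
  2 (.node 1 .nil (.node 2 (.node 2 .nil .nil) .nil)) .nil))) (.node 2 (.node 1 (.node 0 .nil
  (.node 2 (.node 1 .nil .nil) .nil)) .nil) .nil)) .nil)) .nil)) .nil))) (.node 2 (.node 1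
  (.node 0 (.node 1 (.node 0 (.node 1 (.node 0 .nil (.node 1 (.node 1 .nil (.node 2 .nil .nil))
  (.node 2 (.node 2 (.node 2 .nil .nil) .nil) .nil))) (.node 2 (.node 2 (.node 2 .nil .nil)
  .nil) .nil)) (.node 1 (.node 1 (.node 1 .nil .nil) .nil) (.node 2 (.node 1 (.node 0 .nil
  (.node 1 (.node 0 .nil .nil) (.node 2 .nil .nil))) (.node 2 (.node 1 (.node 0 .nil (.node 1
  .nil (.node 2 .nil .nil))) (.node 2 (.node 1 .nil .nil) .nil)) .nil)) .nil))) (.node 2 (.node
  1 (.node 0 (.node 1 (.node 1 .nil .nil) (.node 2 (.node 1 .nil (.node 2 .nil .nil)) .nil))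
  (.node 1 (.node 0 .nil (.node 1 .nil (.node 2 .nil .nil))) (.node 2 (.node 1 (.node 2 .nil
  .nil) (.node 2 .nil .nil)) .nil))) (.node 2 (.node 1 (.node 2 .nil .nil) (.node 2 (.node 1
  (.node 0 (.node 1 .nil .nil) (.node 2 .nil .nil)) (.node 2 (.node 1 (.node 1 .nil .nil) .nil)
  .nil)) .nil)) .nil)) .nil)) (.node 1 (.node 0 (.node 1 (.node 0 (.node 1 (.node 0 (.node 2
  .nil .nil) (.node 2 .nil .nil)) (.node 2 .nil .nil)) (.node 1 (.node 0 .nil (.node 1 .nil
  (.node 2 (.node 1 (.node 1 .nil .nil) (.node 2 .nil .nil)) .nil))) (.node 2 .nil .nil)))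
  (.node 2 (.node 2 .nil .nil) .nil)) (.node 1 (.node 0 (.node 1 (.node 0 .nil (.node 2 .nil
  .nil)) (.node 2 .nil .nil)) (.node 1 (.node 0 (.node 2 (.node 2 .nil .nil) .nil) (.node 1
  (.node 0 (.node 1 (.node 0 .nil .nil) .nil) (.node 2 (.node 1 .nil .nil) .nil)) (.node 2
  (.node 1 (.node 1 (.node 2 .nil .nil) (.node 2 .nil .nil)) (.node 2 .nil .nil)) .nil))) (.node
  2 (.node 1 (.node 1 (.node 1 .nil .nil) (.node 2 .nil .nil)) (.node 2 .nil .nil)) .nil)))
  (.node 2 (.node 1 (.node 0 (.node 1 (.node 0 .nil .nil) (.node 2 (.node 2 .nil .nil) .nil))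
  (.node 1 (.node 0 (.node 2 .nil .nil) (.node 2 (.node 2 .nil .nil) .nil)) (.node 2 (.node 1
  (.node 1 (.node 2 .nil .nil) .nil) (.node 2 .nil .nil)) .nil))) (.node 2 .nil .nil)) .nil)))
  (.node 2 (.node 1 (.node 0 (.node 1 (.node 0 .nil (.node 1 .nil (.node 2 (.node 1 .nil .nil)
  .nil))) (.node 2 (.node 1 (.node 0 .nil .nil) (.node 2 .nil .nil)) .nil)) (.node 1 (.node 0
  (.node 1 (.node 1 .nil .nil) (.node 2 (.node 2 .nil .nil) .nil)) (.node 1 (.node 0 .nil (.node
  1 (.node 2 .nil .nil) .nil)) (.node 2 (.node 1 (.node 0 .nil .nil) (.node 2 .nil .nil))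
  .nil))) (.node 2 (.node 1 (.node 0 (.node 2 .nil .nil) (.node 2 (.node 2 .nil .nil) .nil))
  (.node 2 (.node 1 (.node 0 (.node 1 .nil .nil) (.node 1 .nil (.node 2 .nil .nil))) (.node 2
  .nil .nil)) .nil)) .nil))) (.node 2 (.node 1 (.node 0 (.node 1 (.node 0 .nil (.node 1 (.node 2
  .nil .nil) (.node 2 .nil .nil))) .nil) .nil) (.node 2 (.node 1 (.node 0 (.node 2 .nil .nil)
  (.node 2 .nil .nil)) (.node 2 (.node 1 (.node 1 .nil .nil) .nil) .nil)) .nil)) .nil)) .nil)))
  (.node 2 (.node 2 (.node 1 (.node 0 (.node 1 (.node 1 (.node 0 .nil (.node 1 .nil (.node 2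
  .nil .nil))) .nil) .nil) (.node 1 (.node 0 (.node 1 (.node 1 .nil (.node 2 .nil .nil)) (.node
  2 .nil .nil)) (.node 1 (.node 1 (.node 1 (.node 1 .nil .nil) .nil) .nil) (.node 2 (.node 1
  (.node 0 .nil (.node 1 .nil (.node 2 .nil .nil))) .nil) .nil))) (.node 2 (.node 2 (.node 1
  (.node 2 .nil .nil) (.node 2 (.node 1 .nil .nil) .nil)) .nil) .nil))) (.node 2 (.node 1 (.node
  0 (.node 2 (.node 1 (.node 1 .nil .nil) .nil) .nil) (.node 1 (.node 0 (.node 2 .nil .nil)
  (.node 1 (.node 0 .nil (.node 1 .nil .nil)) (.node 2 (.node 2 .nil .nil) .nil))) (.node 2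
  (.node 1 (.node 0 .nil (.node 2 .nil .nil)) (.node 2 .nil .nil)) .nil))) .nil) .nil)) .nil)
  .nil)) .nil))) (.node 2 (.node 1 (.node 0 (.node 1 (.node 0 (.node 1 (.node 0 (.node 2 (.node
  2 .nil .nil) .nil) (.node 2 (.node 1 (.node 0 .nil (.node 1 .nil (.node 2 .nil .nil))) (.node
  2 (.node 1 (.node 2 .nil .nil) (.node 2 .nil .nil)) .nil)) .nil)) (.node 2 (.node 1 (.node 0
  (.node 1 .nil .nil) .nil) (.node 2 (.node 1 .nil (.node 2 (.node 1 .nil .nil) .nil)) .nil))
  .nil)) (.node 1 (.node 0 (.node 1 (.node 0 .nil (.node 1 (.node 0 .nil .nil) .nil)) (.node 2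
  .nil .nil)) (.node 1 (.node 0 (.node 1 (.node 1 .nil .nil) (.node 2 (.node 2 .nil .nil) .nil))
  (.node 1 (.node 0 .nil (.node 1 (.node 0 .nil (.node 1 .nil .nil)) (.node 2 .nil .nil)))
  (.node 2 (.node 2 (.node 1 .nil (.node 2 .nil .nil)) .nil) .nil))) (.node 2 (.node 1 (.node 1
  (.node 1 .nil (.node 2 (.node 1 .nil .nil) .nil)) (.node 2 (.node 2 .nil .nil) .nil)) .nil)
  .nil))) (.node 2 (.node 1 (.node 0 (.node 1 .nil (.node 2 .nil .nil)) (.node 2 (.node 1 .nil
  .nil) .nil)) (.node 2 (.node 1 (.node 1 (.node 2 .nil .nil) .nil) (.node 2 (.node 1 (.node 1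
  .nil .nil) (.node 2 .nil .nil)) .nil)) .nil)) .nil))) (.node 2 (.node 1 (.node 0 (.node 1
  (.node 0 (.node 1 .nil .nil) (.node 1 (.node 0 .nil .nil) (.node 2 (.node 1 .nil .nil) .nil)))
  (.node 2 (.node 2 .nil .nil) .nil)) (.node 1 (.node 0 (.node 2 (.node 2 (.node 1 .nil .nil)
  .nil) .nil) (.node 1 (.node 1 (.node 0 .nil (.node 2 .nil .nil)) (.node 2 (.node 2 .nil .nil)
  .nil)) (.node 2 (.node 2 (.node 1 .nil (.node 2 .nil .nil)) .nil) .nil))) (.node 2 (.node 1
  (.node 0 (.node 1 .nil .nil) (.node 1 (.node 2 .nil .nil) .nil)) (.node 2 .nil .nil)) .nil)))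
  .nil) .nil)) (.node 1 (.node 0 (.node 1 (.node 0 (.node 2 (.node 2 .nil .nil) .nil) (.node 1
  (.node 0 (.node 1 (.node 1 .nil .nil) (.node 2 (.node 2 .nil .nil) .nil)) (.node 1 (.node 1
  .nil .nil) (.node 2 (.node 1 (.node 1 .nil .nil) (.node 2 (.node 1 .nil .nil) .nil)) .nil)))
  (.node 2 (.node 1 (.node 0 (.node 1 .nil .nil) (.node 2 (.node 1 .nil .nil) .nil)) (.node 2
  .nil .nil)) .nil))) (.node 2 (.node 1 (.node 0 (.node 1 (.node 0 .nil (.node 1 .nil .nil))
  (.node 2 .nil .nil)) (.node 1 (.node 1 (.node 1 .nil (.node 2 .nil .nil)) (.node 2 (.node 1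
  .nil .nil) .nil)) (.node 2 (.node 1 (.node 0 .nil .nil) (.node 2 .nil .nil)) .nil))) (.node 2
  (.node 1 (.node 1 (.node 2 .nil .nil) .nil) (.node 2 .nil .nil)) .nil)) .nil)) (.node 1 (.node
  0 (.node 1 (.node 0 (.node 1 (.node 0 .nil (.node 2 .nil .nil)) (.node 2 .nil .nil)) (.node 1
  (.node 1 (.node 0 .nil (.node 2 .nil .nil)) (.node 2 (.node 1 .nil (.node 2 .nil .nil)) .nil))
  (.node 2 (.node 2 (.node 1 .nil .nil) .nil) .nil))) (.node 2 (.node 1 (.node 0 (.node 2 .nil
  .nil) (.node 1 (.node 0 .nil (.node 1 .nil (.node 2 .nil .nil))) (.node 2 .nil .nil))) (.node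
  2 (.node 1 (.node 0 .nil (.node 2 (.node 1 .nil .nil) .nil)) (.node 2 (.node 1 .nil .nil)
  .nil)) .nil)) .nil)) (.node 1 (.node 0 (.node 1 (.node 0 (.node 1 (.node 0 .nil .nil) (.node 2
  .nil .nil)) (.node 2 (.node 1 .nil (.node 2 .nil .nil)) .nil)) (.node 2 (.node 1 (.node 0 .nil
  .nil) .nil) .nil)) (.node 2 (.node 1 (.node 0 (.node 2 .nil .nil) (.node 1 .nil (.node 2 .nil
  .nil))) (.node 2 (.node 1 (.node 0 .nil .nil) (.node 2 (.node 2 .nil .nil) .nil)) .nil))
  .nil)) (.node 2 (.node 1 (.node 0 (.node 2 .nil .nil) (.node 1 (.node 0 (.node 2 (.node 2 .nil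
  .nil) .nil) (.node 1 (.node 0 .nil .nil) (.node 2 (.node 2 .nil .nil) .nil))) (.node 2 (.node
  1 (.node 0 .nil .nil) (.node 2 (.node 1 .nil .nil) .nil)) .nil))) (.node 2 (.node 1 (.node 1
  (.node 1 (.node 1 .nil .nil) .nil) .nil) (.node 2 (.node 2 (.node 1 .nil .nil) .nil) .nil))
  .nil)) .nil))) (.node 2 (.node 1 (.node 0 (.node 1 (.node 0 .nil (.node 1 (.node 2 .nil .nil)
  .nil)) .nil) (.node 1 (.node 0 (.node 1 .nil (.node 2 (.node 1 .nil .nil) .nil)) (.node 1
  (.node 0 (.node 1 .nil .nil) (.node 1 (.node 2 .nil .nil) .nil)) (.node 2 (.node 1 .nil .nil)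
  .nil))) (.node 2 (.node 1 (.node 2 (.node 1 .nil .nil) .nil) (.node 2 (.node 1 .nil .nil)
  .nil)) .nil))) (.node 2 (.node 1 (.node 0 .nil (.node 1 (.node 0 (.node 2 .nil .nil) (.node 1
  (.node 0 .nil .nil) (.node 2 .nil .nil))) (.node 2 (.node 1 .nil (.node 2 (.node 1 .nil .nil)
  .nil)) .nil))) (.node 2 (.node 1 (.node 1 .nil (.node 2 (.node 1 (.node 1 .nil .nil) .nil)
  .nil)) .nil) .nil)) .nil)) .nil))) (.node 2 (.node 1 (.node 0 (.node 2 (.node 1 (.node 0
  (.node 2 .nil .nil) (.node 1 .nil (.node 2 (.node 1 .nil .nil) .nil))) (.node 2 (.node 2 .nil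
  .nil) .nil)) .nil) (.node 1 (.node 0 (.node 1 (.node 1 (.node 1 (.node 0 .nil .nil) .nil)
  .nil) (.node 2 .nil .nil)) (.node 1 (.node 0 (.node 1 (.node 2 .nil .nil) (.node 2 .nil .nil))
  (.node 2 (.node 2 .nil .nil) .nil)) (.node 2 (.node 1 (.node 1 (.node 2 .nil .nil) .nil) .nil)
  .nil))) (.node 2 (.node 1 (.node 0 (.node 1 (.node 0 .nil .nil) (.node 2 (.node 2 .nil .nil)
  .nil)) (.node 2 (.node 1 (.node 1 .nil (.node 2 .nil .nil)) (.node 2 .nil .nil)) .nil)) (.node
  2 (.node 1 (.node 0 .nil (.node 1 .nil (.node 2 (.node 2 .nil .nil) .nil))) (.node 2 .nil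
  .nil)) .nil)) .nil))) .nil) .nil))) (.node 2 (.node 1 (.node 0 (.node 1 (.node 1 (.node 0
  (.node 1 (.node 0 .nil (.node 1 .nil .nil)) .nil) .nil) (.node 2 (.node 1 .nil (.node 2 .nil
  .nil)) .nil)) (.node 2 (.node 1 (.node 0 (.node 1 .nil .nil) (.node 1 (.node 0 (.node 2 .nil
  .nil) (.node 1 (.node 0 .nil .nil) (.node 2 (.node 1 .nil (.node 2 .nil .nil)) .nil))) (.node
  2 .nil .nil))) (.node 2 (.node 1 (.node 1 (.node 1 .nil .nil) (.node 2 (.node 2 .nil .nil)
  .nil)) (.node 2 .nil .nil)) .nil)) .nil)) (.node 1 (.node 0 (.node 1 (.node 1 (.node 1 (.node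
  0 .nil (.node 1 .nil .nil)) (.node 2 .nil .nil)) (.node 2 (.node 1 (.node 0 .nil (.node 2 .nil
  .nil)) (.node 2 (.node 1 (.node 0 .nil .nil) .nil) .nil)) .nil)) (.node 2 (.node 1 (.node 2
  (.node 2 (.node 1 .nil .nil) .nil) .nil) (.node 2 (.node 1 (.node 1 .nil .nil) .nil) .nil))
  .nil)) (.node 1 (.node 0 (.node 1 .nil .nil) (.node 1 (.node 0 (.node 1 (.node 2 (.node 2 .nil
  .nil) .nil) (.node 2 (.node 1 .nil .nil) .nil)) (.node 1 (.node 1 (.node 1 .nil .nil) .nil)
  (.node 2 .nil .nil))) (.node 2 (.node 1 (.node 2 (.node 2 .nil .nil) .nil) (.node 2 (.node 2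
  .nil .nil) .nil)) .nil))) (.node 2 (.node 1 (.node 0 (.node 2 .nil .nil) (.node 2 .nil .nil))
  (.node 2 (.node 1 .nil (.node 2 (.node 2 .nil .nil) .nil)) .nil)) .nil))) (.node 2 (.node 1
  (.node 0 (.node 1 (.node 0 .nil (.node 2 (.node 1 .nil .nil) .nil)) (.node 2 (.node 1 (.node 0
  .nil .nil) (.node 2 .nil .nil)) .nil)) (.node 1 (.node 0 (.node 1 (.node 1 .nil .nil) .nil)
  (.node 1 .nil .nil)) (.node 2 (.node 1 (.node 0 (.node 1 .nil (.node 2 (.node 1 .nil .nil)
  .nil)) (.node 2 (.node 2 .nil .nil) .nil)) (.node 2 (.node 2 .nil .nil) .nil)) .nil))) (.node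
  2 (.node 1 (.node 1 (.node 0 (.node 2 .nil .nil) (.node 1 (.node 1 .nil .nil) (.node 2 .nil
  .nil))) .nil) (.node 2 (.node 1 (.node 1 .nil (.node 2 (.node 1 .nil .nil) .nil)) (.node 2
  .nil .nil)) .nil)) .nil)) .nil))) (.node 2 (.node 1 (.node 0 (.node 1 (.node 0 .nil (.node 1
  (.node 0 .nil (.node 2 .nil .nil)) (.node 2 (.node 1 (.node 0 .nil (.node 2 .nil .nil)) (.node
  2 .nil .nil)) .nil))) (.node 2 (.node 1 (.node 1 .nil (.node 2 (.node 1 .nil .nil) .nil))
  (.node 2 (.node 2 .nil .nil) .nil)) .nil)) (.node 1 (.node 0 (.node 1 (.node 0 (.node 1 .nil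
  .nil) .nil) .nil) (.node 1 (.node 0 (.node 1 (.node 2 .nil .nil) (.node 2 .nil .nil)) (.node 1
  (.node 2 (.node 2 (.node 2 .nil .nil) .nil) .nil) (.node 2 .nil .nil))) (.node 2 (.node 1
  (.node 1 (.node 0 .nil .nil) .nil) .nil) .nil))) (.node 2 (.node 1 (.node 0 (.node 1 .nil
  .nil) (.node 1 (.node 1 .nil (.node 2 .nil .nil)) .nil)) (.node 2 (.node 1 (.node 0 (.node 1
  .nil .nil) (.node 1 (.node 2 .nil .nil) .nil)) (.node 2 (.node 1 .nil .nil) .nil)) .nil))
  .nil))) (.node 2 (.node 1 (.node 0 (.node 1 .nil (.node 2 .nil .nil)) (.node 1 (.node 0 (.node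
  2 (.node 2 .nil .nil) .nil) (.node 1 .nil (.node 2 (.node 2 .nil .nil) .nil))) (.node 2 (.node
  1 (.node 0 (.node 1 .nil .nil) (.node 1 (.node 1 .nil .nil) .nil)) (.node 2 (.node 1 (.node 0
  .nil .nil) (.node 2 (.node 2 .nil .nil) .nil)) .nil)) .nil))) .nil) .nil)) .nil)) .nil))
  .nil)) (.node 1 (.node 0 (.node 1 (.node 0 (.node 1 (.node 0 (.node 1 (.node 0 (.node 2 (.node
  1 .nil (.node 2 .nil .nil)) .nil) (.node 2 (.node 1 .nil (.node 2 (.node 1 .nil .nil) .nil))
  .nil)) (.node 2 (.node 2 (.node 1 (.node 2 .nil .nil) (.node 2 .nil .nil)) .nil) .nil)) (.node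
  1 (.node 1 (.node 0 (.node 1 .nil (.node 2 (.node 2 .nil .nil) .nil)) (.node 1 (.node 2 (.node
  1 .nil .nil) .nil) (.node 2 (.node 1 (.node 2 .nil .nil) (.node 2 .nil .nil)) .nil))) .nil)
  (.node 2 (.node 1 (.node 0 (.node 1 .nil (.node 2 .nil .nil)) (.node 1 (.node 0 (.node 1 .nil
  .nil) .nil) (.node 2 .nil .nil))) (.node 2 (.node 1 (.node 0 .nil (.node 1 (.node 0 .nil
  (.node 2 .nil .nil)) (.node 2 (.node 2 .nil .nil) .nil))) (.node 2 (.node 2 (.node 1 .nil
  .nil) .nil) .nil)) .nil)) .nil))) (.node 2 (.node 1 (.node 0 (.node 1 (.node 1 (.node 0 .nil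
  (.node 2 .nil .nil)) .nil) (.node 2 (.node 1 (.node 0 .nil (.node 2 .nil .nil)) (.node 2 .nil
  .nil)) .nil)) (.node 1 (.node 0 (.node 1 (.node 1 .nil .nil) .nil) (.node 1 (.node 0 (.node 1
  .nil .nil) (.node 2 (.node 1 .nil (.node 2 .nil .nil)) .nil)) (.node 2 (.node 1 (.node 1 .nil
  (.node 2 .nil .nil)) .nil) .nil))) (.node 2 (.node 2 .nil .nil) .nil))) (.node 2 (.node 1
  (.node 0 (.node 1 .nil (.node 2 .nil .nil)) (.node 1 (.node 1 .nil .nil) (.node 2 (.node 1
  (.node 2 .nil .nil) (.node 2 .nil .nil)) .nil))) (.node 2 (.node 1 (.node 1 (.node 1 (.node 0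
  .nil .nil) (.node 2 .nil .nil)) .nil) (.node 2 .nil .nil)) .nil)) .nil)) .nil)) (.node 1
  (.node 0 (.node 1 (.node 0 (.node 1 (.node 1 .nil (.node 2 .nil .nil)) (.node 2 (.node 1
  (.node 1 .nil (.node 2 .nil .nil)) (.node 2 (.node 1 .nil .nil) .nil)) .nil)) (.node 1 (.node
  0 .nil (.node 1 (.node 1 .nil (.node 2 (.node 1 .nil .nil) .nil)) .nil)) (.node 2 (.node 1
  (.node 0 .nil (.node 1 .nil .nil)) (.node 2 .nil .nil)) .nil))) (.node 2 (.node 1 (.node 0
  (.node 1 .nil (.node 2 .nil .nil)) (.node 2 .nil .nil)) (.node 2 (.node 1 (.node 1 (.node 1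
  .nil .nil) .nil) (.node 2 (.node 1 .nil (.node 2 .nil .nil)) .nil)) .nil)) .nil)) (.node 1
  (.node 0 (.node 2 (.node 1 (.node 1 (.node 0 .nil .nil) .nil) (.node 2 (.node 2 .nil .nil)
  .nil)) .nil) (.node 1 (.node 0 (.node 1 (.node 1 (.node 1 .nil (.node 2 .nil .nil)) (.node 2
  (.node 1 .nil .nil) .nil)) (.node 2 (.node 1 .nil (.node 2 (.node 1 .nil (.node 2 .nil .nil))
  .nil)) .nil)) (.node 1 (.node 0 (.node 1 .nil (.node 2 .nil .nil)) (.node 2 (.node 1 .nil
  .nil) .nil)) (.node 2 (.node 1 (.node 1 .nil (.node 2 .nil .nil)) (.node 2 (.node 2 .nil .nil)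
  .nil)) .nil))) (.node 2 (.node 1 (.node 0 (.node 1 (.node 2 .nil .nil) (.node 2 (.node 1 .nil
  .nil) .nil)) (.node 1 (.node 0 (.node 1 .nil .nil) (.node 1 (.node 1 .nil .nil) .nil)) (.node
  2 (.node 2 (.node 1 .nil .nil) .nil) .nil))) (.node 2 (.node 1 (.node 0 (.node 2 .nil .nil)
  (.node 2 (.node 1 .nil .nil) .nil)) (.node 2 (.node 2 .nil .nil) .nil)) .nil)) .nil))) (.node
  2 (.node 1 (.node 0 (.node 2 (.node 2 .nil .nil) .nil) (.node 1 (.node 0 .nil (.node 1 (.node
  0 .nil (.node 2 .nil .nil)) (.node 2 (.node 1 (.node 0 .nil (.node 2 .nil .nil)) (.node 2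
  (.node 1 .nil .nil) .nil)) .nil))) (.node 2 (.node 1 .nil (.node 2 (.node 1 .nil .nil) .nil))
  .nil))) (.node 2 (.node 1 (.node 2 (.node 1 .nil (.node 2 .nil .nil)) .nil) (.node 2 (.node 1
  (.node 2 (.node 1 .nil (.node 2 .nil .nil)) .nil) (.node 2 (.node 1 (.node 1 .nil .nil) .nil)
  .nil)) .nil)) .nil)) .nil))) (.node 2 (.node 1 (.node 0 (.node 2 (.node 1 (.node 1 .nil (.node
  2 (.node 2 .nil .nil) .nil)) (.node 2 (.node 1 .nil (.node 2 (.node 2 .nil .nil) .nil)) .nil))
  .nil) (.node 1 (.node 0 (.node 2 (.node 1 (.node 1 .nil (.node 2 .nil .nil)) (.node 2 .nil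
  .nil)) .nil) (.node 1 (.node 0 (.node 1 .nil (.node 2 .nil .nil)) (.node 2 (.node 1 (.node 1
  .nil .nil) .nil) .nil)) (.node 2 (.node 1 (.node 0 (.node 1 .nil .nil) .nil) (.node 2 (.node 2
  (.node 2 .nil .nil) .nil) .nil)) .nil))) (.node 2 (.node 1 (.node 0 (.node 1 (.node 0 .nil
  .nil) (.node 2 (.node 2 .nil .nil) .nil)) (.node 1 (.node 0 .nil (.node 1 .nil (.node 2 (.node
  1 .nil .nil) .nil))) (.node 2 (.node 2 .nil .nil) .nil))) (.node 2 (.node 1 (.node 0 (.node 1
  (.node 1 .nil .nil) .nil) (.node 1 .nil (.node 2 .nil .nil))) (.node 2 (.node 1 .nil (.node 2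
  .nil .nil)) .nil)) .nil)) .nil))) (.node 2 (.node 1 (.node 1 (.node 0 (.node 2 (.node 2 .nil
  .nil) .nil) (.node 2 (.node 1 .nil (.node 2 (.node 1 .nil .nil) .nil)) .nil)) .nil) (.node 2
  (.node 1 (.node 0 (.node 2 .nil .nil) (.node 1 (.node 0 .nil (.node 1 .nil (.node 2 .nil
  .nil))) (.node 2 .nil .nil))) (.node 2 (.node 1 (.node 0 (.node 2 .nil .nil) (.node 1 (.node 0
  .nil .nil) (.node 2 .nil .nil))) .nil) .nil)) .nil)) .nil)) .nil))) (.node 2 (.node 1 (.node 0
  (.node 1 (.node 0 (.node 1 (.node 0 (.node 2 .nil .nil) (.node 2 .nil .nil)) (.node 2 (.node 2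
  (.node 1 (.node 2 .nil .nil) .nil) .nil) .nil)) (.node 1 (.node 1 (.node 0 .nil (.node 1
  (.node 1 .nil .nil) .nil)) .nil) (.node 2 (.node 1 (.node 0 (.node 1 .nil .nil) (.node 1
  (.node 2 .nil .nil) .nil)) (.node 2 (.node 1 .nil .nil) .nil)) .nil))) (.node 2 (.node 1
  (.node 0 (.node 1 (.node 2 .nil .nil) (.node 2 .nil .nil)) (.node 1 (.node 0 .nil (.node 1
  (.node 0 .nil .nil) (.node 2 (.node 2 .nil .nil) .nil))) (.node 2 .nil .nil))) (.node 2 (.node
  1 .nil (.node 2 (.node 1 (.node 0 .nil (.node 1 .nil .nil)) .nil) .nil)) .nil)) .nil)) (.node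
  1 (.node 0 (.node 1 (.node 0 (.node 1 (.node 1 .nil .nil) (.node 2 (.node 1 (.node 1 .nil
  .nil) .nil) .nil)) (.node 1 (.node 0 .nil (.node 1 (.node 1 .nil .nil) .nil)) (.node 2 (.node
  2 (.node 1 .nil .nil) .nil) .nil))) (.node 2 (.node 1 (.node 1 (.node 1 .nil (.node 2 .nil
  .nil)) .nil) (.node 2 (.node 2 (.node 2 .nil .nil) .nil) .nil)) .nil)) (.node 1 (.node 0
  (.node 2 (.node 1 (.node 0 .nil (.node 2 .nil .nil)) (.node 2 .nil .nil)) .nil) (.node 1
  (.node 0 (.node 1 .nil (.node 2 (.node 2 .nil .nil) .nil)) (.node 1 (.node 1 (.node 1 .nil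
  .nil) (.node 2 .nil .nil)) (.node 2 (.node 1 (.node 0 .nil .nil) (.node 2 .nil .nil)) .nil)))
  (.node 2 (.node 2 (.node 2 (.node 2 .nil .nil) .nil) .nil) .nil))) (.node 2 (.node 1 (.node 0
  (.node 1 .nil .nil) (.node 1 (.node 0 (.node 1 .nil .nil) (.node 2 .nil .nil)) (.node 2 (.node
  1 .nil .nil) .nil))) (.node 2 (.node 2 (.node 2 .nil .nil) .nil) .nil)) .nil))) (.node 2
  (.node 1 (.node 0 (.node 1 (.node 0 .nil (.node 2 .nil .nil)) (.node 2 (.node 1 (.node 0 .nil
  .nil) (.node 2 .nil .nil)) .nil)) (.node 1 (.node 0 .nil (.node 1 (.node 1 (.node 1 .nil .nil)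
  (.node 2 (.node 1 (.node 1 .nil .nil) .nil) .nil)) (.node 2 (.node 1 (.node 2 .nil .nil) .nil)
  .nil))) (.node 2 (.node 1 .nil (.node 2 (.node 1 .nil (.node 2 (.node 1 (.node 2 .nil .nil)
  (.node 2 .nil .nil)) .nil)) .nil)) .nil))) (.node 2 (.node 1 (.node 2 (.node 2 (.node 2 .nil
  .nil) .nil) .nil) (.node 2 (.node 1 (.node 0 .nil (.node 1 (.node 1 .nil .nil) (.node 2 .nil
  .nil))) .nil) .nil)) .nil)) .nil))) (.node 2 (.node 1 (.node 0 (.node 1 (.node 1 (.node 0 .nil
  (.node 1 (.node 1 .nil .nil) (.node 2 .nil .nil))) (.node 2 .nil .nil)) (.node 2 (.node 1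
  (.node 1 (.node 1 .nil (.node 2 .nil .nil)) (.node 2 .nil .nil)) .nil) .nil)) (.node 2 (.node
  1 (.node 0 (.node 1 (.node 0 .nil (.node 2 .nil .nil)) .nil) (.node 2 (.node 1 (.node 1 .nil
  .nil) .nil) .nil)) (.node 2 (.node 1 .nil (.node 2 (.node 2 .nil .nil) .nil)) .nil)) .nil))
  (.node 2 (.node 1 (.node 2 (.node 1 .nil (.node 2 (.node 2 (.node 2 .nil .nil) .nil) .nil))
  .nil) (.node 2 .nil .nil)) .nil)) .nil)) .nil)) (.node 1 (.node 0 (.node 1 (.node 0 (.node 1
  (.node 0 (.node 1 (.node 1 (.node 2 .nil .nil) .nil) .nil) (.node 1 (.node 0 (.node 1 (.node 0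
  .nil .nil) (.node 2 .nil .nil)) (.node 1 (.node 0 (.node 2 .nil .nil) (.node 2 (.node 2 .nil
  .nil) .nil)) (.node 2 (.node 1 .nil .nil) .nil))) (.node 2 (.node 1 (.node 0 (.node 1 .nil
  .nil) (.node 1 .nil (.node 2 (.node 2 .nil .nil) .nil))) .nil) .nil))) (.node 2 (.node 1
  (.node 0 (.node 1 (.node 1 .nil .nil) (.node 2 .nil .nil)) (.node 1 (.node 1 (.node 0 .nil
  (.node 2 .nil .nil)) .nil) (.node 2 (.node 1 (.node 2 .nil .nil) .nil) .nil))) .nil) .nil))
  (.node 1 (.node 0 (.node 1 .nil (.node 2 (.node 1 (.node 0 (.node 1 .nil .nil) .nil) (.node 2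
  (.node 1 .nil (.node 2 .nil .nil)) .nil)) .nil)) (.node 1 (.node 0 (.node 1 (.node 2 (.node 1
  .nil .nil) .nil) (.node 2 .nil .nil)) (.node 1 (.node 0 (.node 2 .nil .nil) (.node 1 (.node 0
  (.node 2 .nil .nil) (.node 2 (.node 2 .nil .nil) .nil)) (.node 2 (.node 1 (.node 2 .nil .nil)
  .nil) .nil))) (.node 2 (.node 1 .nil (.node 2 (.node 1 (.node 2 (.node 2 .nil .nil) .nil)
  .nil) .nil)) .nil))) (.node 2 (.node 1 (.node 0 (.node 1 .nil (.node 2 .nil .nil)) (.node 1
  (.node 0 (.node 1 (.node 1 .nil .nil) (.node 2 .nil .nil)) (.node 2 .nil .nil)) (.node 2 .nil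
  .nil))) (.node 2 (.node 1 (.node 0 (.node 1 .nil (.node 2 .nil .nil)) (.node 1 (.node 0 .nil
  .nil) (.node 2 .nil .nil))) (.node 2 (.node 1 .nil (.node 2 .nil .nil)) .nil)) .nil)) .nil)))
  (.node 2 (.node 1 (.node 1 (.node 0 .nil (.node 1 (.node 0 (.node 2 .nil .nil) (.node 1 (.node
  1 .nil .nil) (.node 2 (.node 1 .nil (.node 2 .nil .nil)) .nil))) (.node 2 (.node 1 (.node 0
  .nil .nil) .nil) .nil))) (.node 2 (.node 1 (.node 0 .nil .nil) .nil) .nil)) (.node 2 (.node 1
  (.node 1 (.node 0 (.node 1 .nil (.node 2 .nil .nil)) (.node 2 .nil .nil)) .nil) (.node 2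
  (.node 1 (.node 0 .nil (.node 1 (.node 2 .nil .nil) (.node 2 (.node 2 .nil .nil) .nil)))
  (.node 2 (.node 1 (.node 2 .nil .nil) .nil) .nil)) .nil)) .nil)) .nil))) (.node 2 (.node 1
  (.node 0 (.node 1 (.node 0 (.node 1 (.node 2 .nil .nil) (.node 2 .nil .nil)) (.node 2 (.node 2
  .nil .nil) .nil)) .nil) (.node 1 (.node 0 (.node 1 (.node 0 .nil (.node 2 .nil .nil)) (.node 2
  (.node 2 (.node 2 .nil .nil) .nil) .nil)) (.node 1 (.node 0 (.node 1 (.node 1 .nil .nil)
  (.node 2 .nil .nil)) (.node 2 (.node 1 (.node 0 .nil (.node 1 .nil .nil)) .nil) .nil)) (.node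
  2 (.node 1 (.node 0 .nil (.node 1 (.node 1 .nil .nil) (.node 2 .nil .nil))) (.node 2 (.node 2
  .nil .nil) .nil)) .nil))) (.node 2 (.node 1 (.node 0 (.node 1 (.node 0 .nil (.node 1 .nil
  .nil)) .nil) (.node 1 .nil (.node 2 .nil .nil))) .nil) .nil))) (.node 2 (.node 1 (.node 0
  (.node 1 (.node 0 .nil (.node 1 (.node 0 .nil (.node 1 .nil .nil)) (.node 2 (.node 1 .nil
  .nil) .nil))) (.node 2 (.node 1 (.node 0 .nil (.node 1 .nil .nil)) (.node 2 .nil .nil)) .nil))
  (.node 1 (.node 0 (.node 1 .nil (.node 2 .nil .nil)) (.node 1 (.node 0 .nil (.node 1 (.node 0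
  .nil (.node 2 .nil .nil)) .nil)) (.node 2 .nil .nil))) (.node 2 (.node 1 (.node 0 .nil (.node
  2 .nil .nil)) (.node 2 .nil .nil)) .nil))) (.node 2 (.node 2 (.node 1 (.node 1 (.node 1 .nil
  .nil) (.node 2 .nil .nil)) .nil) .nil) .nil)) .nil)) .nil)) (.node 1 (.node 0 (.node 1 (.node
  0 (.node 1 (.node 1 (.node 0 .nil (.node 1 .nil (.node 2 .nil .nil))) (.node 2 (.node 1 .nil
  (.node 2 .nil .nil)) .nil)) (.node 2 (.node 2 (.node 2 .nil .nil) .nil) .nil)) (.node 1 (.node
  0 (.node 1 (.node 0 (.node 2 .nil .nil) (.node 2 .nil .nil)) (.node 2 (.node 1 (.node 0 .nil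
  .nil) .nil) .nil)) (.node 1 (.node 0 (.node 1 .nil .nil) (.node 1 (.node 0 .nil (.node 1 .nil
  .nil)) .nil)) (.node 2 (.node 1 (.node 1 .nil (.node 2 .nil .nil)) (.node 2 (.node 1 .nil
  .nil) .nil)) .nil))) (.node 2 (.node 1 (.node 0 (.node 1 .nil .nil) (.node 1 (.node 0 (.node 1
  .nil .nil) (.node 1 .nil (.node 2 .nil .nil))) (.node 2 .nil .nil))) (.node 2 (.node 1 (.node
  1 .nil .nil) (.node 2 (.node 1 (.node 1 .nil .nil) .nil) .nil)) .nil)) .nil))) (.node 2 (.node
  1 (.node 0 (.node 1 .nil (.node 2 .nil .nil)) (.node 1 (.node 0 .nil (.node 1 .nil (.node 2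
  (.node 1 .nil .nil) .nil))) (.node 2 (.node 1 .nil (.node 2 .nil .nil)) .nil))) (.node 2
  (.node 1 (.node 0 .nil (.node 1 (.node 2 .nil .nil) (.node 2 .nil .nil))) (.node 2 (.node 1
  .nil (.node 2 (.node 1 (.node 1 .nil .nil) .nil) .nil)) .nil)) .nil)) .nil)) (.node 1 (.node 0
  (.node 1 (.node 0 (.node 1 (.node 0 .nil (.node 1 .nil (.node 2 (.node 2 .nil .nil) .nil)))
  (.node 2 (.node 1 (.node 1 (.node 1 .nil .nil) .nil) (.node 2 .nil .nil)) .nil)) (.node 1
  (.node 0 .nil (.node 1 (.node 2 (.node 2 .nil .nil) .nil) (.node 2 (.node 1 .nil .nil) .nil)))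
  (.node 2 (.node 1 (.node 0 .nil .nil) (.node 2 (.node 2 .nil .nil) .nil)) .nil))) (.node 2
  (.node 1 (.node 0 (.node 1 (.node 0 .nil .nil) (.node 2 .nil .nil)) (.node 1 (.node 0 (.node 2
  .nil .nil) (.node 2 .nil .nil)) (.node 2 (.node 1 .nil (.node 2 (.node 2 .nil .nil) .nil))
  .nil))) (.node 2 (.node 2 (.node 1 (.node 1 (.node 2 .nil .nil) .nil) (.node 2 .nil .nil))
  .nil) .nil)) .nil)) (.node 1 (.node 0 (.node 1 (.node 0 (.node 1 .nil .nil) (.node 1 (.node 1
  .nil .nil) .nil)) (.node 2 (.node 2 .nil .nil) .nil)) (.node 1 (.node 1 (.node 0 (.node 1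
  (.node 0 (.node 2 .nil .nil) (.node 1 .nil (.node 2 .nil .nil))) (.node 2 .nil .nil)) (.node 1
  (.node 0 .nil (.node 1 (.node 0 .nil (.node 1 .nil (.node 2 .nil .nil))) .nil)) (.node 2
  (.node 1 (.node 0 .nil .nil) .nil) .nil))) (.node 2 (.node 1 (.node 0 (.node 1 .nil .nil)
  (.node 1 .nil (.node 2 .nil .nil))) (.node 2 (.node 2 (.node 2 .nil .nil) .nil) .nil)) .nil))
  (.node 2 (.node 2 (.node 1 (.node 2 .nil .nil) (.node 2 .nil .nil)) .nil) .nil))) (.node 2
  (.node 1 (.node 0 (.node 1 .nil (.node 2 (.node 2 (.node 2 .nil .nil) .nil) .nil)) (.node 1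
  (.node 0 (.node 1 (.node 2 .nil .nil) (.node 2 .nil .nil)) (.node 2 .nil .nil)) (.node 2
  (.node 1 (.node 0 .nil (.node 1 .nil .nil)) (.node 2 (.node 1 .nil (.node 2 .nil .nil)) .nil))
  .nil))) (.node 2 (.node 1 (.node 2 (.node 1 (.node 2 .nil .nil) (.node 2 .nil .nil)) .nil)
  (.node 2 (.node 1 (.node 1 .nil .nil) (.node 2 (.node 1 .nil .nil) .nil)) .nil)) .nil))
  .nil))) (.node 2 (.node 1 (.node 0 (.node 1 (.node 0 (.node 1 .nil .nil) (.node 1 (.node 1
  .nil (.node 2 (.node 2 .nil .nil) .nil)) (.node 2 (.node 1 (.node 0 .nil .nil) .nil) .nil)))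
  (.node 2 (.node 1 (.node 1 .nil (.node 2 .nil .nil)) (.node 2 (.node 2 (.node 1 .nil .nil)
  .nil) .nil)) .nil)) (.node 1 (.node 0 (.node 1 (.node 0 .nil .nil) (.node 2 (.node 1 (.node 2
  .nil .nil) (.node 2 .nil .nil)) .nil)) (.node 1 (.node 0 (.node 1 .nil .nil) (.node 1 (.node 0
  .nil (.node 2 .nil .nil)) (.node 2 .nil .nil))) (.node 2 (.node 1 (.node 2 .nil .nil) (.node 2
  (.node 2 .nil .nil) .nil)) .nil))) (.node 2 (.node 1 (.node 1 (.node 0 .nil (.node 2 (.node 1
  .nil .nil) .nil)) .nil) (.node 2 (.node 1 (.node 0 .nil .nil) (.node 2 (.node 2 .nil .nil)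
  .nil)) .nil)) .nil))) (.node 2 (.node 1 (.node 0 (.node 2 .nil .nil) (.node 1 (.node 0 (.node
  2 .nil .nil) (.node 1 (.node 0 .nil (.node 2 (.node 2 .nil .nil) .nil)) (.node 2 .nil .nil)))
  (.node 2 (.node 1 (.node 0 .nil (.node 2 .nil .nil)) (.node 2 (.node 1 .nil .nil) .nil))
  .nil))) (.node 2 (.node 2 .nil .nil) .nil)) .nil)) .nil))) (.node 2 (.node 1 (.node 0 (.node 1
  (.node 0 (.node 1 .nil (.node 2 .nil .nil)) (.node 1 (.node 0 (.node 1 .nil .nil) (.node 1
  (.node 0 (.node 1 .nil .nil) (.node 1 (.node 1 .nil .nil) .nil)) (.node 2 (.node 1 .nil (.node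
  2 (.node 1 .nil .nil) .nil)) .nil))) (.node 2 (.node 1 (.node 2 (.node 1 .nil (.node 2 .nil
  .nil)) .nil) (.node 2 (.node 1 .nil .nil) .nil)) .nil))) (.node 2 (.node 1 (.node 0 (.node 1
  .nil .nil) (.node 1 (.node 0 (.node 2 .nil .nil) (.node 1 (.node 2 .nil .nil) (.node 2 .nil
  .nil))) (.node 2 .nil .nil))) (.node 2 (.node 1 (.node 0 .nil .nil) (.node 2 (.node 1 (.node 0
  .nil .nil) (.node 2 .nil .nil)) .nil)) .nil)) .nil)) (.node 1 (.node 1 (.node 0 .nil (.node 1
  (.node 0 (.node 1 .nil .nil) (.node 1 (.node 0 .nil (.node 2 .nil .nil)) .nil)) .nil)) .nil)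
  (.node 2 (.node 1 (.node 0 (.node 1 (.node 0 .nil (.node 1 (.node 0 .nil .nil) .nil)) (.node 2
  .nil .nil)) (.node 1 (.node 0 (.node 1 (.node 0 .nil .nil) (.node 2 .nil .nil)) (.node 2
  (.node 2 (.node 1 .nil .nil) .nil) .nil)) (.node 2 (.node 1 (.node 0 .nil .nil) (.node 2
  (.node 2 (.node 1 .nil (.node 2 (.node 1 .nil .nil) .nil)) .nil) .nil)) .nil))) (.node 2
  (.node 1 (.node 1 .nil (.node 2 (.node 1 .nil (.node 2 .nil .nil)) .nil)) (.node 2 (.node 1
  (.node 0 .nil .nil) (.node 2 (.node 1 .nil .nil) .nil)) .nil)) .nil)) .nil))) (.node 2 (.node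
  1 (.node 0 (.node 1 (.node 0 (.node 1 (.node 0 .nil (.node 2 .nil .nil)) (.node 2 .nil .nil))
  (.node 1 (.node 0 .nil (.node 2 (.node 1 .nil .nil) .nil)) (.node 2 (.node 2 .nil .nil)
  .nil))) (.node 2 (.node 1 (.node 1 .nil .nil) (.node 2 .nil .nil)) .nil)) (.node 1 (.node 0
  (.node 1 (.node 0 .nil (.node 1 .nil (.node 2 .nil .nil))) (.node 2 (.node 2 .nil .nil) .nil))
  (.node 1 .nil (.node 2 (.node 1 (.node 0 (.node 1 .nil .nil) (.node 2 .nil .nil)) (.node 2
  (.node 1 (.node 0 .nil (.node 1 .nil .nil)) (.node 2 .nil .nil)) .nil)) .nil))) (.node 2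
  (.node 1 (.node 0 (.node 2 .nil .nil) (.node 1 (.node 0 (.node 1 .nil .nil) (.node 2 .nil
  .nil)) (.node 2 (.node 2 (.node 1 .nil .nil) .nil) .nil))) (.node 2 .nil .nil)) .nil))) (.node
  2 (.node 1 (.node 0 (.node 1 (.node 1 (.node 2 .nil .nil) .nil) (.node 2 (.node 1 .nil (.node
  2 .nil .nil)) .nil)) (.node 1 (.node 0 (.node 2 .nil .nil) (.node 1 (.node 0 .nil (.node 1
  (.node 2 .nil .nil) (.node 2 .nil .nil))) (.node 2 (.node 1 (.node 1 (.node 0 .nil (.node 2
  .nil .nil)) .nil) (.node 2 .nil .nil)) .nil))) (.node 2 (.node 1 (.node 0 (.node 1 .nil .nil)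
  (.node 2 .nil .nil)) (.node 2 (.node 1 (.node 1 .nil .nil) .nil) .nil)) .nil))) (.node 2
  (.node 1 (.node 0 .nil (.node 2 .nil .nil)) .nil) .nil)) .nil)) .nil)) .nil))) (.node 2 (.node
  1 (.node 0 (.node 1 (.node 0 (.node 1 (.node 0 (.node 1 (.node 0 .nil (.node 2 .nil .nil))
  (.node 2 .nil .nil)) (.node 2 (.node 1 .nil .nil) .nil)) (.node 2 (.node 2 (.node 1 (.node 0
  (.node 1 .nil .nil) (.node 2 .nil .nil)) (.node 2 .nil .nil)) .nil) .nil)) (.node 1 (.node 0
  (.node 1 (.node 0 .nil (.node 1 .nil (.node 2 (.node 2 .nil .nil) .nil))) (.node 2 (.node 1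
  .nil .nil) .nil)) (.node 1 (.node 0 (.node 1 (.node 1 .nil (.node 2 .nil .nil)) (.node 2
  (.node 2 .nil .nil) .nil)) (.node 2 (.node 2 .nil .nil) .nil)) (.node 2 (.node 1 (.node 0 .nil
  (.node 2 .nil .nil)) .nil) .nil))) (.node 2 (.node 1 (.node 0 (.node 2 (.node 2 .nil .nil)
  .nil) (.node 2 (.node 2 .nil .nil) .nil)) (.node 2 (.node 2 (.node 1 .nil .nil) .nil) .nil))
  .nil))) (.node 2 (.node 1 (.node 0 (.node 2 (.node 1 .nil .nil) .nil) (.node 1 (.node 0 (.node
  2 .nil .nil) (.node 1 (.node 1 .nil .nil) (.node 2 (.node 2 .nil .nil) .nil))) (.node 2 .nil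
  .nil))) (.node 2 (.node 1 (.node 1 (.node 2 .nil .nil) .nil) (.node 2 (.node 1 (.node 0 (.node
  2 .nil .nil) (.node 1 .nil (.node 2 .nil .nil))) .nil) .nil)) .nil)) .nil)) (.node 1 (.node 0
  (.node 1 (.node 0 (.node 1 (.node 0 .nil (.node 1 .nil .nil)) (.node 2 (.node 1 .nil .nil)
  .nil)) (.node 1 (.node 2 (.node 2 .nil .nil) .nil) (.node 2 (.node 1 (.node 0 .nil (.node 1
  .nil .nil)) (.node 2 (.node 2 (.node 2 .nil .nil) .nil) .nil)) .nil))) (.node 2 (.node 1
  (.node 0 (.node 2 (.node 2 .nil .nil) .nil) (.node 2 (.node 1 (.node 1 .nil (.node 2 .nil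
  .nil)) (.node 2 .nil .nil)) .nil)) (.node 2 (.node 1 (.node 0 .nil (.node 2 .nil .nil)) (.node
  2 (.node 1 (.node 1 .nil .nil) .nil) .nil)) .nil)) .nil)) (.node 1 (.node 0 (.node 1 (.node 0
  (.node 1 .nil .nil) (.node 1 (.node 2 .nil .nil) (.node 2 .nil .nil))) (.node 2 (.node 1
  (.node 0 .nil (.node 1 .nil .nil)) .nil) .nil)) (.node 1 (.node 0 (.node 2 .nil .nil) (.node 1
  (.node 0 (.node 2 .nil .nil) (.node 1 (.node 1 (.node 1 .nil .nil) .nil) (.node 2 (.node 2
  .nil .nil) .nil))) (.node 2 (.node 1 .nil (.node 2 (.node 1 .nil (.node 2 .nil .nil)) .nil))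
  .nil))) (.node 2 (.node 1 (.node 2 .nil .nil) (.node 2 .nil .nil)) .nil))) (.node 2 (.node 1
  (.node 0 (.node 2 (.node 2 .nil .nil) .nil) (.node 1 (.node 0 (.node 1 .nil (.node 2 .nil
  .nil)) (.node 1 (.node 1 (.node 0 .nil .nil) (.node 2 .nil .nil)) (.node 2 .nil .nil))) (.node
  2 (.node 1 .nil (.node 2 (.node 1 (.node 1 .nil .nil) (.node 2 .nil .nil)) .nil)) .nil)))
  (.node 2 (.node 1 (.node 0 (.node 2 .nil .nil) (.node 1 (.node 0 .nil (.node 1 .nil (.node 2
  (.node 1 .nil .nil) .nil))) (.node 2 (.node 2 (.node 1 .nil .nil) .nil) .nil))) (.node 2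
  (.node 1 .nil .nil) .nil)) .nil)) .nil))) (.node 2 (.node 1 (.node 0 (.node 2 (.node 1 (.node
  0 .nil (.node 1 (.node 0 .nil .nil) (.node 2 (.node 1 .nil .nil) .nil))) (.node 2 (.node 1
  (.node 0 .nil (.node 2 .nil .nil)) .nil) .nil)) .nil) (.node 1 (.node 0 (.node 1 (.node 0 .nil
  .nil) (.node 2 (.node 2 .nil .nil) .nil)) (.node 1 (.node 0 (.node 1 .nil (.node 2 (.node 1
  .nil .nil) .nil)) (.node 1 (.node 1 .nil .nil) (.node 2 (.node 1 (.node 2 .nil .nil) (.node 2
  (.node 2 .nil .nil) .nil)) .nil))) (.node 2 (.node 1 (.node 2 .nil .nil) (.node 2 .nil .nil))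
  .nil))) (.node 2 (.node 1 (.node 0 .nil (.node 1 .nil (.node 2 (.node 1 .nil .nil) .nil)))
  (.node 2 (.node 1 (.node 1 .nil .nil) (.node 2 (.node 2 .nil .nil) .nil)) .nil)) .nil)))
  (.node 2 (.node 1 (.node 0 (.node 1 .nil (.node 2 (.node 2 (.node 2 .nil .nil) .nil) .nil))
  (.node 1 (.node 0 (.node 1 (.node 2 .nil .nil) (.node 2 (.node 2 .nil .nil) .nil)) (.node 1
  (.node 0 (.node 2 .nil .nil) (.node 2 (.node 1 .nil .nil) .nil)) (.node 2 (.node 1 (.node 2
  .nil .nil) (.node 2 (.node 1 .nil .nil) .nil)) .nil))) (.node 2 (.node 1 (.node 0 .nil .nil)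
  (.node 2 (.node 2 (.node 2 .nil .nil) .nil) .nil)) .nil))) (.node 2 (.node 1 (.node 0 (.node 2
  .nil .nil) (.node 2 (.node 1 .nil .nil) .nil)) (.node 2 (.node 1 (.node 0 (.node 2 .nil .nil)
  (.node 1 (.node 1 .nil .nil) (.node 2 .nil .nil))) .nil) .nil)) .nil)) .nil)) .nil))) (.node 2
  (.node 1 (.node 0 (.node 1 (.node 0 (.node 1 .nil .nil) (.node 1 (.node 1 (.node 0 .nil .nil)
  (.node 2 (.node 2 .nil .nil) .nil)) (.node 2 (.node 1 (.node 1 (.node 0 .nil .nil) .nil)
  (.node 2 (.node 2 (.node 1 .nil (.node 2 .nil .nil)) .nil) .nil)) .nil))) (.node 2 (.node 1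
  (.node 0 (.node 1 .nil (.node 2 .nil .nil)) (.node 1 (.node 1 (.node 2 .nil .nil) (.node 2
  .nil .nil)) (.node 2 .nil .nil))) (.node 2 (.node 1 (.node 0 .nil (.node 1 .nil (.node 2 .nil
  .nil))) (.node 2 .nil .nil)) .nil)) .nil)) (.node 1 (.node 0 (.node 1 (.node 0 (.node 2 .nil
  .nil) (.node 1 (.node 1 (.node 1 .nil .nil) .nil) (.node 2 (.node 1 (.node 1 .nil .nil) (.node
  2 .nil .nil)) .nil))) (.node 2 (.node 1 (.node 0 (.node 2 .nil .nil) (.node 1 (.node 0 .nil
  .nil) (.node 2 .nil .nil))) (.node 2 (.node 1 (.node 0 .nil (.node 1 .nil .nil)) (.node 2 .nil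
  .nil)) .nil)) .nil)) (.node 1 (.node 0 (.node 1 .nil (.node 2 (.node 2 (.node 2 .nil .nil)
  .nil) .nil)) (.node 1 (.node 2 .nil .nil) (.node 2 (.node 2 (.node 1 .nil (.node 2 .nil .nil))
  .nil) .nil))) (.node 2 (.node 2 (.node 1 (.node 2 .nil .nil) (.node 2 (.node 2 (.node 1 .nil
  .nil) .nil) .nil)) .nil) .nil))) (.node 2 (.node 1 (.node 0 (.node 2 (.node 1 (.node 2 .nil
  .nil) (.node 2 (.node 1 .nil .nil) .nil)) .nil) (.node 1 (.node 0 (.node 1 .nil (.node 2 .nil
  .nil)) (.node 1 (.node 0 (.node 1 .nil (.node 2 .nil .nil)) (.node 1 (.node 1 .nil (.node 2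
  .nil .nil)) (.node 2 .nil .nil))) (.node 2 (.node 1 .nil .nil) .nil))) (.node 2 (.node 1 .nil
  (.node 2 .nil .nil)) .nil))) (.node 2 (.node 2 (.node 1 (.node 2 .nil .nil) (.node 2 .nil
  .nil)) .nil) .nil)) .nil))) (.node 2 (.node 1 (.node 0 (.node 1 (.node 0 .nil (.node 1 (.node
  1 (.node 1 .nil .nil) .nil) .nil)) (.node 2 (.node 2 (.node 2 (.node 2 .nil .nil) .nil) .nil)
  .nil)) (.node 1 (.node 0 (.node 1 (.node 1 .nil (.node 2 .nil .nil)) .nil) (.node 1 (.node 0
  (.node 1 .nil (.node 2 .nil .nil)) (.node 2 (.node 1 .nil (.node 2 .nil .nil)) .nil)) .nil))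
  (.node 2 (.node 1 (.node 0 (.node 2 .nil .nil) (.node 1 (.node 0 (.node 1 .nil .nil) (.node 2
  .nil .nil)) (.node 2 (.node 1 .nil (.node 2 .nil .nil)) .nil))) (.node 2 (.node 1 (.node 0
  .nil (.node 2 .nil .nil)) (.node 2 (.node 1 .nil (.node 2 .nil .nil)) .nil)) .nil)) .nil)))
  (.node 2 (.node 1 (.node 0 (.node 1 .nil (.node 2 (.node 2 .nil .nil) .nil)) (.node 1 (.node 0
  (.node 2 .nil .nil) (.node 2 (.node 2 .nil .nil) .nil)) (.node 2 (.node 2 (.node 1 .nil .nil)
  .nil) .nil))) .nil) .nil)) .nil)) .nil)) .nil))) (.node 2 (.node 1 (.node 0 (.node 1 (.node 0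
  (.node 1 (.node 0 (.node 1 (.node 0 .nil (.node 1 .nil (.node 2 .nil .nil))) .nil) (.node 2
  (.node 1 (.node 0 (.node 1 .nil .nil) (.node 2 .nil .nil)) (.node 2 .nil .nil)) .nil)) (.node
  2 (.node 1 (.node 0 .nil (.node 1 (.node 0 .nil .nil) .nil)) (.node 2 (.node 2 (.node 1 .nil
  (.node 2 .nil .nil)) .nil) .nil)) .nil)) (.node 1 (.node 0 (.node 1 (.node 0 (.node 1 (.node 0
  .nil (.node 1 .nil (.node 2 .nil .nil))) (.node 2 .nil .nil)) (.node 1 (.node 2 .nil .nil)
  (.node 2 .nil .nil))) (.node 2 (.node 2 (.node 1 .nil .nil) .nil) .nil)) (.node 1 (.node 0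
  (.node 2 .nil .nil) (.node 1 (.node 0 (.node 1 .nil .nil) (.node 1 (.node 0 (.node 1 .nil
  .nil) (.node 1 (.node 1 .nil .nil) .nil)) (.node 2 .nil .nil))) (.node 2 (.node 1 (.node 0
  (.node 2 .nil .nil) (.node 2 .nil .nil)) (.node 2 .nil .nil)) .nil))) (.node 2 (.node 1 (.node
  1 (.node 2 (.node 1 .nil .nil) .nil) (.node 2 (.node 1 (.node 2 .nil .nil) .nil) .nil)) (.node
  2 (.node 1 (.node 0 .nil (.node 1 .nil (.node 2 (.node 2 .nil .nil) .nil))) (.node 2 (.node 1
  (.node 1 .nil (.node 2 .nil .nil)) .nil) .nil)) .nil)) .nil))) (.node 2 (.node 1 (.node 0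
  (.node 1 (.node 1 .nil (.node 2 (.node 1 .nil .nil) .nil)) .nil) (.node 1 (.node 0 (.node 2
  (.node 2 .nil .nil) .nil) (.node 1 .nil (.node 2 (.node 2 (.node 2 .nil .nil) .nil) .nil)))
  (.node 2 (.node 2 (.node 2 (.node 2 .nil .nil) .nil) .nil) .nil))) (.node 2 (.node 1 (.node 0
  (.node 2 .nil .nil) (.node 2 (.node 2 (.node 2 .nil .nil) .nil) .nil)) (.node 2 (.node 2
  (.node 1 (.node 1 .nil .nil) .nil) .nil) .nil)) .nil)) .nil))) (.node 2 (.node 1 (.node 0
  (.node 1 (.node 1 (.node 1 (.node 1 .nil .nil) .nil) .nil) (.node 2 (.node 1 (.node 0 .nil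
  (.node 2 .nil .nil)) .nil) .nil)) (.node 1 (.node 0 (.node 1 (.node 1 .nil .nil) (.node 2
  (.node 1 .nil (.node 2 .nil .nil)) .nil)) (.node 2 (.node 1 .nil (.node 2 (.node 1 .nil (.node
  2 .nil .nil)) .nil)) .nil)) (.node 2 (.node 1 (.node 0 (.node 1 .nil (.node 2 .nil .nil))
  (.node 2 (.node 2 (.node 1 .nil .nil) .nil) .nil)) (.node 2 .nil .nil)) .nil))) (.node 2
  (.node 1 (.node 0 (.node 1 (.node 0 (.node 1 .nil .nil) (.node 1 (.node 2 .nil .nil) (.node 2
  (.node 2 .nil .nil) .nil))) (.node 2 (.node 1 .nil .nil) .nil)) (.node 1 .nil (.node 2 (.node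
  1 (.node 1 .nil .nil) .nil) .nil))) (.node 2 (.node 1 (.node 0 (.node 1 .nil .nil) (.node 2
  (.node 1 .nil (.node 2 .nil .nil)) .nil)) (.node 2 (.node 1 (.node 0 (.node 2 .nil .nil)
  (.node 2 .nil .nil)) .nil) .nil)) .nil)) .nil)) .nil)) (.node 1 (.node 0 (.node 1 (.node 0
  (.node 1 (.node 0 .nil (.node 1 (.node 2 (.node 1 .nil .nil) .nil) .nil)) (.node 2 (.node 1
  (.node 1 .nil (.node 2 .nil .nil)) (.node 2 .nil .nil)) .nil)) (.node 1 (.node 0 .nil (.node 1
  (.node 0 (.node 1 (.node 0 .nil (.node 2 .nil .nil)) .nil) (.node 1 (.node 1 .nil .nil) .nil))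
  .nil)) (.node 2 (.node 1 (.node 0 (.node 1 .nil .nil) (.node 1 (.node 0 .nil .nil) (.node 2
  .nil .nil))) (.node 2 (.node 1 .nil (.node 2 (.node 2 .nil .nil) .nil)) .nil)) .nil))) (.node
  2 (.node 1 (.node 0 (.node 1 (.node 2 .nil .nil) (.node 2 (.node 1 .nil .nil) .nil)) (.node 1
  (.node 0 (.node 1 .nil .nil) .nil) (.node 2 (.node 1 (.node 0 .nil .nil) (.node 2 (.node 2
  (.node 2 .nil .nil) .nil) .nil)) .nil))) (.node 2 (.node 1 (.node 0 (.node 1 .nil .nil) (.node
  1 (.node 0 .nil .nil) (.node 2 (.node 1 .nil .nil) .nil))) (.node 2 (.node 1 (.node 2 .nil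
  .nil) (.node 2 .nil .nil)) .nil)) .nil)) .nil)) (.node 1 (.node 0 (.node 1 (.node 0 (.node 1
  .nil (.node 2 (.node 1 .nil .nil) .nil)) (.node 1 (.node 0 (.node 1 (.node 1 .nil .nil) (.node
  2 .nil .nil)) (.node 2 .nil .nil)) (.node 2 (.node 1 (.node 1 (.node 0 .nil .nil) .nil) .nil)
  .nil))) .nil) (.node 1 (.node 1 (.node 0 (.node 1 (.node 0 .nil (.node 1 (.node 2 .nil .nil)
  .nil)) (.node 2 (.node 2 .nil .nil) .nil)) (.node 1 (.node 1 (.node 0 .nil (.node 1 .nil
  .nil)) (.node 2 .nil .nil)) (.node 2 (.node 1 (.node 0 (.node 2 .nil .nil) (.node 2 .nil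
  .nil)) (.node 2 (.node 1 .nil (.node 2 (.node 2 .nil .nil) .nil)) .nil)) .nil))) .nil) .nil))
  (.node 2 (.node 1 (.node 1 (.node 0 (.node 1 (.node 0 .nil (.node 1 .nil .nil)) .nil) (.node 1
  (.node 1 (.node 2 (.node 2 .nil .nil) .nil) .nil) (.node 2 .nil .nil))) .nil) (.node 2 (.node
  1 (.node 0 (.node 2 (.node 2 .nil .nil) .nil) (.node 1 (.node 0 .nil .nil) (.node 2 (.node 1
  (.node 0 .nil (.node 2 .nil .nil)) (.node 2 (.node 1 (.node 0 .nil .nil) .nil) .nil)) .nil)))
  (.node 2 (.node 1 (.node 0 .nil (.node 1 (.node 1 (.node 0 .nil .nil) (.node 2 (.node 2 (.node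
  2 .nil .nil) .nil) .nil)) (.node 2 (.node 1 .nil .nil) .nil))) (.node 2 .nil .nil)) .nil))
  .nil)) .nil))) (.node 2 (.node 1 (.node 0 (.node 1 (.node 0 (.node 1 (.node 0 .nil (.node 1
  .nil .nil)) (.node 2 (.node 1 .nil .nil) .nil)) (.node 2 (.node 1 (.node 1 .nil (.node 2 .nil
  .nil)) .nil) .nil)) (.node 2 (.node 2 (.node 1 (.node 1 (.node 0 (.node 1 .nil .nil) (.node 2
  .nil .nil)) .nil) (.node 2 (.node 1 (.node 1 .nil .nil) .nil) .nil)) .nil) .nil)) (.node 1
  (.node 0 (.node 2 (.node 1 (.node 0 .nil (.node 2 .nil .nil)) (.node 2 (.node 1 .nil (.node 2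
  (.node 1 .nil .nil) .nil)) .nil)) .nil) (.node 1 (.node 0 (.node 1 (.node 1 .nil .nil) (.node
  2 .nil .nil)) (.node 1 (.node 0 (.node 1 .nil .nil) (.node 1 .nil .nil)) (.node 2 (.node 1
  (.node 1 (.node 0 .nil .nil) (.node 2 (.node 2 .nil .nil) .nil)) (.node 2 (.node 1 .nil .nil)
  .nil)) .nil))) (.node 2 (.node 2 (.node 1 (.node 0 .nil (.node 1 .nil (.node 2 (.node 1 .nil
  .nil) .nil))) (.node 2 (.node 2 .nil .nil) .nil)) .nil) .nil))) (.node 2 (.node 1 (.node 0
  (.node 1 (.node 0 (.node 2 .nil .nil) (.node 1 .nil (.node 2 (.node 2 .nil .nil) .nil)))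
  (.node 2 (.node 1 .nil .nil) .nil)) (.node 1 (.node 0 (.node 1 .nil .nil) .nil) (.node 2
  (.node 1 (.node 1 .nil (.node 2 .nil .nil)) (.node 2 .nil .nil)) .nil))) (.node 2 (.node 1
  (.node 0 (.node 1 .nil .nil) (.node 1 .nil (.node 2 .nil .nil))) (.node 2 (.node 1 (.node 0
  .nil .nil) (.node 2 .nil .nil)) .nil)) .nil)) .nil))) (.node 2 (.node 1 (.node 0 (.node 1
  (.node 1 .nil (.node 2 .nil .nil)) (.node 2 (.node 1 (.node 2 .nil .nil) (.node 2 .nil .nil))
  .nil)) (.node 1 (.node 0 (.node 1 .nil (.node 2 (.node 2 .nil .nil) .nil)) (.node 1 (.node 0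
  (.node 2 (.node 2 .nil .nil) .nil) (.node 1 (.node 2 .nil .nil) (.node 2 (.node 2 (.node 1
  .nil .nil) .nil) .nil))) (.node 2 (.node 1 .nil (.node 2 .nil .nil)) .nil))) (.node 2 (.node 1
  (.node 0 (.node 2 .nil .nil) (.node 1 (.node 1 (.node 2 .nil .nil) .nil) (.node 2 (.node 1
  .nil (.node 2 .nil .nil)) .nil))) (.node 2 (.node 1 .nil .nil) .nil)) .nil))) (.node 2 (.node
  1 (.node 0 (.node 1 (.node 0 .nil (.node 1 .nil (.node 2 .nil .nil))) .nil) (.node 1 (.node 1
  (.node 0 (.node 1 .nil (.node 2 .nil .nil)) (.node 2 .nil .nil)) .nil) (.node 2 (.node 1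
  (.node 0 .nil (.node 1 (.node 0 .nil .nil) (.node 2 .nil .nil))) .nil) .nil))) (.node 2 (.node
  1 (.node 0 .nil (.node 1 (.node 0 .nil (.node 2 .nil .nil)) .nil)) .nil) .nil)) .nil)) .nil))
  .nil))) (.node 2 (.node 1 (.node 0 (.node 1 (.node 0 (.node 1 (.node 1 (.node 1 .nil .nil)
  (.node 2 (.node 1 .nil .nil) .nil)) (.node 2 (.node 1 (.node 1 .nil .nil) (.node 2 (.node 1
  (.node 0 .nil .nil) (.node 2 .nil .nil)) .nil)) .nil)) (.node 1 (.node 0 (.node 1 (.node 2
  .nil .nil) (.node 2 .nil .nil)) (.node 2 (.node 1 (.node 0 .nil .nil) (.node 2 .nil .nil))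
  .nil)) (.node 2 (.node 1 (.node 0 .nil (.node 1 .nil (.node 2 (.node 1 .nil .nil) .nil)))
  (.node 2 (.node 2 (.node 2 .nil .nil) .nil) .nil)) .nil))) (.node 2 (.node 1 (.node 1 (.node 2
  .nil .nil) (.node 2 (.node 2 (.node 2 (.node 1 .nil (.node 2 .nil .nil)) .nil) .nil) .nil))
  (.node 2 (.node 1 (.node 0 .nil (.node 1 (.node 1 (.node 0 .nil (.node 2 .nil .nil)) (.node 2
  .nil .nil)) (.node 2 .nil .nil))) (.node 2 (.node 1 (.node 0 .nil (.node 2 .nil .nil)) .nil)
  .nil)) .nil)) .nil)) (.node 1 (.node 0 (.node 1 (.node 1 (.node 0 (.node 1 (.node 0 .nil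
  (.node 2 .nil .nil)) .nil) (.node 1 .nil (.node 2 (.node 2 .nil .nil) .nil))) (.node 2 (.node
  1 (.node 1 .nil .nil) (.node 2 (.node 1 .nil .nil) .nil)) .nil)) (.node 2 (.node 1 (.node 0
  (.node 2 .nil .nil) (.node 1 (.node 0 (.node 1 .nil .nil) (.node 1 .nil (.node 2 .nil .nil)))
  (.node 2 .nil .nil))) (.node 2 (.node 1 .nil .nil) .nil)) .nil)) (.node 1 (.node 1 (.node 0
  (.node 1 (.node 2 .nil .nil) (.node 2 .nil .nil)) (.node 1 (.node 0 (.node 2 (.node 1 .nil
  .nil) .nil) (.node 1 (.node 0 .nil .nil) (.node 2 (.node 2 .nil .nil) .nil))) (.node 2 (.node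
  1 .nil .nil) .nil))) (.node 2 (.node 1 (.node 0 (.node 2 .nil .nil) (.node 1 (.node 0 .nil
  .nil) (.node 2 (.node 1 .nil .nil) .nil))) (.node 2 (.node 1 (.node 0 .nil (.node 2 .nil
  .nil)) (.node 2 (.node 2 .nil .nil) .nil)) .nil)) .nil)) (.node 2 (.node 1 (.node 0 (.node 1
  (.node 1 (.node 2 .nil .nil) .nil) (.node 2 (.node 1 .nil (.node 2 .nil .nil)) .nil)) (.node 1
  (.node 1 .nil (.node 2 (.node 2 .nil .nil) .nil)) (.node 2 (.node 1 (.node 1 .nil (.node 2
  .nil .nil)) (.node 2 .nil .nil)) .nil))) (.node 2 .nil .nil)) .nil))) (.node 2 (.node 1 (.node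
  1 (.node 0 (.node 2 (.node 2 .nil .nil) .nil) (.node 1 (.node 0 (.node 2 (.node 2 .nil .nil)
  .nil) (.node 2 (.node 2 (.node 2 .nil .nil) .nil) .nil)) (.node 2 (.node 1 (.node 0 .nil
  (.node 2 .nil .nil)) (.node 2 .nil .nil)) .nil))) .nil) (.node 2 (.node 1 (.node 1 (.node 0
  (.node 1 .nil .nil) (.node 1 (.node 1 (.node 2 .nil .nil) .nil) .nil)) .nil) (.node 2 (.node 1
  (.node 1 (.node 0 (.node 2 .nil .nil) (.node 1 .nil (.node 2 .nil .nil))) .nil) (.node 2
  (.node 1 .nil .nil) .nil)) .nil)) .nil)) .nil))) (.node 2 (.node 1 (.node 0 (.node 1 (.node 1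
  (.node 0 (.node 2 .nil .nil) (.node 1 (.node 1 .nil (.node 2 .nil .nil)) (.node 2 (.node 1
  .nil .nil) .nil))) (.node 2 (.node 1 (.node 0 (.node 2 .nil .nil) (.node 1 .nil (.node 2
  (.node 1 .nil .nil) .nil))) .nil) .nil)) (.node 2 (.node 1 (.node 0 (.node 1 .nil (.node 2
  .nil .nil)) (.node 1 (.node 0 .nil (.node 2 .nil .nil)) (.node 2 (.node 1 .nil (.node 2 .nil
  .nil)) .nil))) .nil) .nil)) (.node 1 (.node 0 (.node 1 (.node 2 (.node 1 .nil .nil) .nil)
  (.node 2 (.node 1 (.node 2 .nil .nil) .nil) .nil)) (.node 1 (.node 1 (.node 2 (.node 2 .nil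
  .nil) .nil) (.node 2 (.node 2 (.node 1 .nil .nil) .nil) .nil)) (.node 2 (.node 1 (.node 0 .nil
  .nil) (.node 2 (.node 2 .nil .nil) .nil)) .nil))) (.node 2 (.node 1 (.node 0 .nil (.node 1
  (.node 0 .nil (.node 2 (.node 2 .nil .nil) .nil)) (.node 2 (.node 1 .nil .nil) .nil))) (.node
  2 (.node 1 (.node 0 (.node 2 .nil .nil) (.node 2 (.node 2 .nil .nil) .nil)) (.node 2 (.node 1
  (.node 1 .nil .nil) (.node 2 (.node 1 .nil .nil) .nil)) .nil)) .nil)) .nil))) (.node 2 (.node
  1 (.node 0 (.node 1 (.node 0 (.node 2 (.node 2 .nil .nil) .nil) (.node 1 (.node 1 .nil .nil)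
  (.node 2 (.node 1 .nil (.node 2 (.node 2 .nil .nil) .nil)) .nil))) (.node 2 (.node 1 (.node 2
  .nil .nil) (.node 2 (.node 2 .nil .nil) .nil)) .nil)) (.node 1 (.node 0 (.node 1 .nil (.node 2
  .nil .nil)) (.node 1 .nil (.node 2 (.node 1 .nil .nil) .nil))) (.node 2 (.node 1 (.node 0
  (.node 2 (.node 1 .nil .nil) .nil) (.node 1 (.node 0 .nil (.node 2 .nil .nil)) (.node 2 .nil
  .nil))) (.node 2 (.node 2 (.node 1 (.node 2 .nil .nil) (.node 2 (.node 1 .nil .nil) .nil))
  .nil) .nil)) .nil))) .nil) .nil)) .nil)) .nil)) .nil))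

end CfsgLib.M24Classes
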