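import Cfsg.Agent.M24Classes.OrbitTree

/-! Orbit data for a configuration stabiliser. -/

set_option autoImplicit false
set_option maxRecDepth 20000

namespace CfsgLib.M24Classes

/-- The configuration. -/
def cfgOctad : List ℕ := [13062145]

/-- Tables of members of its stabiliser. -/
def cfgOctadTabs : List ℕ := [393667665243953002566038685391957171539615098224085828631,
  2109439417667866051196298444616603177832385091514009616]

/-- Their byte tables. -/
def cfgOctadBytes : List (List ℕ) := [[179333124771305949985670590651870463181445559223625695467935196460683955688789267808095291811702349526149687434972769214743401357280805244861073900060876135232436162016600934421364135114853845992567652595831634766318231277181842082851392515214071267897184807231208763809453524797692761300110911628724296929098648596113845121927313230230051466922691766286581829125562431868769884404763896237884950068631285734240573618280646593365465862400248925627951109339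20931872408326619958510511455809084171365653045605323391194433133815567426552678978829408631275609942325694581250485600378872185764256941834878022017735695267550157968654093048678762782183936298983875121201284197621502799140156419099237921714081404724490249155505007981626478755399248981394144737191883338556507640267018069309267006695982597128442933989566473664413502030208950085989832593206604294451232124595539257688646616527146328259136081625236120151950146102304195991464698770874324625406424557215728115993672644185493708102499734283433500029202966265629565014955225972953022052774628942472078613527812534397012039264588670280748921288159305901127214415843020709604849171003292220439979148496271289933312901987803628112667414531522311720939331194685407340087760156548080445659677276404241458495962384586056390671921035823929819453319662447586457301134441888025565866397381944595957032243301918176605029449183765148928888418990798000823442099708986624596755467331610552465847729675412364338046776473117443478482903033899234855799739883354215604011495277432926979681172382778607674541353168327173052153935703016387748992724413599998143608872611210487641556087734246492843138719096794841757693473765719770580403005529967672439856630733371670472667652056069558135040633576631660293377289304822088448138402652580004582774675518460094322046820566021089612287096646948287375192836907196437495808,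 296774211332808135924206520002710059238809043549560595031520494383658721763139504455555799982367638881476621712134985438147585967708138950584972447135518421230007479484959035453452461209288141550699459362150323794139816533714313462466303535128871634131145061196389545928109934832350734111198114172662249105407980007954362402425526943124596540637758492794249438561851334524944294456907437202369366584157295620319185136092971919140511921769160833336801968866578700803850955319190183209086560564882360546700548936808089229153468103630498117575627238644119315713242550987813252254187267515316454929565594867577460934623460601802082694822792690218628244228521910141689191040577029534053624054112949821507081320658788052972618791656149813477394723879105913343949099617456610992344531705152134220483782396569048440569875661640142736950557960493440614459655754450734065240528131222705153000299346094343111252221521318587476215739587668316091484459254332236182993175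3580359161652268540650041552220032065679937137362744799646098850491648851103078695032916629808019057471712765682701180426447335340256519551393626936048757896439335647893430267316591431829421266362399079109232756879239407560088950439376763074194836129309660779601241278124947873688571175408183552590627075492782391181288288608463308065736230376298326512667092836278459496146221617416142368751649226479935928583705628996587510199432263973086821694321643932557800027001249578142644954748476390208051056477292250135809121383808127643741776209011991831050959750537872177334765993044974743184193027404396882952376497876258309412412935823214397298271184153223984838652937339356000810215875773064013762080495549450455605087088185386052283405807068964429563450850102664489804666211691765828745736568933407479842789108878138304839918270861846194256933958566673462003272599343788144848239793172169883648, 1285046622459965249542279275815267148649894325422961690866020276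3545762735545780648385161889729023852010950081021113195873324385998550632120695227073975637009701672223624803437866366541766370572424627068200504462995394739901853822719263492737609694113839676302177448156498991557079012298369993198296035708785617485591204110711641990576489689680616641118631667483224757819470199569992616636488127280255500560542177273784716854547186842233775095438439765861603123325373197554005428215799300200443171109629445107598208234697940367605636869043539257438558133374641762846274152265329810912138841837971193413208647874608762235718382412465966506400131467022391561295242865376985780743700549689715145508501323751622507736324019160249158615092171014771009253935485192235154220824564674604418031832979241858805519883114889132619124000172635303601629005577284027199037346115710835423254933803515729687580758637786564681924130036777890073040834540361737225226078851259423404897772864448545502135135874002789535857539167912650611862746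433946389415222042023951161517963811059101664961986682471613614335201267972048399971092834791719387881502546208707713253646428239214252144615900619692536686983351761216935592254874001440203599197364733064129321524287175791948854511794079075411079292524821470086324068038797536960065594312270350414963203412741794972088766591859794895163679963497234120369646585776135045589783812625736565399374456846600161107413077873654386555909765000493386884452171665369331467486264714986525561932475961253982739873542586286014178184239333580812394582653356008567679498971401550797820513852187038307476459076665621363575428677959741307861595856745865192435676806115777419466787041611130542371199055434017535453362989282104326813934032148527082242030371197467628100303016211523764860211385397154180104234752836509763678454456162878198984474624],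
  [336480877405813982710215038140035687396567715255321445247578510668593102329296822537217616889512018354733279465969495136813780257267544735151634304061833183955923988955025341356627299212648168922931699806886513664347745989498280617438510721337096879575533798558839690607860502042869835418375285003889058918278442894363439195908396184769245565377421682165062863968562466922784872658388408534663792366584537683718656350736967358709014497287658497006281172720283336933308920367637992782008131955615078833316939605690618949452872398940894838707978546762545517265280030310773549821257762043872839472470745274689633892916296925588885236097972074104941956632312320715559306011338704063971091565719062941883083217867800408773828012995456417320696948563365427139649751196077880030238976754363997827013938791553529083662594347960384551412444773433776112163776422592382017255162236298847081973572510031384278927617986835832708756369372486017271993766974891740119223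0335168686972912794124900024175899417253241418251589920719172117495111994219697777994546613826952430735039613874358537428552964611826537172338473088329717269589371481124147148503576599882677465795599359636885805371174084346619477055850247761709978241542019406048655399648355135623303395877863278087250707323319999780446910717829600948848604297666601072194151118887233247023200011741819948953091632144482278201279475934579527289444194122387735653493559200849688051789582178861415984928092406888243947460018118440179189588857120191593419641670132586895380706794248752050527345305735970674076545049131042628311875449730267969168600463137022082302798394692158721520554600018096363978359324191321007976966559256679388283506807887005299325751674000809771587325421829278542418032562246759233793069896667038046905131068215528887842462719590182831905523783098055706944120788112458214122082360523027906560, 2112359511460936834401097914472043336186544644845635369842950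0709452280023956948082643925989811122535716895552909774405703727111700840709169249079340683692366054138736051449543243516146693952660590128739474164240037665044046501790674288659017973427253825749497579685211084023454125555592108996658518661685006345837674461588609007235016942898951771653887912995062970993252520835950455627554268312505741597770011309276285503866540239585321265545980226576044710718992074022133683139014151416615929248811766907636279351613423274175897048226142539311162818118253860626398278207483096412357793321098019424021918071779722160353014239714054693358426952816449907600349384811338059674400517900389363244496154004123831297751909829899170911099980980855989790149614766547539703503667230565668668504717737053530180697085813331359264946696822547559199042152700880616797627025291502073121702362930238238416332042656634907508885570232839077321506623294200488287809256028136233710662525163948862081347734888920482793786204513570294460771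535449700931089442394754813437608015159606508993363957867338715474997569831576159432207056497948167321526526843700303033264748167008520681704714881640621093486173182766779651943767494447974616975944001466803914494082200531387848354100042615149730534698493356264419131550188767620697379482575968394190140634556796352402943175103362894387866357887752009107628278507800764543961820112484040668411196542588381565688259571900339683756158923137658785201634130380449572293706881682402997076963767566840564609180717016560566003464436509255334007842079967998115618976323812719664210831280022529039965302135337453388089815082894803401846500877479168901393374511408777362246244706938277672845766182517011012691708934855772418108929944747888273977184073058398017163886144942959941429657290699396228171551334858642109290325739957004718242267136, 92631179091949279543362335881649823797760110397649940968894679574866675304393554541239627218736226213542541149745133936717574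7347438184763596818428036917253353264369957352347597252931311047052275573040752006778728428836093840644503493862858089492512876813834117054684675066777716766507041684252221934810594203518290469936661935188205049843042818366857451114713446950956988903290573895379876353576279466917889113064167331274423621005337838300445670519550689311222729769806820826122400061930358726263794830823981722183154415982829119590123118815192274781640674092496329267381834297771526941691465808553149432343116488802038779210532729582310184264033843133265814645591421351238095674498305921262713679108795267387462448388307715932883834798816778825342729401885514118545893127503726215088192272225379461932271866499058881898966188443382742959840552163881068469998879853051987922891855517605722294370990098499952178492294828430505515149125697003618316014168768288112107472437019919690864497908439343967925666748391306176796601846276486778502399924060697964137595896783457616852121623283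5925811395164568436541846913375844827452655285977040734680299088605165662766896292275041876526987932870545804318520352874973360236843860394704212301972772524480080888155564003308881452751083282092121261305270759395867081846527000257751752966270882723102473817545326969388541016956532287400129906650836916131431838258194604701140953985234889688221650035626401886394465543141216595310850432820964941593004361296294421301312573629701035648230123091951989079054534598983350237016529186634761457124120050468832971651051659301444281654295732150220096620416343887746638903487096261774019079070654045100143431140861680451748018735487659928194150296728510382003189881233803730370489209539012420197184471599293048843977259179341513422971222227788672637930282682398496809549824]]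

/-- Root of class 0. -/
def cfgOctadTrioRep0 : List ℕ := [13062145, 10558, 3704512]

/-- Spanning tree of class 0. -/
def cfgOctadTrioTree0 : OTree :=
  .node 0 (.node 0 (.node 0 (.node 1 .nil .nil) (.node 1 (.node 1 .nil .nil) .nil)) (.node 1
  (.node 0 .nil (.node 1 (.node 0 .nil (.node 1 .nil .nil)) .nil)) .nil)) (.node 1 (.node 0
  (.node 0 .nil .nil) .nil) .nil)

/-- Root of class 1. -/
def cfgOctadTrioRep1 : List ℕ := [8412681, 1613974, 6750560]

/-- Spanning tree of class 1. -/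
def cfgOctadTrioTree1 : OTree :=
  .node 0 (.node 0 (.node 0 (.node 0 (.node 0 (.node 0 (.node 0 (.node 0 .nil .nil) (.node 1
  (.node 0 (.node 0 .nil .nil) (.node 1 (.node 0 (.node 0 .nil (.node 1 .nil .nil)) .nil) .nil))
  .nil)) (.node 1 (.node 0 (.node 0 .nil .nil) (.node 1 (.node 0 (.node 1 (.node 0 .nil .nil)
  .nil) (.node 1 .nil .nil)) .nil)) .nil)) (.node 1 (.node 0 (.node 0 (.node 1 (.node 0 (.node 1
  .nil .nil) (.node 1 .nil .nil)) .nil) (.node 1 (.node 0 .nil (.node 1 (.node 0 .nil (.node 1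
  (.node 0 .nil .nil) .nil)) .nil)) .nil)) (.node 1 (.node 0 (.node 1 (.node 0 (.node 1 .nil
  .nil) (.node 1 (.node 0 .nil .nil) .nil)) .nil) (.node 1 (.node 0 .nil .nil) .nil)) .nil))
  .nil)) .nil) (.node 1 (.node 0 (.node 0 (.node 0 .nil (.node 1 (.node 0 .nil (.node 1 (.node 0
  (.node 1 (.node 0 .nil .nil) .nil) (.node 1 (.node 1 .nil .nil) .nil)) .nil)) .nil)) (.node 1
  (.node 0 (.node 0 (.node 1 (.node 0 (.node 0 (.node 1 .nil .nil) (.node 1 .nil .nil)) .nil)
  .nil) (.node 1 (.node 0 .nil (.node 1 (.node 0 (.node 0 (.node 0 .nil .nil) .nil) (.node 1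
  .nil .nil)) .nil)) .nil)) (.node 1 (.node 0 (.node 0 (.node 0 (.node 0 .nil .nil) (.node 1
  (.node 1 .nil .nil) .nil)) (.node 1 .nil .nil)) (.node 1 (.node 0 (.node 0 (.node 0 .nil
  (.node 1 .nil .nil)) (.node 1 (.node 1 .nil .nil) .nil)) (.node 1 (.node 0 .nil .nil) .nil))
  .nil)) .nil)) .nil)) (.node 1 (.node 0 (.node 0 (.node 0 (.node 0 (.node 0 .nil (.node 1 .nil
  .nil)) (.node 1 .nil .nil)) (.node 1 (.node 0 (.node 0 .nil .nil) (.node 1 (.node 1 (.node 0
  .nil (.node 1 .nil .nil)) .nil) .nil)) .nil)) (.node 1 (.node 0 (.node 0 (.node 0 (.node 0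
  (.node 1 .nil .nil) (.node 1 .nil .nil)) (.node 1 (.node 0 .nil .nil) .nil)) .nil) (.node 1
  (.node 1 .nil .nil) .nil)) .nil)) (.node 1 (.node 0 (.node 0 (.node 0 (.node 1 .nil .nil)
  (.node 1 (.node 0 .nil .nil) .nil)) (.node 1 (.node 1 .nil .nil) .nil)) (.node 1 (.node 0
  (.node 0 (.node 0 .nil (.node 1 (.node 1 .nil .nil) .nil)) (.node 1 (.node 0 (.node 1 .nil
  .nil) (.node 1 (.node 0 (.node 0 .nil .nil) (.node 1 (.node 1 .nil .nil) .nil)) .nil)) .nil))
  .nil) .nil)) .nil)) .nil)) .nil)) (.node 1 (.node 0 (.node 0 (.node 0 (.node 0 (.node 0 (.node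
  0 (.node 0 (.node 1 .nil .nil) .nil) (.node 1 (.node 0 .nil .nil) .nil)) (.node 1 (.node 0
  (.node 0 .nil .nil) (.node 1 (.node 1 (.node 0 (.node 1 .nil .nil) (.node 1 .nil .nil)) .nil)
  .nil)) .nil)) .nil) (.node 1 (.node 0 (.node 0 (.node 1 .nil .nil) (.node 1 (.node 0 (.node 0
  .nil (.node 1 .nil .nil)) .nil) .nil)) (.node 1 (.node 0 (.node 1 (.node 0 (.node 0 .nil .nil)
  .nil) .nil) (.node 1 (.node 1 .nil .nil) .nil)) .nil)) .nil)) (.node 1 (.node 0 (.node 1
  (.node 0 (.node 0 (.node 0 .nil .nil) (.node 1 (.node 1 .nil .nil) .nil)) (.node 1 (.node 1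
  (.node 0 (.node 0 .nil (.node 1 .nil .nil)) .nil) .nil) .nil)) .nil) (.node 1 (.node 0 (.node
  1 (.node 0 (.node 1 .nil .nil) (.node 1 (.node 1 (.node 0 (.node 1 .nil .nil) .nil) .nil)
  .nil)) .nil) (.node 1 (.node 1 (.node 0 (.node 1 .nil .nil) .nil) .nil) .nil)) .nil)) .nil))
  (.node 1 (.node 0 (.node 0 (.node 0 (.node 0 (.node 0 .nil (.node 1 (.node 0 (.node 0 (.node 1
  .nil .nil) (.node 1 .nil .nil)) .nil) .nil)) .nil) (.node 1 (.node 0 (.node 0 (.node 0 (.node
  0 (.node 1 .nil .nil) .nil) (.node 1 (.node 0 (.node 0 .nil .nil) .nil) .nil)) .nil) (.node 1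
  (.node 1 (.node 0 (.node 1 .nil .nil) (.node 1 .nil .nil)) .nil) .nil)) .nil)) (.node 1 (.node
  0 (.node 1 (.node 1 (.node 1 .nil .nil) .nil) .nil) (.node 1 (.node 0 (.node 0 (.node 1 .nil
  .nil) (.node 1 (.node 0 (.node 1 .nil .nil) .nil) .nil)) (.node 1 (.node 0 (.node 0 .nil .nil)
  (.node 1 .nil .nil)) .nil)) .nil)) .nil)) (.node 1 (.node 0 (.node 0 (.node 0 (.node 1 (.node
  1 .nil .nil) .nil) (.node 1 (.node 0 (.node 1 .nil .nil) (.node 1 (.node 1 .nil .nil) .nil))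
  .nil)) (.node 1 (.node 0 (.node 0 .nil (.node 1 .nil .nil)) (.node 1 (.node 0 .nil (.node 1
  (.node 0 .nil .nil) .nil)) .nil)) .nil)) (.node 1 .nil .nil)) .nil)) .nil)) .nil)) (.node 1
  (.node 0 (.node 1 (.node 0 (.node 0 (.node 0 (.node 0 (.node 0 (.node 1 (.node 0 .nil .nil)
  .nil) .nil) (.node 1 (.node 1 .nil .nil) .nil)) (.node 1 (.node 0 (.node 0 (.node 0 (.node 1
  .nil .nil) .nil) .nil) (.node 1 .nil .nil)) .nil)) (.node 1 (.node 0 (.node 0 (.node 0 (.node
  0 (.node 0 .nil .nil) (.node 1 .nil .nil)) (.node 1 (.node 0 (.node 1 .nil .nil) .nil) .nil))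
  (.node 1 (.node 1 (.node 0 (.node 0 .nil (.node 1 .nil .nil)) .nil) .nil) .nil)) (.node 1
  (.node 1 (.node 0 (.node 0 (.node 0 (.node 1 (.node 1 .nil .nil) .nil) (.node 1 .nil .nil))
  .nil) .nil) .nil) .nil)) .nil)) (.node 1 (.node 0 (.node 0 (.node 0 (.node 0 (.node 0 (.node 1
  .nil .nil) (.node 1 (.node 1 .nil .nil) .nil)) (.node 1 (.node 1 .nil .nil) .nil)) .nil)
  (.node 1 (.node 0 (.node 0 .nil (.node 1 (.node 0 (.node 1 (.node 0 .nil .nil) .nil) (.node 1
  (.node 0 .nil .nil) .nil)) .nil)) (.node 1 (.node 0 (.node 0 (.node 0 .nil .nil) .nil) (.node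
  1 (.node 0 (.node 0 .nil .nil) (.node 1 (.node 0 .nil .nil) .nil)) .nil)) .nil)) .nil)) (.node
  1 (.node 0 (.node 0 (.node 1 (.node 0 .nil (.node 1 (.node 1 .nil .nil) .nil)) .nil) (.node 1
  (.node 0 .nil .nil) .nil)) (.node 1 .nil .nil)) .nil)) .nil)) .nil) (.node 1 (.node 0 (.node 0
  (.node 0 (.node 0 (.node 0 (.node 0 .nil (.node 1 (.node 0 .nil .nil) .nil)) (.node 1 (.node 0
  .nil (.node 1 (.node 1 .nil .nil) .nil)) .nil)) (.node 1 (.node 1 (.node 0 (.node 0 .nil
  (.node 1 (.node 1 .nil .nil) .nil)) (.node 1 (.node 1 .nil .nil) .nil)) .nil) .nil)) (.node 1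
  (.node 0 (.node 0 .nil (.node 1 (.node 0 (.node 0 (.node 1 .nil .nil) (.node 1 (.node 0 .nil
  .nil) .nil)) .nil) .nil)) (.node 1 (.node 0 (.node 1 (.node 0 .nil .nil) .nil) (.node 1 (.node
  0 (.node 1 .nil .nil) (.node 1 (.node 0 .nil .nil) .nil)) .nil)) .nil)) .nil)) (.node 1 (.node
  0 (.node 0 .nil (.node 1 (.node 0 (.node 0 (.node 0 .nil .nil) (.node 1 (.node 1 (.node 0 .nil
  .nil) .nil) .nil)) .nil) .nil)) (.node 1 (.node 0 (.node 1 (.node 1 .nil .nil) .nil) (.node 1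
  (.node 1 (.node 0 (.node 0 (.node 1 .nil .nil) (.node 1 .nil .nil)) .nil) .nil) .nil)) .nil))
  .nil)) (.node 1 (.node 0 (.node 0 (.node 0 (.node 0 (.node 0 (.node 0 .nil .nil) .nil) (.node
  1 (.node 1 (.node 1 .nil .nil) .nil) .nil)) (.node 1 (.node 1 .nil .nil) .nil)) (.node 1
  (.node 0 (.node 0 (.node 1 .nil .nil) .nil) (.node 1 (.node 0 (.node 0 .nil (.node 1 .nil
  .nil)) (.node 1 .nil .nil)) .nil)) .nil)) .nil) .nil)) .nil)) .nil)

/-- Root of class 2. -/
def cfgOctadTrioRep2 : List ℕ := [8391797, 307594, 8077824]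

/-- Spanning tree of class 2. -/
def cfgOctadTrioTree2 : OTree :=
  .node 0 (.node 0 (.node 0 (.node 0 (.node 0 (.node 0 (.node 0 (.node 0 (.node 0 (.node 0
  (.node 0 .nil (.node 1 (.node 0 .nil (.node 1 (.node 1 .nil .nil) .nil)) .nil)) (.node 1
  (.node 0 .nil (.node 1 (.node 0 .nil .nil) .nil)) .nil)) (.node 1 (.node 0 (.node 1 (.node 0
  (.node 1 .nil .nil) (.node 1 .nil .nil)) .nil) (.node 1 (.node 0 (.node 0 (.node 0 .nil (.node
  1 .nil .nil)) (.node 1 .nil .nil)) (.node 1 (.node 0 (.node 0 (.node 1 (.node 1 .nil .nil)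
  .nil) (.node 1 .nil .nil)) .nil) .nil)) .nil)) .nil)) (.node 1 (.node 0 (.node 0 .nil (.node 1
  (.node 0 (.node 0 (.node 0 (.node 1 .nil .nil) .nil) (.node 1 (.node 0 (.node 1 .nil .nil)
  .nil) .nil)) (.node 1 (.node 0 .nil (.node 1 .nil .nil)) .nil)) .nil)) (.node 1 (.node 0
  (.node 0 (.node 0 (.node 1 .nil .nil) (.node 1 (.node 1 (.node 0 .nil .nil) .nil) .nil)) .nil)
  (.node 1 (.node 0 (.node 0 (.node 0 .nil .nil) (.node 1 .nil .nil)) .nil) .nil)) .nil)) .nil))
  (.node 1 (.node 0 (.node 0 (.node 1 (.node 0 (.node 1 (.node 0 .nil .nil) .nil) (.node 1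
  (.node 0 .nil .nil) .nil)) .nil) (.node 1 (.node 0 (.node 0 (.node 0 .nil (.node 1 (.node 1
  .nil .nil) .nil)) .nil) (.node 1 (.node 0 (.node 0 (.node 1 .nil .nil) .nil) (.node 1 (.node 1
  .nil .nil) .nil)) .nil)) .nil)) (.node 1 (.node 0 (.node 1 (.node 0 (.node 0 (.node 0 .nil
  .nil) .nil) (.node 1 .nil .nil)) .nil) (.node 1 (.node 0 (.node 0 (.node 0 (.node 0 .nil .nil)
  .nil) (.node 1 (.node 0 (.node 0 (.node 0 .nil .nil) .nil) (.node 1 .nil .nil)) .nil)) (.node
  1 (.node 0 (.node 0 (.node 1 .nil .nil) .nil) .nil) .nil)) .nil)) .nil)) .nil)) (.node 1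
  (.node 0 (.node 0 (.node 1 (.node 0 (.node 0 (.node 0 .nil (.node 1 (.node 1 .nil .nil) .nil))
  (.node 1 (.node 0 (.node 0 .nil .nil) (.node 1 (.node 0 .nil (.node 1 .nil .nil)) .nil))
  .nil)) (.node 1 (.node 1 .nil .nil) .nil)) .nil) (.node 1 (.node 0 (.node 1 (.node 0 (.node 1
  (.node 0 .nil .nil) .nil) .nil) .nil) (.node 1 (.node 0 (.node 0 (.node 0 (.node 0 .nil (.node
  1 (.node 1 .nil .nil) .nil)) (.node 1 (.node 1 .nil .nil) .nil)) (.node 1 (.node 0 (.node 0
  .nil (.node 1 .nil .nil)) (.node 1 .nil .nil)) .nil)) (.node 1 (.node 0 (.node 1 (.node 1 .nil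
  .nil) .nil) (.node 1 .nil .nil)) .nil)) .nil)) .nil)) (.node 1 (.node 0 (.node 1 (.node 0 .nil
  (.node 1 (.node 0 .nil (.node 1 (.node 0 (.node 1 .nil .nil) (.node 1 (.node 0 .nil .nil)
  .nil)) .nil)) .nil)) .nil) (.node 1 (.node 0 (.node 0 (.node 0 (.node 1 .nil .nil) .nil)
  (.node 1 (.node 0 (.node 1 (.node 0 (.node 1 .nil .nil) .nil) .nil) (.node 1 (.node 0 .nil
  (.node 1 (.node 0 .nil .nil) .nil)) .nil)) .nil)) .nil) .nil)) .nil)) .nil)) (.node 1 (.node 0
  (.node 0 (.node 1 (.node 0 (.node 0 .nil (.node 1 (.node 0 .nil (.node 1 (.node 0 (.node 1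
  (.node 1 .nil .nil) .nil) .nil) .nil)) .nil)) (.node 1 (.node 1 (.node 1 (.node 0 (.node 1
  .nil .nil) .nil) .nil) .nil) .nil)) .nil) (.node 1 (.node 0 (.node 0 (.node 1 (.node 0 (.node
  0 (.node 0 .nil .nil) (.node 1 (.node 1 .nil .nil) .nil)) (.node 1 (.node 1 (.node 0 .nil
  (.node 1 .nil .nil)) .nil) .nil)) .nil) (.node 1 .nil .nil)) (.node 1 (.node 0 (.node 0 (.node
  0 (.node 0 (.node 1 (.node 1 (.node 0 .nil .nil) .nil) .nil) (.node 1 .nil .nil)) (.node 1
  .nil .nil)) (.node 1 (.node 0 (.node 1 .nil .nil) .nil) .nil)) (.node 1 (.node 0 (.node 0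
  (.node 0 .nil (.node 1 .nil .nil)) (.node 1 (.node 0 .nil (.node 1 .nil .nil)) .nil)) (.node 1
  (.node 0 (.node 1 .nil .nil) .nil) .nil)) .nil)) .nil)) .nil)) (.node 1 (.node 0 (.node 0
  (.node 1 (.node 1 (.node 0 (.node 0 .nil .nil) (.node 1 (.node 0 (.node 1 (.node 1 .nil .nil)
  .nil) .nil) .nil)) .nil) .nil) (.node 1 (.node 0 (.node 0 (.node 0 .nil .nil) (.node 1 (.node
  1 .nil .nil) .nil)) (.node 1 (.node 0 .nil (.node 1 (.node 0 (.node 0 (.node 1 (.node 0 .nil
  (.node 1 .nil .nil)) .nil) (.node 1 .nil .nil)) .nil) .nil)) .nil)) .nil)) (.node 1 (.node 0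
  (.node 0 (.node 0 (.node 0 (.node 0 (.node 0 .nil .nil) (.node 1 (.node 0 .nil (.node 1 (.node
  1 .nil .nil) .nil)) .nil)) .nil) (.node 1 (.node 0 (.node 0 (.node 0 .nil .nil) (.node 1
  (.node 1 .nil .nil) .nil)) .nil) .nil)) (.node 1 (.node 1 (.node 0 .nil (.node 1 (.node 0
  (.node 1 .nil .nil) .nil) .nil)) .nil) .nil)) (.node 1 .nil .nil)) .nil)) .nil)) .nil)) (.node
  1 (.node 0 (.node 0 (.node 1 (.node 0 (.node 0 (.node 0 (.node 0 (.node 0 .nil .nil) .nil)
  .nil) (.node 1 (.node 0 (.node 1 (.node 1 (.node 0 .nil .nil) .nil) .nil) (.node 1 (.node 0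
  (.node 0 .nil .nil) (.node 1 (.node 0 (.node 1 .nil .nil) (.node 1 .nil .nil)) .nil)) .nil))
  .nil)) .nil) .nil) (.node 1 (.node 0 (.node 1 (.node 1 (.node 1 (.node 0 (.node 0 (.node 0
  .nil (.node 1 .nil .nil)) .nil) (.node 1 .nil .nil)) .nil) .nil) .nil) (.node 1 (.node 0
  (.node 0 (.node 0 (.node 0 (.node 0 (.node 0 (.node 0 .nil .nil) .nil) .nil) (.node 1 (.node 1
  (.node 0 .nil .nil) .nil) .nil)) (.node 1 (.node 1 (.node 0 (.node 0 (.node 1 .nil .nil) .nil)
  (.node 1 (.node 1 (.node 0 .nil .nil) .nil) .nil)) .nil) .nil)) (.node 1 (.node 0 (.node 1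
  (.node 1 (.node 0 (.node 1 .nil .nil) .nil) .nil) .nil) (.node 1 (.node 0 (.node 0 (.node 0
  .nil .nil) .nil) (.node 1 (.node 0 (.node 0 (.node 0 .nil .nil) (.node 1 .nil .nil)) (.node 1
  .nil .nil)) .nil)) .nil)) .nil)) (.node 1 (.node 0 (.node 0 (.node 0 (.node 0 (.node 0 (.node
  0 .nil (.node 1 .nil .nil)) (.node 1 .nil .nil)) .nil) (.node 1 .nil .nil)) (.node 1 (.node 0
  (.node 0 .nil .nil) (.node 1 (.node 1 .nil .nil) .nil)) .nil)) (.node 1 (.node 0 (.node 0
  (.node 1 .nil .nil) (.node 1 (.node 0 .nil (.node 1 .nil .nil)) .nil)) .nil) .nil)) .nil))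
  .nil)) .nil)) (.node 1 (.node 0 (.node 0 (.node 0 (.node 0 (.node 1 (.node 0 .nil (.node 1
  (.node 1 .nil .nil) .nil)) .nil) (.node 1 (.node 1 (.node 0 (.node 0 (.node 1 .nil .nil) .nil)
  (.node 1 (.node 0 (.node 0 .nil (.node 1 .nil .nil)) (.node 1 (.node 0 (.node 1 .nil .nil)
  .nil) .nil)) .nil)) .nil) .nil)) (.node 1 (.node 0 (.node 0 (.node 0 (.node 1 .nil .nil) .nil)
  (.node 1 (.node 0 (.node 0 (.node 0 .nil .nil) (.node 1 .nil .nil)) (.node 1 (.node 1 (.node 0
  (.node 0 .nil (.node 1 .nil .nil)) (.node 1 .nil .nil)) .nil) .nil)) .nil)) (.node 1 (.node 0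
  (.node 0 .nil (.node 1 (.node 0 .nil .nil) .nil)) (.node 1 (.node 0 (.node 0 .nil (.node 1
  (.node 1 .nil .nil) .nil)) (.node 1 (.node 0 .nil .nil) .nil)) .nil)) .nil)) .nil)) (.node 1
  (.node 0 (.node 0 (.node 0 (.node 0 .nil (.node 1 (.node 1 .nil .nil) .nil)) (.node 1 .nil
  .nil)) (.node 1 (.node 0 (.node 0 (.node 0 .nil (.node 1 .nil .nil)) (.node 1 (.node 1 .nil
  .nil) .nil)) (.node 1 .nil .nil)) .nil)) (.node 1 (.node 1 (.node 0 (.node 0 .nil (.node 1
  .nil .nil)) (.node 1 (.node 0 (.node 0 (.node 1 .nil .nil) .nil) .nil) .nil)) .nil) .nil))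
  .nil)) (.node 1 (.node 0 (.node 0 (.node 0 (.node 0 (.node 0 .nil (.node 1 (.node 0 (.node 0
  .nil .nil) .nil) .nil)) (.node 1 (.node 1 (.node 0 .nil .nil) .nil) .nil)) (.node 1 (.node 0
  (.node 0 .nil .nil) (.node 1 (.node 1 (.node 0 .nil (.node 1 (.node 0 .nil .nil) .nil)) .nil)
  .nil)) .nil)) (.node 1 (.node 0 (.node 1 (.node 0 (.node 0 .nil (.node 1 (.node 1 .nil .nil)
  .nil)) (.node 1 (.node 1 .nil .nil) .nil)) .nil) (.node 1 (.node 0 (.node 0 (.node 0 .nil
  (.node 1 .nil .nil)) (.node 1 (.node 0 .nil (.node 1 .nil .nil)) .nil)) (.node 1 (.node 1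
  (.node 0 (.node 0 (.node 1 .nil .nil) (.node 1 .nil .nil)) .nil) .nil) .nil)) .nil)) .nil))
  (.node 1 (.node 0 (.node 0 (.node 0 .nil .nil) (.node 1 (.node 0 (.node 0 .nil (.node 1 (.node
  0 (.node 0 (.node 1 .nil .nil) .nil) (.node 1 .nil .nil)) .nil)) (.node 1 (.node 0 .nil (.node
  1 (.node 0 (.node 1 .nil .nil) (.node 1 .nil .nil)) .nil)) .nil)) .nil)) .nil) .nil)) .nil))
  .nil)) .nil)) (.node 1 (.node 0 (.node 0 (.node 0 (.node 0 (.node 0 (.node 0 (.node 0 .nil
  (.node 1 (.node 0 (.node 0 (.node 1 (.node 0 .nil .nil) .nil) (.node 1 (.node 0 (.node 0 .nil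
  .nil) .nil) .nil)) (.node 1 (.node 0 (.node 0 .nil .nil) (.node 1 (.node 0 .nil .nil) .nil))
  .nil)) .nil)) (.node 1 (.node 1 (.node 1 (.node 0 (.node 0 .nil (.node 1 .nil .nil)) (.node 1
  .nil .nil)) .nil) .nil) .nil)) (.node 1 (.node 0 (.node 0 (.node 1 (.node 0 (.node 0 .nil
  (.node 1 .nil .nil)) (.node 1 .nil .nil)) .nil) (.node 1 (.node 0 (.node 0 .nil .nil) (.node 1
  (.node 1 (.node 0 (.node 1 .nil .nil) .nil) .nil) .nil)) .nil)) .nil) .nil)) (.node 1 (.node 1
  (.node 0 (.node 0 (.node 0 (.node 0 (.node 1 .nil .nil) .nil) (.node 1 (.node 0 .nil (.node 1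
  .nil .nil)) .nil)) (.node 1 .nil .nil)) (.node 1 (.node 0 (.node 0 (.node 1 (.node 0 (.node 1
  .nil .nil) .nil) .nil) .nil) (.node 1 (.node 0 (.node 1 .nil .nil) .nil) .nil)) .nil)) .nil)
  .nil)) (.node 1 (.node 0 (.node 0 (.node 0 (.node 0 (.node 0 (.node 1 (.node 1 .nil .nil)
  .nil) (.node 1 (.node 1 .nil .nil) .nil)) (.node 1 (.node 1 .nil .nil) .nil)) (.node 1 (.node
  0 (.node 0 (.node 1 (.node 0 .nil .nil) .nil) .nil) (.node 1 (.node 1 (.node 0 (.node 0 .nil
  .nil) (.node 1 .nil .nil)) .nil) .nil)) .nil)) (.node 1 (.node 0 (.node 0 .nil (.node 1 (.node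
  1 .nil .nil) .nil)) (.node 1 (.node 1 (.node 1 .nil .nil) .nil) .nil)) .nil)) (.node 1 (.node
  1 (.node 0 (.node 0 (.node 0 (.node 0 .nil (.node 1 .nil .nil)) (.node 1 (.node 0 .nil (.node
  1 (.node 0 .nil .nil) .nil)) .nil)) (.node 1 (.node 0 .nil (.node 1 (.node 1 .nil .nil) .nil))
  .nil)) (.node 1 (.node 0 (.node 0 (.node 0 (.node 0 .nil (.node 1 .nil .nil)) (.node 1 (.node
  1 .nil .nil) .nil)) (.node 1 (.node 0 .nil (.node 1 (.node 0 (.node 0 .nil .nil) .nil) .nil))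
  .nil)) .nil) .nil)) .nil) .nil)) .nil)) (.node 1 (.node 0 (.node 0 (.node 0 (.node 0 (.node 0
  (.node 0 (.node 1 .nil .nil) (.node 1 (.node 0 .nil (.node 1 .nil .nil)) .nil)) .nil) (.node 1
  (.node 1 (.node 0 (.node 0 (.node 0 .nil .nil) (.node 1 .nil .nil)) (.node 1 (.node 1 (.node 0
  .nil .nil) .nil) .nil)) .nil) .nil)) (.node 1 (.node 0 (.node 0 (.node 0 (.node 1 .nil .nil)
  .nil) (.node 1 .nil .nil)) (.node 1 (.node 0 (.node 0 (.node 0 (.node 1 .nil .nil) (.node 1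
  .nil .nil)) (.node 1 .nil .nil)) (.node 1 (.node 0 (.node 0 (.node 0 .nil .nil) (.node 1
  (.node 0 .nil .nil) .nil)) (.node 1 .nil .nil)) .nil)) .nil)) .nil)) (.node 1 (.node 0 (.node
  0 (.node 0 (.node 0 (.node 0 (.node 1 .nil .nil) (.node 1 (.node 0 .nil (.node 1 .nil .nil))
  .nil)) (.node 1 .nil .nil)) (.node 1 .nil .nil)) (.node 1 (.node 0 (.node 0 (.node 0 (.node 1
  .nil .nil) .nil) .nil) (.node 1 (.node 1 (.node 0 .nil (.node 1 .nil .nil)) .nil) .nil))
  .nil)) (.node 1 (.node 0 (.node 0 (.node 0 (.node 0 (.node 1 (.node 0 .nil .nil) .nil) (.node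
  1 .nil .nil)) (.node 1 (.node 1 (.node 0 .nil .nil) .nil) .nil)) (.node 1 (.node 1 (.node 0
  (.node 1 (.node 0 .nil .nil) .nil) .nil) .nil) .nil)) (.node 1 (.node 0 (.node 1 (.node 0 .nil
  .nil) .nil) (.node 1 .nil .nil)) .nil)) .nil)) .nil)) (.node 1 (.node 0 (.node 0 (.node 0
  (.node 1 (.node 1 (.node 0 .nil (.node 1 .nil .nil)) .nil) .nil) (.node 1 (.node 0 (.node 1
  (.node 0 .nil (.node 1 (.node 0 .nil .nil) .nil)) .nil) (.node 1 (.node 0 (.node 0 (.node 0
  .nil .nil) (.node 1 (.node 1 .nil .nil) .nil)) (.node 1 (.node 0 (.node 1 .nil .nil) .nil)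
  .nil)) .nil)) .nil)) (.node 1 (.node 0 (.node 0 (.node 0 (.node 0 (.node 0 (.node 0 .nil .nil)
  .nil) .nil) .nil) (.node 1 (.node 0 (.node 1 .nil .nil) (.node 1 (.node 0 (.node 0 (.node 0
  .nil .nil) .nil) .nil) .nil)) .nil)) (.node 1 (.node 0 (.node 0 (.node 0 (.node 0 .nil .nil)
  (.node 1 .nil .nil)) (.node 1 (.node 0 (.node 1 .nil .nil) (.node 1 (.node 0 .nil .nil) .nil))
  .nil)) (.node 1 (.node 0 (.node 0 (.node 0 (.node 1 .nil .nil) .nil) .nil) .nil) .nil)) .nil))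
  .nil)) (.node 1 (.node 0 (.node 0 (.node 0 (.node 0 (.node 0 (.node 0 .nil (.node 1 .nil
  .nil)) (.node 1 .nil .nil)) .nil) (.node 1 (.node 0 .nil .nil) .nil)) (.node 1 (.node 0 (.node
  0 (.node 0 .nil .nil) (.node 1 (.node 0 (.node 1 .nil .nil) .nil) .nil)) (.node 1 (.node 0
  (.node 0 .nil (.node 1 (.node 1 .nil .nil) .nil)) .nil) .nil)) .nil)) (.node 1 (.node 0 (.node
  0 (.node 0 .nil (.node 1 (.node 1 (.node 1 .nil .nil) .nil) .nil)) (.node 1 (.node 1 (.node 0
  .nil .nil) .nil) .nil)) .nil) .nil)) .nil)) .nil)) .nil)) (.node 1 (.node 0 (.node 0 (.node 0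
  (.node 0 (.node 0 (.node 0 (.node 0 (.node 0 (.node 0 (.node 0 .nil .nil) (.node 1 (.node 0
  .nil .nil) .nil)) .nil) .nil) (.node 1 (.node 1 (.node 1 (.node 0 (.node 0 .nil .nil) .nil)
  .nil) .nil) .nil)) (.node 1 (.node 0 (.node 0 .nil (.node 1 (.node 1 (.node 0 .nil (.node 1
  .nil .nil)) .nil) .nil)) (.node 1 (.node 0 .nil .nil) .nil)) .nil)) (.node 1 (.node 1 (.node 0
  (.node 0 (.node 0 .nil (.node 1 (.node 0 .nil (.node 1 .nil .nil)) .nil)) (.node 1 (.node 0
  (.node 1 .nil .nil) .nil) .nil)) (.node 1 (.node 0 (.node 0 .nil .nil) (.node 1 (.node 0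
  (.node 1 .nil .nil) .nil) .nil)) .nil)) .nil) .nil)) (.node 1 (.node 0 (.node 0 (.node 0
  (.node 0 (.node 0 .nil (.node 1 .nil .nil)) (.node 1 .nil .nil)) (.node 1 (.node 0 (.node 1
  (.node 1 .nil .nil) .nil) (.node 1 (.node 0 .nil (.node 1 (.node 0 .nil (.node 1 .nil .nil))
  .nil)) .nil)) .nil)) (.node 1 (.node 0 (.node 0 (.node 0 .nil (.node 1 .nil .nil)) .nil)
  (.node 1 (.node 0 (.node 1 .nil .nil) (.node 1 (.node 0 .nil .nil) .nil)) .nil)) .nil)) (.node
  1 (.node 0 (.node 0 (.node 0 (.node 0 (.node 0 .nil (.node 1 .nil .nil)) .nil) .nil) .nil)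
  (.node 1 (.node 0 (.node 0 (.node 0 (.node 0 .nil .nil) .nil) (.node 1 (.node 0 (.node 0
  (.node 1 .nil .nil) .nil) .nil) .nil)) (.node 1 .nil .nil)) .nil)) .nil)) .nil)) (.node 1
  (.node 0 (.node 0 (.node 0 (.node 0 (.node 0 (.node 1 (.node 1 .nil .nil) .nil) (.node 1 .nil
  .nil)) (.node 1 .nil .nil)) (.node 1 (.node 0 (.node 0 (.node 0 .nil .nil) (.node 1 .nil
  .nil)) (.node 1 (.node 0 (.node 0 .nil .nil) (.node 1 (.node 1 (.node 0 .nil .nil) .nil)
  .nil)) .nil)) .nil)) (.node 1 (.node 0 (.node 1 (.node 0 (.node 0 .nil (.node 1 .nil .nil))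
  (.node 1 (.node 0 .nil (.node 1 .nil .nil)) .nil)) .nil) (.node 1 (.node 0 (.node 1 (.node 0
  .nil (.node 1 .nil .nil)) .nil) (.node 1 (.node 1 (.node 0 (.node 0 .nil .nil) .nil) .nil)
  .nil)) .nil)) .nil)) (.node 1 (.node 0 (.node 0 (.node 1 (.node 0 (.node 0 (.node 0 (.node 0
  .nil .nil) .nil) .nil) .nil) .nil) (.node 1 (.node 0 (.node 0 (.node 1 (.node 0 .nil .nil)
  .nil) (.node 1 (.node 0 .nil (.node 1 (.node 0 (.node 0 .nil .nil) .nil) .nil)) .nil)) (.node
  1 (.node 1 .nil .nil) .nil)) .nil)) (.node 1 (.node 0 (.node 0 (.node 1 (.node 0 (.node 0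
  (.node 1 .nil .nil) .nil) .nil) .nil) (.node 1 (.node 0 (.node 0 (.node 0 .nil .nil) (.node 1
  .nil .nil)) (.node 1 (.node 1 (.node 1 .nil .nil) .nil) .nil)) .nil)) (.node 1 (.node 0 (.node
  1 (.node 0 .nil .nil) .nil) .nil) .nil)) .nil)) .nil)) .nil)) (.node 1 (.node 0 (.node 0
  (.node 0 (.node 0 (.node 0 (.node 0 (.node 0 .nil (.node 1 (.node 0 .nil (.node 1 (.node 0
  .nil .nil) .nil)) .nil)) (.node 1 (.node 0 .nil .nil) .nil)) .nil) (.node 1 (.node 1 (.node 0
  (.node 0 .nil .nil) (.node 1 (.node 0 (.node 0 (.node 1 .nil .nil) .nil) (.node 1 .nil .nil))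
  .nil)) .nil) .nil)) (.node 1 (.node 0 (.node 0 (.node 0 (.node 1 .nil .nil) .nil) (.node 1
  (.node 0 (.node 0 (.node 1 .nil .nil) (.node 1 (.node 0 (.node 0 .nil .nil) .nil) .nil))
  (.node 1 (.node 1 .nil .nil) .nil)) .nil)) (.node 1 (.node 1 (.node 0 (.node 0 (.node 0 .nil
  .nil) .nil) (.node 1 .nil .nil)) .nil) .nil)) .nil)) (.node 1 (.node 0 (.node 0 (.node 0
  (.node 1 (.node 1 .nil .nil) .nil) (.node 1 (.node 0 (.node 1 .nil .nil) (.node 1 (.node 1
  (.node 1 .nil .nil) .nil) .nil)) .nil)) (.node 1 (.node 0 (.node 1 (.node 1 (.node 0 (.node 1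
  .nil .nil) .nil) .nil) .nil) (.node 1 (.node 0 .nil .nil) .nil)) .nil)) (.node 1 (.node 0
  (.node 0 (.node 1 (.node 0 .nil (.node 1 (.node 0 .nil .nil) .nil)) .nil) .nil) (.node 1
  (.node 0 (.node 0 (.node 0 .nil (.node 1 (.node 0 .nil .nil) .nil)) (.node 1 (.node 0 (.node 1
  .nil .nil) (.node 1 .nil .nil)) .nil)) (.node 1 (.node 0 (.node 0 (.node 1 .nil .nil) (.node 1
  (.node 0 .nil (.node 1 .nil .nil)) .nil)) .nil) .nil)) .nil)) .nil)) .nil)) (.node 1 (.node 0
  (.node 0 (.node 0 (.node 0 .nil (.node 1 (.node 1 (.node 0 (.node 0 .nil .nil) (.node 1 (.node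
  1 .nil .nil) .nil)) .nil) .nil)) (.node 1 (.node 0 (.node 1 (.node 0 .nil .nil) .nil) (.node 1
  (.node 0 (.node 1 (.node 0 .nil (.node 1 .nil .nil)) .nil) (.node 1 .nil .nil)) .nil)) .nil))
  (.node 1 (.node 0 (.node 0 (.node 1 (.node 0 (.node 0 .nil .nil) (.node 1 .nil .nil)) .nil)
  (.node 1 (.node 0 (.node 0 .nil .nil) .nil) .nil)) (.node 1 (.node 0 (.node 0 .nil (.node 1
  (.node 0 .nil (.node 1 (.node 0 .nil .nil) .nil)) .nil)) (.node 1 (.node 0 (.node 0 .nil .nil)
  (.node 1 .nil .nil)) .nil)) .nil)) .nil)) .nil) .nil)) .nil)) .nil)) .nil)) (.node 1 (.node 0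
  (.node 0 (.node 0 (.node 0 (.node 0 (.node 0 (.node 0 (.node 1 (.node 0 .nil (.node 1 .nil
  .nil)) .nil) (.node 1 (.node 0 (.node 1 (.node 0 .nil (.node 1 .nil .nil)) .nil) (.node 1
  (.node 0 .nil (.node 1 (.node 0 (.node 1 (.node 0 .nil .nil) .nil) (.node 1 .nil .nil)) .nil))
  .nil)) .nil)) (.node 1 (.node 0 (.node 0 (.node 1 (.node 1 (.node 0 (.node 0 .nil .nil) (.node
  1 .nil .nil)) .nil) .nil) (.node 1 (.node 0 (.node 1 .nil .nil) (.node 1 .nil .nil)) .nil))
  (.node 1 (.node 1 (.node 0 (.node 0 .nil (.node 1 .nil .nil)) (.node 1 (.node 0 (.node 0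
  (.node 0 .nil .nil) .nil) .nil) .nil)) .nil) .nil)) .nil)) (.node 1 (.node 0 (.node 1 (.node 0
  (.node 1 (.node 1 .nil .nil) .nil) (.node 1 (.node 0 .nil (.node 1 .nil .nil)) .nil)) .nil)
  (.node 1 (.node 0 (.node 0 (.node 0 (.node 0 .nil (.node 1 .nil .nil)) (.node 1 (.node 0 .nil
  .nil) .nil)) (.node 1 (.node 0 (.node 0 .nil (.node 1 (.node 0 .nil .nil) .nil)) (.node 1 .nil
  .nil)) .nil)) (.node 1 (.node 0 (.node 0 (.node 1 (.node 1 .nil .nil) .nil) (.node 1 (.node 1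
  .nil .nil) .nil)) (.node 1 .nil .nil)) .nil)) .nil)) .nil)) (.node 1 (.node 1 (.node 1 (.node
  0 (.node 1 (.node 0 (.node 0 .nil (.node 1 .nil .nil)) (.node 1 (.node 0 (.node 1 .nil .nil)
  .nil) .nil)) .nil) (.node 1 (.node 0 (.node 0 (.node 0 (.node 0 .nil .nil) .nil) (.node 1
  (.node 0 .nil .nil) .nil)) .nil) .nil)) .nil) .nil) .nil)) (.node 1 (.node 0 (.node 0 (.node 0
  (.node 1 (.node 1 (.node 1 (.node 0 (.node 1 .nil .nil) .nil) .nil) .nil) .nil) (.node 1
  (.node 0 (.node 0 (.node 0 (.node 1 .nil .nil) .nil) (.node 1 (.node 0 (.node 0 .nil (.node 1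
  .nil .nil)) (.node 1 (.node 0 .nil .nil) .nil)) .nil)) (.node 1 (.node 0 (.node 1 .nil .nil)
  (.node 1 (.node 0 (.node 1 .nil .nil) .nil) .nil)) .nil)) .nil)) (.node 1 (.node 0 (.node 0
  (.node 0 (.node 1 (.node 1 .nil .nil) .nil) (.node 1 (.node 0 (.node 1 .nil .nil) .nil) .nil))
  (.node 1 .nil .nil)) (.node 1 (.node 0 (.node 0 (.node 1 (.node 1 (.node 1 .nil .nil) .nil)
  .nil) (.node 1 (.node 0 (.node 0 (.node 0 .nil (.node 1 .nil .nil)) .nil) (.node 1 (.node 1
  .nil .nil) .nil)) .nil)) (.node 1 (.node 0 .nil (.node 1 .nil .nil)) .nil)) .nil)) .nil))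
  (.node 1 (.node 0 (.node 0 (.node 0 (.node 1 (.node 1 (.node 0 .nil .nil) .nil) .nil) (.node 1
  (.node 0 (.node 0 (.node 0 .nil (.node 1 .nil .nil)) (.node 1 .nil .nil)) (.node 1 (.node 0
  (.node 1 (.node 1 .nil .nil) .nil) (.node 1 (.node 0 .nil (.node 1 .nil .nil)) .nil)) .nil))
  .nil)) (.node 1 (.node 0 (.node 0 (.node 1 (.node 0 (.node 1 .nil .nil) (.node 1 .nil .nil))
  .nil) (.node 1 (.node 0 (.node 1 (.node 1 .nil .nil) .nil) .nil) .nil)) (.node 1 (.node 0 .nil
  (.node 1 (.node 1 (.node 0 (.node 1 .nil .nil) .nil) .nil) .nil)) .nil)) .nil)) (.node 1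
  (.node 0 (.node 1 (.node 0 (.node 0 (.node 0 .nil (.node 1 .nil .nil)) (.node 1 .nil .nil))
  (.node 1 (.node 1 (.node 0 (.node 1 .nil .nil) (.node 1 .nil .nil)) .nil) .nil)) .nil) (.node
  1 (.node 0 (.node 1 (.node 0 (.node 1 .nil .nil) .nil) .nil) .nil) .nil)) .nil)) .nil)) .nil))
  (.node 1 (.node 0 (.node 0 (.node 0 (.node 0 (.node 0 (.node 0 (.node 0 .nil (.node 1 (.node 0
  .nil (.node 1 .nil .nil)) .nil)) (.node 1 (.node 0 (.node 1 .nil .nil) (.node 1 (.node 0 .nil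
  (.node 1 (.node 0 .nil .nil) .nil)) .nil)) .nil)) (.node 1 (.node 0 (.node 0 .nil (.node 1
  (.node 0 (.node 0 .nil .nil) (.node 1 .nil .nil)) .nil)) .nil) .nil)) (.node 1 (.node 1 (.node
  0 (.node 0 (.node 0 .nil .nil) (.node 1 (.node 1 (.node 0 .nil .nil) .nil) .nil)) (.node 1
  (.node 1 .nil .nil) .nil)) .nil) .nil)) (.node 1 (.node 0 (.node 0 (.node 0 (.node 1 .nil
  .nil) (.node 1 (.node 0 (.node 0 .nil .nil) (.node 1 .nil .nil)) .nil)) (.node 1 (.node 0
  (.node 0 (.node 1 .nil .nil) (.node 1 (.node 0 (.node 0 .nil .nil) .nil) .nil)) (.node 1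
  (.node 1 .nil .nil) .nil)) .nil)) (.node 1 (.node 0 (.node 0 (.node 0 (.node 0 (.node 0 .nil
  .nil) .nil) (.node 1 (.node 1 (.node 0 .nil .nil) .nil) .nil)) (.node 1 (.node 0 (.node 0
  (.node 0 (.node 0 .nil .nil) .nil) (.node 1 .nil .nil)) .nil) .nil)) (.node 1 (.node 0 (.node
  0 .nil (.node 1 (.node 1 .nil .nil) .nil)) (.node 1 (.node 0 (.node 1 (.node 1 (.node 1 .nil
  .nil) .nil) .nil) .nil) .nil)) .nil)) .nil)) .nil)) (.node 1 (.node 0 (.node 0 (.node 0 (.node
  0 .nil (.node 1 (.node 1 (.node 0 (.node 0 .nil .nil) (.node 1 .nil .nil)) .nil) .nil)) (.node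
  1 (.node 0 (.node 0 (.node 0 .nil (.node 1 .nil .nil)) .nil) (.node 1 .nil .nil)) .nil))
  (.node 1 (.node 0 (.node 0 (.node 0 (.node 0 (.node 0 .nil .nil) .nil) (.node 1 .nil .nil))
  .nil) (.node 1 (.node 0 (.node 0 (.node 1 .nil .nil) .nil) (.node 1 (.node 0 (.node 0 (.node 1
  .nil .nil) .nil) (.node 1 (.node 0 (.node 0 .nil (.node 1 (.node 1 .nil .nil) .nil)) .nil)
  .nil)) .nil)) .nil)) .nil)) (.node 1 (.node 0 (.node 0 (.node 0 (.node 0 (.node 0 (.node 0
  .nil .nil) .nil) .nil) (.node 1 (.node 1 (.node 0 .nil .nil) .nil) .nil)) (.node 1 (.node 0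
  (.node 0 (.node 0 (.node 0 .nil .nil) .nil) .nil) (.node 1 (.node 1 (.node 0 (.node 0 (.node 0
  .nil .nil) (.node 1 .nil .nil)) .nil) .nil) .nil)) .nil)) (.node 1 (.node 0 (.node 1 (.node 0
  (.node 1 (.node 0 .nil .nil) .nil) (.node 1 (.node 1 (.node 0 .nil .nil) .nil) .nil)) .nil)
  (.node 1 (.node 0 (.node 0 .nil (.node 1 (.node 1 .nil .nil) .nil)) .nil) .nil)) .nil)) .nil))
  .nil)) (.node 1 (.node 0 (.node 0 (.node 0 (.node 0 (.node 0 .nil (.node 1 (.node 0 (.node 1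
  (.node 0 (.node 1 (.node 1 .nil .nil) .nil) (.node 1 (.node 1 .nil .nil) .nil)) .nil) (.node 1
  (.node 1 (.node 0 .nil .nil) .nil) .nil)) .nil)) (.node 1 (.node 1 (.node 0 (.node 0 .nil
  (.node 1 .nil .nil)) (.node 1 (.node 0 .nil .nil) .nil)) .nil) .nil)) (.node 1 (.node 0 (.node
  1 (.node 0 .nil (.node 1 (.node 1 (.node 0 (.node 0 .nil .nil) .nil) .nil) .nil)) .nil) (.node
  1 (.node 0 (.node 1 (.node 1 .nil .nil) .nil) (.node 1 (.node 0 (.node 0 (.node 0 .nil (.node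
  1 (.node 0 .nil .nil) .nil)) (.node 1 (.node 0 .nil .nil) .nil)) .nil) .nil)) .nil)) .nil))
  (.node 1 (.node 0 (.node 0 (.node 0 (.node 1 .nil .nil) (.node 1 (.node 0 (.node 0 (.node 1
  .nil .nil) (.node 1 .nil .nil)) (.node 1 .nil .nil)) .nil)) .nil) (.node 1 (.node 0 (.node 0
  (.node 0 (.node 0 .nil .nil) .nil) (.node 1 (.node 0 (.node 0 .nil (.node 1 .nil .nil)) (.node
  1 (.node 0 (.node 0 .nil .nil) .nil) .nil)) .nil)) (.node 1 (.node 0 (.node 0 (.node 1 (.node
  0 .nil .nil) .nil) (.node 1 .nil .nil)) (.node 1 (.node 0 (.node 1 (.node 0 .nil .nil) .nil)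
  .nil) .nil)) .nil)) .nil)) .nil)) (.node 1 (.node 0 (.node 0 (.node 0 (.node 0 (.node 0 (.node
  1 (.node 1 (.node 1 .nil .nil) .nil) .nil) (.node 1 .nil .nil)) (.node 1 (.node 1 .nil .nil)
  .nil)) (.node 1 (.node 1 (.node 0 .nil .nil) .nil) .nil)) (.node 1 (.node 0 (.node 0 .nil
  (.node 1 (.node 0 (.node 0 .nil (.node 1 (.node 1 .nil .nil) .nil)) (.node 1 (.node 1 (.node 0
  .nil (.node 1 .nil .nil)) .nil) .nil)) .nil)) (.node 1 (.node 0 (.node 0 (.node 1 (.node 1
  .nil .nil) .nil) (.node 1 .nil .nil)) (.node 1 (.node 0 (.node 1 .nil .nil) .nil) .nil))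
  .nil)) .nil)) (.node 1 (.node 0 (.node 0 (.node 0 (.node 0 (.node 0 (.node 0 .nil .nil) (.node
  1 .nil .nil)) .nil) .nil) .nil) .nil) .nil)) .nil)) .nil)) .nil)) (.node 1 (.node 0 (.node 0
  (.node 0 (.node 0 (.node 0 (.node 0 .nil .nil) (.node 1 (.node 0 (.node 0 (.node 1 (.node 0
  (.node 1 .nil .nil) (.node 1 .nil .nil)) .nil) (.node 1 (.node 1 .nil .nil) .nil)) .nil)
  .nil)) (.node 1 (.node 1 (.node 0 (.node 0 (.node 0 (.node 0 (.node 0 .nil (.node 1 .nil
  .nil)) .nil) (.node 1 (.node 0 (.node 1 (.node 0 .nil .nil) .nil) .nil) .nil)) (.node 1 (.node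
  0 .nil .nil) .nil)) .nil) .nil) .nil)) (.node 1 (.node 0 (.node 0 (.node 0 (.node 0 (.node 1
  (.node 0 (.node 0 .nil .nil) (.node 1 (.node 1 .nil .nil) .nil)) .nil) (.node 1 .nil .nil))
  (.node 1 (.node 0 (.node 0 (.node 0 (.node 1 .nil .nil) (.node 1 .nil .nil)) (.node 1 (.node 1
  (.node 1 .nil .nil) .nil) .nil)) (.node 1 (.node 0 (.node 0 (.node 0 .nil .nil) (.node 1 .nil
  .nil)) (.node 1 (.node 1 .nil .nil) .nil)) .nil)) .nil)) (.node 1 (.node 0 (.node 0 (.node 0
  (.node 0 .nil (.node 1 .nil .nil)) (.node 1 (.node 0 .nil (.node 1 .nil .nil)) .nil)) (.node 1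
  (.node 0 (.node 0 .nil (.node 1 .nil .nil)) (.node 1 (.node 1 .nil .nil) .nil)) .nil)) (.node
  1 (.node 0 (.node 0 (.node 0 .nil (.node 1 (.node 0 .nil .nil) .nil)) (.node 1 .nil .nil))
  .nil) .nil)) .nil)) (.node 1 (.node 0 (.node 0 (.node 0 (.node 0 (.node 1 (.node 1 .nil .nil)
  .nil) (.node 1 .nil .nil)) (.node 1 (.node 0 (.node 1 .nil .nil) .nil) .nil)) (.node 1 (.node
  0 (.node 0 (.node 0 (.node 0 (.node 0 .nil .nil) .nil) (.node 1 .nil .nil)) .nil) (.node 1
  (.node 0 (.node 0 (.node 1 .nil .nil) .nil) (.node 1 (.node 0 (.node 0 .nil (.node 1 .nil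
  .nil)) (.node 1 .nil .nil)) .nil)) .nil)) .nil)) (.node 1 (.node 0 (.node 1 (.node 1 (.node 1
  .nil .nil) .nil) .nil) (.node 1 (.node 0 (.node 1 (.node 0 (.node 0 .nil (.node 1 (.node 1
  .nil .nil) .nil)) (.node 1 (.node 1 .nil .nil) .nil)) .nil) .nil) .nil)) .nil)) .nil)) .nil))
  (.node 1 (.node 0 (.node 0 (.node 0 (.node 0 .nil (.node 1 (.node 1 (.node 0 .nil (.node 1
  .nil .nil)) .nil) .nil)) (.node 1 (.node 0 (.node 0 (.node 0 .nil .nil) (.node 1 (.node 1
  (.node 0 (.node 0 (.node 1 .nil .nil) .nil) .nil) .nil) .nil)) (.node 1 (.node 0 .nil (.node 1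
  (.node 0 (.node 0 (.node 1 .nil .nil) .nil) .nil) .nil)) .nil)) .nil)) (.node 1 (.node 0
  (.node 0 (.node 0 (.node 0 (.node 0 (.node 1 (.node 1 .nil .nil) .nil) .nil) .nil) .nil) .nil)
  (.node 1 (.node 1 (.node 0 (.node 1 (.node 0 .nil (.node 1 .nil .nil)) .nil) (.node 1 .nil
  .nil)) .nil) .nil)) .nil)) (.node 1 (.node 0 (.node 0 (.node 1 (.node 0 (.node 1 (.node 0 .nil
  .nil) .nil) (.node 1 (.node 0 (.node 0 .nil .nil) .nil) .nil)) .nil) (.node 1 (.node 0 (.node
  0 (.node 0 .nil .nil) (.node 1 (.node 0 (.node 0 (.node 1 (.node 1 .nil .nil) .nil) .nil)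
  .nil) .nil)) (.node 1 (.node 0 (.node 0 (.node 1 .nil .nil) (.node 1 (.node 1 .nil .nil)
  .nil)) .nil) .nil)) .nil)) (.node 1 (.node 0 (.node 0 (.node 0 (.node 0 (.node 0 (.node 0 .nil
  .nil) .nil) .nil) (.node 1 (.node 0 .nil .nil) .nil)) (.node 1 (.node 0 (.node 0 .nil (.node 1
  .nil .nil)) (.node 1 (.node 0 (.node 1 .nil .nil) (.node 1 (.node 0 .nil .nil) .nil)) .nil))
  .nil)) (.node 1 (.node 0 (.node 0 (.node 1 (.node 0 .nil (.node 1 (.node 0 .nil .nil) .nil))
  .nil) .nil) .nil) .nil)) .nil)) .nil)) .nil)) (.node 1 (.node 0 (.node 0 (.node 0 (.node 0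
  (.node 0 (.node 0 (.node 0 (.node 0 .nil .nil) (.node 1 (.node 1 (.node 0 (.node 0 .nil .nil)
  .nil) .nil) .nil)) (.node 1 (.node 0 .nil (.node 1 (.node 0 (.node 0 .nil .nil) .nil) .nil))
  .nil)) (.node 1 (.node 0 (.node 1 (.node 0 (.node 0 .nil .nil) (.node 1 .nil .nil)) .nil)
  (.node 1 (.node 0 (.node 0 .nil .nil) (.node 1 (.node 0 .nil .nil) .nil)) .nil)) .nil)) (.node
  1 (.node 1 .nil .nil) .nil)) (.node 1 (.node 1 (.node 0 (.node 0 (.node 1 .nil .nil) (.node 1
  (.node 0 (.node 1 (.node 0 .nil .nil) .nil) (.node 1 (.node 1 (.node 1 (.node 0 .nil .nil)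
  .nil) .nil) .nil)) .nil)) (.node 1 (.node 0 (.node 0 (.node 0 .nil .nil) .nil) .nil) .nil))
  .nil) .nil)) (.node 1 (.node 0 (.node 0 (.node 0 (.node 0 (.node 0 (.node 0 .nil (.node 1 .nil
  .nil)) .nil) .nil) (.node 1 (.node 0 (.node 0 (.node 0 .nil .nil) (.node 1 (.node 0 .nil .nil)
  .nil)) (.node 1 (.node 1 (.node 0 .nil .nil) .nil) .nil)) .nil)) (.node 1 (.node 0 (.node 0
  (.node 1 (.node 0 (.node 0 .nil .nil) (.node 1 .nil .nil)) .nil) (.node 1 (.node 0 .nil (.node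
  1 (.node 0 .nil (.node 1 .nil .nil)) .nil)) .nil)) (.node 1 (.node 0 (.node 0 .nil .nil) .nil)
  .nil)) .nil)) (.node 1 (.node 0 (.node 0 (.node 0 (.node 0 (.node 0 (.node 0 (.node 1 .nil
  .nil) .nil) .nil) (.node 1 .nil .nil)) (.node 1 (.node 0 (.node 1 (.node 0 .nil (.node 1 .nil
  .nil)) .nil) (.node 1 (.node 1 .nil .nil) .nil)) .nil)) (.node 1 (.node 0 (.node 0 (.node 0
  (.node 0 .nil .nil) .nil) (.node 1 (.node 0 .nil .nil) .nil)) (.node 1 (.node 0 (.node 0 .nil
  (.node 1 .nil .nil)) .nil) .nil)) .nil)) (.node 1 (.node 1 .nil .nil) .nil)) .nil)) .nil))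
  (.node 1 (.node 0 (.node 0 (.node 0 (.node 0 (.node 0 (.node 0 (.node 1 (.node 1 .nil .nil)
  .nil) (.node 1 (.node 0 .nil (.node 1 (.node 0 .nil (.node 1 .nil .nil)) .nil)) .nil)) (.node
  1 (.node 1 .nil .nil) .nil)) .nil) (.node 1 (.node 0 (.node 0 .nil (.node 1 (.node 0 (.node 0
  .nil (.node 1 .nil .nil)) (.node 1 .nil .nil)) .nil)) (.node 1 (.node 0 (.node 0 (.node 0
  (.node 0 .nil .nil) .nil) (.node 1 (.node 0 (.node 0 .nil .nil) (.node 1 .nil .nil)) .nil))
  .nil) .nil)) .nil)) (.node 1 (.node 0 (.node 0 (.node 1 (.node 0 (.node 0 (.node 0 .nil .nil)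
  .nil) .nil) .nil) (.node 1 (.node 1 (.node 0 (.node 0 (.node 1 .nil .nil) .nil) .nil) .nil)
  .nil)) (.node 1 (.node 0 (.node 0 .nil (.node 1 (.node 0 .nil .nil) .nil)) (.node 1 (.node 1
  (.node 0 (.node 0 (.node 0 (.node 0 .nil .nil) .nil) (.node 1 (.node 0 (.node 1 .nil .nil)
  .nil) .nil)) .nil) .nil) .nil)) .nil)) .nil)) .nil) .nil)) .nil)) .nil)) .nil)) (.node 1
  (.node 0 (.node 0 (.node 0 (.node 0 (.node 0 (.node 0 (.node 0 (.node 0 (.node 0 (.node 0
  (.node 0 .nil .nil) (.node 1 (.node 0 .nil .nil) .nil)) .nil) (.node 1 (.node 0 (.node 0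
  (.node 1 (.node 1 .nil .nil) .nil) (.node 1 .nil .nil)) (.node 1 (.node 1 .nil .nil) .nil))
  .nil)) (.node 1 (.node 0 (.node 0 .nil .nil) (.node 1 (.node 0 (.node 0 (.node 0 (.node 0 .nil
  (.node 1 .nil .nil)) .nil) (.node 1 (.node 0 (.node 0 .nil .nil) (.node 1 .nil .nil)) .nil))
  (.node 1 (.node 0 (.node 0 (.node 0 (.node 0 .nil .nil) .nil) (.node 1 .nil .nil)) .nil)
  .nil)) .nil)) .nil)) (.node 1 (.node 0 (.node 1 (.node 0 (.node 0 (.node 0 (.node 0 .nil .nil)
  .nil) (.node 1 (.node 0 (.node 0 .nil (.node 1 (.node 0 .nil .nil) .nil)) (.node 1 .nil .nil))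
  .nil)) (.node 1 (.node 0 (.node 0 (.node 0 .nil .nil) (.node 1 (.node 1 .nil .nil) .nil))
  (.node 1 .nil .nil)) .nil)) .nil) (.node 1 (.node 0 (.node 0 (.node 0 .nil (.node 1 (.node 0
  .nil .nil) .nil)) (.node 1 (.node 0 (.node 0 (.node 0 .nil .nil) (.node 1 .nil .nil)) (.node 1
  (.node 0 .nil .nil) .nil)) .nil)) (.node 1 .nil .nil)) .nil)) .nil)) (.node 1 (.node 0 (.node
  0 (.node 1 (.node 1 (.node 1 (.node 0 (.node 1 .nil .nil) (.node 1 (.node 0 (.node 1 .nil
  .nil) .nil) .nil)) .nil) .nil) .nil) (.node 1 (.node 0 (.node 0 .nil (.node 1 (.node 0 .nil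
  (.node 1 .nil .nil)) .nil)) (.node 1 (.node 0 (.node 1 .nil .nil) (.node 1 (.node 0 (.node 0
  (.node 0 .nil .nil) (.node 1 (.node 0 .nil .nil) .nil)) (.node 1 (.node 0 .nil .nil) .nil))
  .nil)) .nil)) .nil)) (.node 1 (.node 0 (.node 0 (.node 1 (.node 0 .nil .nil) .nil) (.node 1
  (.node 0 (.node 0 (.node 1 .nil .nil) .nil) (.node 1 (.node 0 (.node 1 (.node 1 .nil .nil)
  .nil) (.node 1 (.node 0 .nil .nil) .nil)) .nil)) .nil)) (.node 1 (.node 0 (.node 1 (.node 1
  (.node 0 (.node 1 .nil .nil) (.node 1 .nil .nil)) .nil) .nil) (.node 1 (.node 0 (.node 0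
  (.node 1 .nil .nil) (.node 1 (.node 0 .nil .nil) .nil)) .nil) .nil)) .nil)) .nil)) .nil))
  (.node 1 (.node 1 (.node 0 (.node 0 (.node 1 (.node 0 (.node 0 .nil (.node 1 (.node 0 .nil
  (.node 1 (.node 0 .nil (.node 1 .nil .nil)) .nil)) .nil)) (.node 1 (.node 0 (.node 1 .nil
  .nil) (.node 1 (.node 0 .nil (.node 1 .nil .nil)) .nil)) .nil)) .nil) (.node 1 (.node 0 (.node
  0 (.node 0 (.node 0 .nil (.node 1 .nil .nil)) (.node 1 (.node 0 (.node 1 .nil .nil) (.node 1
  (.node 0 .nil (.node 1 .nil .nil)) .nil)) .nil)) (.node 1 (.node 0 (.node 0 (.node 0 .nil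
  .nil) .nil) .nil) .nil)) (.node 1 (.node 0 (.node 0 (.node 0 (.node 0 (.node 1 .nil .nil)
  .nil) (.node 1 .nil .nil)) (.node 1 (.node 0 (.node 0 .nil .nil) .nil) .nil)) (.node 1 (.node
  1 .nil .nil) .nil)) .nil)) .nil)) (.node 1 (.node 0 (.node 0 (.node 0 (.node 1 (.node 1 .nil
  .nil) .nil) (.node 1 .nil .nil)) (.node 1 (.node 0 (.node 1 .nil .nil) .nil) .nil)) (.node 1
  (.node 0 (.node 1 (.node 0 .nil (.node 1 (.node 1 .nil .nil) .nil)) .nil) .nil) .nil)) .nil))
  .nil) .nil)) (.node 1 (.node 0 (.node 0 (.node 0 (.node 0 (.node 0 (.node 0 (.node 0 .nil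
  (.node 1 .nil .nil)) (.node 1 (.node 1 (.node 0 .nil (.node 1 .nil .nil)) .nil) .nil)) .nil)
  (.node 1 (.node 1 (.node 0 (.node 0 .nil (.node 1 (.node 1 .nil .nil) .nil)) .nil) .nil)
  .nil)) (.node 1 (.node 0 (.node 0 (.node 0 (.node 0 .nil (.node 1 (.node 1 (.node 1 .nil .nil)
  .nil) .nil)) (.node 1 (.node 0 (.node 1 .nil .nil) (.node 1 .nil .nil)) .nil)) (.node 1 (.node
  0 (.node 0 (.node 0 .nil .nil) .nil) (.node 1 .nil .nil)) .nil)) (.node 1 (.node 0 (.node 0
  (.node 0 (.node 0 (.node 0 (.node 1 .nil .nil) .nil) .nil) (.node 1 .nil .nil)) (.node 1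
  (.node 1 .nil .nil) .nil)) (.node 1 (.node 1 (.node 0 .nil .nil) .nil) .nil)) .nil)) .nil))
  (.node 1 (.node 0 (.node 0 (.node 0 (.node 0 (.node 0 (.node 1 (.node 0 .nil .nil) .nil)
  (.node 1 (.node 1 .nil .nil) .nil)) (.node 1 (.node 1 (.node 0 .nil .nil) .nil) .nil)) (.node
  1 (.node 0 (.node 0 (.node 1 .nil .nil) (.node 1 (.node 1 (.node 0 .nil .nil) .nil) .nil))
  .nil) .nil)) (.node 1 (.node 0 (.node 1 (.node 0 .nil .nil) .nil) (.node 1 (.node 1 (.node 1
  .nil .nil) .nil) .nil)) .nil)) (.node 1 (.node 0 (.node 0 (.node 1 (.node 0 (.node 0 .nil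
  .nil) (.node 1 (.node 0 .nil .nil) .nil)) .nil) (.node 1 .nil .nil)) (.node 1 (.node 0 (.node
  0 (.node 1 (.node 0 .nil (.node 1 (.node 1 .nil .nil) .nil)) .nil) (.node 1 (.node 0 (.node 0
  .nil (.node 1 .nil .nil)) (.node 1 .nil .nil)) .nil)) (.node 1 (.node 0 (.node 1 (.node 0 .nil
  .nil) .nil) .nil) .nil)) .nil)) .nil)) .nil)) (.node 1 (.node 0 (.node 0 (.node 0 (.node 0
  (.node 0 (.node 1 (.node 1 (.node 1 .nil .nil) .nil) .nil) (.node 1 .nil .nil)) (.node 1
  (.node 1 (.node 0 (.node 0 .nil (.node 1 (.node 0 .nil .nil) .nil)) (.node 1 .nil .nil)) .nil)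
  .nil)) (.node 1 (.node 0 (.node 0 (.node 1 (.node 0 .nil .nil) .nil) (.node 1 (.node 0 (.node
  1 (.node 0 .nil .nil) .nil) (.node 1 (.node 1 .nil .nil) .nil)) .nil)) (.node 1 (.node 0
  (.node 1 (.node 0 .nil .nil) .nil) .nil) .nil)) .nil)) (.node 1 (.node 0 (.node 0 (.node 0
  (.node 0 (.node 0 (.node 0 .nil .nil) (.node 1 .nil .nil)) (.node 1 .nil .nil)) (.node 1
  (.node 0 (.node 1 (.node 0 .nil .nil) .nil) (.node 1 (.node 1 .nil .nil) .nil)) .nil)) .nil)
  (.node 1 (.node 1 (.node 0 (.node 0 (.node 1 .nil .nil) (.node 1 .nil .nil)) (.node 1 (.node 0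
  (.node 0 .nil .nil) .nil) .nil)) .nil) .nil)) .nil)) (.node 1 (.node 0 (.node 0 (.node 0
  (.node 0 (.node 0 .nil (.node 1 (.node 1 (.node 1 .nil .nil) .nil) .nil)) (.node 1 (.node 1
  (.node 0 .nil .nil) .nil) .nil)) (.node 1 (.node 0 .nil (.node 1 (.node 0 (.node 0 (.node 1
  .nil .nil) .nil) (.node 1 (.node 0 .nil .nil) .nil)) .nil)) .nil)) (.node 1 (.node 0 (.node 1
  (.node 1 (.node 0 (.node 0 .nil .nil) (.node 1 .nil .nil)) .nil) .nil) (.node 1 (.node 0
  (.node 1 (.node 0 .nil .nil) .nil) (.node 1 (.node 0 .nil .nil) .nil)) .nil)) .nil)) (.node 1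
  (.node 0 (.node 0 (.node 1 (.node 1 (.node 0 (.node 0 (.node 1 .nil .nil) (.node 1 .nil .nil))
  (.node 1 .nil .nil)) .nil) .nil) .nil) .nil) .nil)) .nil)) .nil)) .nil)) (.node 1 (.node 0
  (.node 0 (.node 0 (.node 0 (.node 0 (.node 1 (.node 0 (.node 0 .nil .nil) (.node 1 (.node 1
  (.node 1 (.node 0 .nil .nil) .nil) .nil) .nil)) .nil) (.node 1 (.node 0 (.node 0 (.node 1
  (.node 0 .nil (.node 1 (.node 0 .nil (.node 1 .nil .nil)) .nil)) .nil) .nil) (.node 1 (.node 0
  (.node 0 .nil (.node 1 (.node 0 (.node 0 .nil .nil) .nil) .nil)) (.node 1 (.node 0 (.node 0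
  (.node 0 .nil .nil) .nil) (.node 1 .nil .nil)) .nil)) .nil)) .nil)) (.node 1 (.node 1 (.node 0
  (.node 0 (.node 0 (.node 0 .nil .nil) (.node 1 .nil .nil)) (.node 1 (.node 0 (.node 1 (.node 0
  .nil (.node 1 .nil .nil)) .nil) (.node 1 .nil .nil)) .nil)) (.node 1 (.node 0 (.node 1 .nil
  .nil) (.node 1 .nil .nil)) .nil)) .nil) .nil)) (.node 1 (.node 0 (.node 0 (.node 0 (.node 0
  (.node 0 (.node 0 .nil .nil) (.node 1 .nil .nil)) (.node 1 (.node 1 (.node 1 .nil .nil) .nil)
  .nil)) (.node 1 (.node 1 (.node 0 (.node 0 .nil (.node 1 (.node 1 .nil .nil) .nil)) (.node 1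
  (.node 1 (.node 0 .nil .nil) .nil) .nil)) .nil) .nil)) (.node 1 (.node 0 (.node 0 (.node 0
  (.node 1 .nil .nil) (.node 1 .nil .nil)) (.node 1 (.node 1 (.node 1 .nil .nil) .nil) .nil))
  (.node 1 (.node 0 (.node 0 .nil (.node 1 (.node 0 .nil (.node 1 .nil .nil)) .nil)) .nil)
  .nil)) .nil)) (.node 1 (.node 0 (.node 0 (.node 0 (.node 0 .nil (.node 1 .nil .nil)) (.node 1
  (.node 1 .nil .nil) .nil)) (.node 1 (.node 0 (.node 0 (.node 0 .nil (.node 1 .nil .nil))
  (.node 1 .nil .nil)) .nil) .nil)) (.node 1 (.node 0 (.node 0 (.node 1 (.node 1 (.node 0 .nil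
  (.node 1 .nil .nil)) .nil) .nil) (.node 1 .nil .nil)) (.node 1 .nil .nil)) .nil)) .nil))
  .nil)) (.node 1 (.node 0 (.node 0 (.node 0 (.node 0 (.node 0 (.node 0 (.node 0 .nil (.node 1
  .nil .nil)) (.node 1 .nil .nil)) .nil) (.node 1 (.node 1 (.node 0 (.node 0 .nil (.node 1 .nil
  .nil)) (.node 1 .nil .nil)) .nil) .nil)) (.node 1 (.node 0 (.node 0 (.node 0 .nil (.node 1
  (.node 0 .nil .nil) .nil)) (.node 1 (.node 1 .nil .nil) .nil)) (.node 1 (.node 0 (.node 0
  (.node 0 .nil .nil) (.node 1 (.node 0 .nil (.node 1 .nil .nil)) .nil)) (.node 1 (.node 1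
  (.node 0 .nil .nil) .nil) .nil)) .nil)) .nil)) (.node 1 (.node 0 (.node 0 (.node 0 (.node 0
  .nil .nil) (.node 1 (.node 0 .nil (.node 1 (.node 0 .nil .nil) .nil)) .nil)) (.node 1 (.node 1
  (.node 0 (.node 0 (.node 1 .nil .nil) (.node 1 .nil .nil)) (.node 1 (.node 0 .nil (.node 1
  .nil .nil)) .nil)) .nil) .nil)) (.node 1 (.node 0 (.node 0 (.node 0 (.node 1 .nil .nil) .nil)
  (.node 1 (.node 0 .nil (.node 1 (.node 0 .nil (.node 1 .nil .nil)) .nil)) .nil)) (.node 1
  (.node 0 (.node 0 (.node 1 .nil .nil) (.node 1 (.node 0 .nil .nil) .nil)) (.node 1 .nil .nil))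
  .nil)) .nil)) .nil)) (.node 1 (.node 1 (.node 0 (.node 0 (.node 1 (.node 0 (.node 1 .nil .nil)
  (.node 1 (.node 0 (.node 1 .nil .nil) (.node 1 (.node 0 .nil .nil) .nil)) .nil)) .nil) (.node
  1 (.node 1 (.node 1 (.node 0 (.node 1 .nil .nil) (.node 1 .nil .nil)) .nil) .nil) .nil))
  (.node 1 (.node 0 (.node 0 (.node 0 .nil (.node 1 (.node 0 .nil .nil) .nil)) (.node 1 .nil
  .nil)) .nil) .nil)) .nil) .nil)) .nil)) (.node 1 (.node 0 (.node 0 (.node 0 (.node 0 (.node 0
  (.node 0 (.node 0 (.node 0 (.node 1 .nil .nil) (.node 1 .nil .nil)) .nil) .nil) (.node 1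
  (.node 0 (.node 0 .nil (.node 1 (.node 0 .nil (.node 1 .nil .nil)) .nil)) (.node 1 (.node 0
  (.node 0 .nil .nil) (.node 1 (.node 0 (.node 0 .nil .nil) .nil) .nil)) .nil)) .nil)) (.node 1
  (.node 1 (.node 0 .nil (.node 1 (.node 0 (.node 1 (.node 0 .nil .nil) .nil) .nil) .nil)) .nil)
  .nil)) (.node 1 (.node 0 (.node 0 (.node 1 (.node 0 (.node 0 .nil (.node 1 .nil .nil)) .nil)
  .nil) .nil) (.node 1 (.node 0 (.node 0 (.node 0 (.node 0 .nil (.node 1 (.node 1 .nil .nil)
  .nil)) .nil) (.node 1 (.node 0 (.node 0 .nil .nil) (.node 1 (.node 0 .nil .nil) .nil)) .nil))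
  (.node 1 (.node 0 (.node 1 (.node 0 .nil .nil) .nil) (.node 1 .nil .nil)) .nil)) .nil)) .nil))
  (.node 1 (.node 0 (.node 0 (.node 1 (.node 1 (.node 0 (.node 0 .nil .nil) (.node 1 (.node 1
  .nil .nil) .nil)) .nil) .nil) (.node 1 (.node 0 (.node 1 (.node 1 .nil .nil) .nil) (.node 1
  (.node 0 (.node 0 (.node 1 .nil .nil) .nil) (.node 1 (.node 0 .nil (.node 1 .nil .nil)) .nil))
  .nil)) .nil)) (.node 1 (.node 0 (.node 0 .nil .nil) (.node 1 (.node 0 (.node 0 (.node 0 .nil
  (.node 1 (.node 0 (.node 1 .nil .nil) (.node 1 .nil .nil)) .nil)) (.node 1 (.node 0 (.node 0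
  .nil .nil) (.node 1 (.node 0 .nil .nil) .nil)) .nil)) (.node 1 .nil .nil)) .nil)) .nil))
  .nil)) (.node 1 (.node 0 (.node 0 (.node 0 (.node 1 (.node 1 (.node 0 .nil .nil) .nil) .nil)
  .nil) (.node 1 (.node 0 (.node 0 (.node 0 (.node 0 (.node 1 (.node 0 .nil .nil) .nil) .nil)
  (.node 1 (.node 1 (.node 0 .nil .nil) .nil) .nil)) (.node 1 (.node 0 (.node 0 (.node 0 (.node
  1 .nil .nil) (.node 1 (.node 0 .nil .nil) .nil)) (.node 1 (.node 1 .nil .nil) .nil)) (.node 1
  (.node 0 .nil (.node 1 (.node 1 .nil .nil) .nil)) .nil)) .nil)) (.node 1 (.node 0 (.node 0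
  (.node 0 (.node 1 .nil .nil) (.node 1 (.node 1 .nil .nil) .nil)) (.node 1 (.node 1 (.node 1
  .nil .nil) .nil) .nil)) (.node 1 (.node 0 (.node 0 .nil (.node 1 .nil .nil)) (.node 1 (.node 0
  .nil .nil) .nil)) .nil)) .nil)) .nil)) (.node 1 (.node 0 (.node 0 (.node 1 (.node 0 (.node 0
  .nil (.node 1 (.node 0 .nil .nil) .nil)) (.node 1 (.node 0 (.node 0 .nil .nil) .nil) .nil))
  .nil) (.node 1 (.node 0 (.node 0 (.node 1 (.node 0 (.node 1 .nil .nil) (.node 1 (.node 0
  (.node 0 .nil .nil) .nil) .nil)) .nil) (.node 1 (.node 1 (.node 0 .nil (.node 1 .nil .nil))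
  .nil) .nil)) (.node 1 (.node 0 .nil (.node 1 (.node 0 .nil (.node 1 (.node 0 .nil .nil) .nil))
  .nil)) .nil)) .nil)) .nil) .nil)) .nil)) .nil)) .nil)) (.node 1 (.node 0 (.node 0 (.node 0
  (.node 0 (.node 0 (.node 0 (.node 0 (.node 0 (.node 0 (.node 0 (.node 1 (.node 0 .nil .nil)
  .nil) .nil) (.node 1 (.node 0 .nil .nil) .nil)) (.node 1 (.node 0 (.node 0 (.node 1 (.node 0
  .nil .nil) .nil) .nil) (.node 1 .nil .nil)) .nil)) (.node 1 (.node 0 (.node 0 .nil (.node 1
  (.node 0 .nil (.node 1 (.node 0 .nil (.node 1 .nil .nil)) .nil)) .nil)) (.node 1 (.node 1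
  (.node 0 .nil .nil) .nil) .nil)) .nil)) (.node 1 (.node 0 (.node 0 (.node 1 .nil .nil) (.node
  1 (.node 0 .nil (.node 1 (.node 1 (.node 0 .nil .nil) .nil) .nil)) .nil)) .nil) .nil)) (.node
  1 (.node 0 (.node 0 (.node 1 (.node 0 .nil (.node 1 (.node 1 .nil .nil) .nil)) .nil) (.node 1
  (.node 0 (.node 0 .nil .nil) (.node 1 (.node 0 (.node 1 .nil .nil) (.node 1 (.node 1 .nil
  .nil) .nil)) .nil)) .nil)) (.node 1 (.node 0 (.node 0 (.node 1 (.node 0 .nil .nil) .nil)
  (.node 1 (.node 0 .nil .nil) .nil)) (.node 1 (.node 0 (.node 0 (.node 1 (.node 0 .nil .nil)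
  .nil) .nil) (.node 1 .nil .nil)) .nil)) .nil)) .nil)) (.node 1 (.node 1 (.node 0 (.node 0
  (.node 0 (.node 0 .nil .nil) (.node 1 (.node 0 (.node 1 (.node 1 .nil .nil) .nil) .nil) .nil))
  (.node 1 (.node 1 (.node 1 (.node 0 .nil .nil) .nil) .nil) .nil)) (.node 1 (.node 0 (.node 0
  (.node 1 (.node 0 .nil (.node 1 (.node 0 .nil .nil) .nil)) .nil) (.node 1 (.node 0 (.node 0
  (.node 1 .nil .nil) .nil) .nil) .nil)) (.node 1 (.node 0 (.node 0 (.node 0 .nil .nil) .nil)
  .nil) .nil)) .nil)) .nil) .nil)) (.node 1 (.node 0 (.node 0 (.node 0 (.node 0 (.node 0 (.node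
  1 (.node 0 .nil (.node 1 (.node 0 .nil .nil) .nil)) .nil) .nil) (.node 1 (.node 1 .nil .nil)
  .nil)) (.node 1 (.node 0 (.node 0 (.node 0 .nil (.node 1 (.node 0 (.node 1 (.node 1 .nil .nil)
  .nil) .nil) .nil)) .nil) (.node 1 (.node 0 (.node 0 (.node 1 .nil .nil) .nil) (.node 1 (.node
  1 .nil .nil) .nil)) .nil)) .nil)) (.node 1 (.node 0 (.node 0 (.node 0 (.node 0 .nil .nil)
  (.node 1 .nil .nil)) (.node 1 (.node 0 (.node 0 .nil .nil) (.node 1 (.node 0 .nil .nil) .nil))
  .nil)) (.node 1 (.node 0 (.node 1 (.node 1 .nil .nil) .nil) .nil) .nil)) .nil)) (.node 1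
  (.node 0 (.node 0 (.node 1 (.node 0 (.node 1 .nil .nil) .nil) .nil) (.node 1 (.node 0 (.node 0
  (.node 0 (.node 1 (.node 1 .nil .nil) .nil) .nil) (.node 1 (.node 1 .nil .nil) .nil)) (.node 1
  (.node 0 (.node 0 .nil .nil) (.node 1 (.node 0 (.node 0 .nil .nil) .nil) .nil)) .nil)) .nil))
  (.node 1 (.node 0 (.node 0 (.node 0 (.node 0 (.node 0 (.node 1 .nil .nil) .nil) (.node 1 .nil
  .nil)) (.node 1 (.node 0 .nil (.node 1 (.node 0 .nil .nil) .nil)) .nil)) (.node 1 (.node 0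
  (.node 0 (.node 0 (.node 1 .nil .nil) .nil) .nil) (.node 1 (.node 0 .nil .nil) .nil)) .nil))
  (.node 1 (.node 0 (.node 0 (.node 0 (.node 1 .nil .nil) .nil) (.node 1 .nil .nil)) .nil)
  .nil)) .nil)) .nil)) .nil)) (.node 1 (.node 0 (.node 0 (.node 0 (.node 0 (.node 0 (.node 1
  (.node 0 (.node 1 .nil .nil) (.node 1 (.node 0 (.node 1 .nil .nil) .nil) .nil)) .nil) (.node 1
  (.node 0 (.node 0 .nil (.node 1 (.node 0 (.node 0 .nil .nil) .nil) .nil)) (.node 1 (.node 1
  .nil .nil) .nil)) .nil)) (.node 1 (.node 1 (.node 0 (.node 0 (.node 0 .nil .nil) (.node 1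
  (.node 1 (.node 0 .nil (.node 1 .nil .nil)) .nil) .nil)) (.node 1 (.node 0 (.node 0 .nil
  (.node 1 .nil .nil)) (.node 1 .nil .nil)) .nil)) .nil) .nil)) (.node 1 (.node 0 (.node 0
  (.node 0 (.node 1 .nil .nil) (.node 1 (.node 0 (.node 0 (.node 0 (.node 0 .nil (.node 1 .nil
  .nil)) (.node 1 .nil .nil)) .nil) (.node 1 .nil .nil)) .nil)) (.node 1 (.node 0 (.node 0
  (.node 0 (.node 1 .nil .nil) (.node 1 .nil .nil)) (.node 1 (.node 0 (.node 1 .nil .nil) (.node
  1 .nil .nil)) .nil)) (.node 1 .nil .nil)) .nil)) (.node 1 (.node 0 (.node 0 (.node 0 (.node 1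
  .nil .nil) (.node 1 (.node 1 .nil .nil) .nil)) (.node 1 (.node 0 (.node 0 (.node 0 .nil .nil)
  .nil) (.node 1 (.node 0 .nil .nil) .nil)) .nil)) (.node 1 (.node 1 (.node 0 (.node 1 (.node 1
  .nil .nil) .nil) .nil) .nil) .nil)) .nil)) .nil)) (.node 1 (.node 0 (.node 0 (.node 0 (.node 0
  (.node 0 .nil .nil) (.node 1 (.node 1 (.node 0 .nil (.node 1 .nil .nil)) .nil) .nil)) (.node 1
  (.node 0 (.node 0 .nil (.node 1 .nil .nil)) (.node 1 (.node 1 .nil .nil) .nil)) .nil)) (.node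
  1 (.node 0 (.node 0 (.node 1 (.node 1 (.node 1 .nil .nil) .nil) .nil) (.node 1 (.node 1 .nil
  .nil) .nil)) (.node 1 (.node 0 (.node 0 .nil (.node 1 .nil .nil)) (.node 1 .nil .nil)) .nil))
  .nil)) (.node 1 (.node 0 (.node 0 .nil (.node 1 (.node 0 (.node 0 .nil (.node 1 (.node 0 .nil
  (.node 1 .nil .nil)) .nil)) (.node 1 (.node 1 .nil .nil) .nil)) .nil)) (.node 1 (.node 0
  (.node 0 (.node 1 (.node 0 (.node 1 .nil .nil) .nil) .nil) (.node 1 (.node 0 (.node 0 (.node 1
  .nil .nil) (.node 1 (.node 0 .nil .nil) .nil)) .nil) .nil)) (.node 1 (.node 0 (.node 1 .nil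
  .nil) .nil) .nil)) .nil)) .nil)) .nil)) (.node 1 (.node 0 (.node 0 (.node 0 (.node 0 (.node 0
  (.node 0 .nil (.node 1 (.node 0 .nil .nil) .nil)) (.node 1 .nil .nil)) (.node 1 (.node 1
  (.node 0 (.node 0 .nil .nil) .nil) .nil) .nil)) (.node 1 (.node 0 (.node 0 (.node 0 .nil
  (.node 1 (.node 1 .nil .nil) .nil)) .nil) (.node 1 (.node 1 (.node 0 (.node 1 (.node 0 .nil
  .nil) .nil) (.node 1 (.node 0 .nil .nil) .nil)) .nil) .nil)) .nil)) (.node 1 (.node 0 (.node 0
  (.node 1 (.node 0 .nil .nil) .nil) .nil) (.node 1 (.node 0 (.node 1 (.node 1 (.node 0 (.node 0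
  .nil (.node 1 .nil .nil)) .nil) .nil) .nil) (.node 1 (.node 0 (.node 0 (.node 1 .nil .nil)
  (.node 1 (.node 0 (.node 0 .nil .nil) (.node 1 .nil .nil)) .nil)) (.node 1 (.node 0 (.node 1
  (.node 1 .nil .nil) .nil) .nil) .nil)) .nil)) .nil)) .nil)) (.node 1 (.node 0 (.node 0 (.node
  1 (.node 1 .nil .nil) .nil) (.node 1 (.node 0 (.node 0 (.node 0 .nil (.node 1 (.node 1 (.node
  0 .nil .nil) .nil) .nil)) (.node 1 (.node 0 (.node 0 .nil .nil) .nil) .nil)) .nil) .nil))
  (.node 1 (.node 0 (.node 1 (.node 0 (.node 0 .nil .nil) .nil) .nil) .nil) .nil)) .nil)) .nil))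
  .nil)) (.node 1 (.node 0 (.node 0 (.node 0 (.node 0 (.node 0 (.node 0 (.node 0 (.node 0 (.node
  0 (.node 1 .nil .nil) .nil) (.node 1 (.node 1 .nil .nil) .nil)) (.node 1 (.node 1 (.node 0
  .nil .nil) .nil) .nil)) (.node 1 (.node 0 (.node 1 .nil .nil) (.node 1 (.node 0 (.node 0 .nil
  .nil) (.node 1 (.node 0 .nil (.node 1 .nil .nil)) .nil)) .nil)) .nil)) (.node 1 (.node 0
  (.node 0 .nil (.node 1 (.node 0 .nil (.node 1 (.node 0 .nil .nil) .nil)) .nil)) (.node 1 .nil
  .nil)) .nil)) (.node 1 (.node 1 (.node 0 (.node 0 (.node 0 (.node 0 .nil .nil) (.node 1 (.node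
  0 (.node 0 .nil .nil) (.node 1 .nil .nil)) .nil)) (.node 1 (.node 0 .nil .nil) .nil)) (.node 1
  (.node 0 (.node 0 (.node 0 (.node 1 .nil .nil) .nil) .nil) (.node 1 .nil .nil)) .nil)) .nil)
  .nil)) (.node 1 (.node 0 (.node 0 (.node 0 (.node 0 (.node 1 .nil .nil) (.node 1 (.node 1
  (.node 0 .nil (.node 1 (.node 0 .nil .nil) .nil)) .nil) .nil)) (.node 1 (.node 0 .nil .nil)
  .nil)) (.node 1 (.node 1 (.node 0 (.node 1 .nil .nil) (.node 1 (.node 1 (.node 0 .nil .nil)
  .nil) .nil)) .nil) .nil)) (.node 1 (.node 0 (.node 0 (.node 0 (.node 0 (.node 1 .nil .nil)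
  (.node 1 (.node 1 .nil .nil) .nil)) (.node 1 (.node 0 (.node 0 .nil .nil) .nil) .nil)) (.node
  1 (.node 0 (.node 1 .nil .nil) (.node 1 (.node 0 (.node 0 (.node 1 .nil .nil) (.node 1 .nil
  .nil)) (.node 1 .nil .nil)) .nil)) .nil)) (.node 1 (.node 0 (.node 0 (.node 0 .nil (.node 1
  (.node 0 .nil .nil) .nil)) (.node 1 (.node 1 .nil .nil) .nil)) (.node 1 (.node 0 (.node 1 .nil
  .nil) .nil) .nil)) .nil)) .nil)) .nil)) (.node 1 (.node 0 (.node 0 (.node 0 (.node 0 (.node 0
  .nil (.node 1 .nil .nil)) (.node 1 (.node 1 (.node 0 (.node 1 .nil .nil) .nil) .nil) .nil))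
  (.node 1 (.node 0 (.node 0 .nil (.node 1 (.node 0 .nil (.node 1 (.node 1 (.node 1 .nil .nil)
  .nil) .nil)) .nil)) (.node 1 (.node 0 (.node 0 (.node 0 .nil .nil) (.node 1 (.node 1 .nil
  .nil) .nil)) (.node 1 (.node 0 (.node 1 .nil .nil) (.node 1 (.node 0 (.node 1 .nil .nil) .nil)
  .nil)) .nil)) .nil)) .nil)) (.node 1 (.node 0 (.node 1 (.node 0 (.node 1 (.node 1 .nil .nil)
  .nil) (.node 1 (.node 0 (.node 0 .nil .nil) (.node 1 .nil .nil)) .nil)) .nil) (.node 1 (.node
  0 (.node 0 (.node 1 (.node 1 .nil .nil) .nil) .nil) (.node 1 (.node 0 (.node 0 (.node 1 .nil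
  .nil) .nil) (.node 1 .nil .nil)) .nil)) .nil)) .nil)) (.node 1 (.node 0 (.node 0 (.node 0
  (.node 1 (.node 1 (.node 1 .nil .nil) .nil) .nil) (.node 1 (.node 1 (.node 0 (.node 1 .nil
  .nil) .nil) .nil) .nil)) (.node 1 (.node 0 (.node 0 (.node 1 .nil .nil) (.node 1 (.node 1 .nil
  .nil) .nil)) (.node 1 (.node 0 (.node 0 (.node 0 (.node 0 .nil .nil) .nil) (.node 1 .nil
  .nil)) (.node 1 (.node 0 (.node 1 .nil .nil) (.node 1 .nil .nil)) .nil)) .nil)) .nil)) (.node
  1 (.node 0 (.node 1 (.node 0 (.node 1 (.node 1 .nil .nil) .nil) (.node 1 (.node 0 (.node 0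
  .nil .nil) .nil) .nil)) .nil) (.node 1 (.node 0 (.node 1 (.node 0 .nil .nil) .nil) .nil)
  .nil)) .nil)) .nil)) .nil)) (.node 1 (.node 0 (.node 0 (.node 0 (.node 0 (.node 0 (.node 0
  (.node 1 (.node 0 (.node 1 .nil .nil) .nil) .nil) (.node 1 (.node 0 (.node 1 .nil .nil) (.node
  1 (.node 0 .nil .nil) .nil)) .nil)) (.node 1 (.node 1 (.node 1 (.node 0 (.node 1 .nil .nil)
  .nil) .nil) .nil) .nil)) (.node 1 (.node 1 (.node 0 (.node 0 .nil .nil) (.node 1 (.node 0
  (.node 0 (.node 0 .nil .nil) .nil) (.node 1 (.node 0 .nil .nil) .nil)) .nil)) .nil) .nil))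
  (.node 1 (.node 0 (.node 0 (.node 1 (.node 0 (.node 0 (.node 0 .nil .nil) .nil) .nil) .nil)
  .nil) (.node 1 (.node 0 (.node 0 (.node 1 .nil .nil) (.node 1 .nil .nil)) (.node 1 (.node 0
  (.node 0 (.node 1 .nil .nil) .nil) (.node 1 (.node 0 .nil .nil) .nil)) .nil)) .nil)) .nil))
  (.node 1 (.node 0 (.node 0 (.node 1 (.node 0 (.node 0 (.node 1 .nil .nil) (.node 1 (.node 0
  .nil (.node 1 (.node 0 .nil .nil) .nil)) .nil)) (.node 1 (.node 1 .nil .nil) .nil)) .nil)
  (.node 1 (.node 0 (.node 0 (.node 0 .nil .nil) .nil) (.node 1 (.node 0 (.node 0 .nil (.node 1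
  (.node 1 .nil .nil) .nil)) .nil) .nil)) .nil)) (.node 1 (.node 0 (.node 0 (.node 1 (.node 0
  (.node 0 .nil (.node 1 (.node 1 .nil .nil) .nil)) (.node 1 .nil .nil)) .nil) (.node 1 .nil
  .nil)) (.node 1 (.node 0 (.node 0 (.node 0 .nil .nil) .nil) (.node 1 (.node 0 (.node 0 .nil
  .nil) .nil) .nil)) .nil)) .nil)) .nil)) .nil) .nil)) .nil)) .nil)) .nil)

/-- Root of class 0. -/
def cfgOctadSextetRep0 : List ℕ := [8409089, 3592, 557076, 1056898, 2097504, 4653056]

/-- Spanning tree of class 0. -/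
def cfgOctadSextetTree0 : OTree :=
  .node 0 (.node 0 (.node 0 (.node 0 (.node 0 (.node 0 (.node 0 .nil .nil) .nil) .nil) .nil)
  (.node 1 (.node 1 .nil .nil) .nil)) (.node 1 (.node 0 (.node 0 (.node 0 .nil .nil) .nil)
  (.node 1 (.node 0 (.node 1 (.node 0 .nil .nil) .nil) (.node 1 (.node 0 (.node 1 .nil .nil)
  (.node 1 .nil .nil)) .nil)) .nil)) .nil)) (.node 1 (.node 0 (.node 1 (.node 1 (.node 0 .nil
  .nil) .nil) .nil) (.node 1 (.node 0 (.node 0 (.node 1 (.node 0 .nil .nil) .nil) (.node 1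
  (.node 0 (.node 1 .nil .nil) .nil) .nil)) .nil) .nil)) .nil)

/-- Root of class 1. -/
def cfgOctadSextetRep1 : List ℕ := [8388615, 147496, 268544, 1082880, 2621632, 4268048]

/-- Spanning tree of class 1. -/
def cfgOctadSextetTree1 : OTree :=
  .node 0 (.node 0 (.node 0 (.node 0 (.node 0 (.node 0 (.node 0 (.node 0 (.node 0 (.node 1 .nil
  .nil) .nil) (.node 1 (.node 0 (.node 0 (.node 1 .nil .nil) .nil) (.node 1 .nil .nil)) .nil))
  (.node 1 (.node 0 (.node 0 .nil .nil) (.node 1 (.node 0 (.node 0 (.node 0 (.node 1 .nil .nil)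
  (.node 1 .nil .nil)) .nil) (.node 1 .nil .nil)) .nil)) .nil)) (.node 1 (.node 0 (.node 0
  (.node 1 (.node 0 (.node 1 .nil .nil) .nil) .nil) (.node 1 (.node 1 (.node 0 (.node 1 (.node 0
  .nil .nil) .nil) .nil) .nil) .nil)) (.node 1 (.node 0 .nil (.node 1 (.node 0 (.node 0 (.node 1
  .nil .nil) (.node 1 (.node 0 .nil .nil) .nil)) .nil) .nil)) .nil)) .nil)) (.node 1 (.node 0
  (.node 0 (.node 1 (.node 0 (.node 0 .nil (.node 1 .nil .nil)) (.node 1 .nil .nil)) .nil)
  (.node 1 (.node 0 (.node 0 (.node 0 .nil .nil) (.node 1 (.node 1 (.node 0 .nil (.node 1 (.node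
  0 .nil .nil) .nil)) .nil) .nil)) (.node 1 (.node 0 (.node 0 (.node 1 .nil .nil) (.node 1
  (.node 0 .nil (.node 1 .nil .nil)) .nil)) (.node 1 (.node 0 (.node 1 .nil .nil) .nil) .nil))
  .nil)) .nil)) (.node 1 (.node 0 (.node 0 (.node 0 .nil (.node 1 (.node 0 (.node 0 (.node 0
  (.node 0 .nil .nil) .nil) (.node 1 (.node 1 .nil .nil) .nil)) (.node 1 .nil .nil)) .nil))
  (.node 1 (.node 0 (.node 1 (.node 0 (.node 0 .nil .nil) .nil) .nil) (.node 1 (.node 0 (.node 1
  (.node 0 .nil .nil) .nil) (.node 1 (.node 0 (.node 1 .nil .nil) (.node 1 .nil .nil)) .nil))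
  .nil)) .nil)) (.node 1 (.node 1 .nil .nil) .nil)) .nil)) .nil)) (.node 1 (.node 0 (.node 0
  (.node 1 (.node 0 (.node 0 (.node 0 (.node 0 (.node 0 .nil .nil) .nil) (.node 1 (.node 0 .nil
  .nil) .nil)) (.node 1 (.node 0 (.node 0 (.node 0 .nil .nil) .nil) (.node 1 (.node 0 (.node 0
  .nil .nil) (.node 1 (.node 0 .nil .nil) .nil)) .nil)) .nil)) (.node 1 (.node 0 (.node 0 .nil
  (.node 1 (.node 0 (.node 0 .nil .nil) .nil) .nil)) .nil) .nil)) .nil) (.node 1 (.node 0 (.node
  1 (.node 0 (.node 0 (.node 0 .nil (.node 1 (.node 0 .nil .nil) .nil)) .nil) .nil) .nil) (.node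
  1 (.node 0 (.node 0 (.node 0 (.node 0 .nil .nil) .nil) (.node 1 (.node 0 .nil (.node 1 (.node
  0 (.node 0 .nil .nil) (.node 1 .nil .nil)) .nil)) .nil)) (.node 1 (.node 0 (.node 0 .nil
  (.node 1 (.node 0 (.node 1 .nil .nil) (.node 1 .nil .nil)) .nil)) .nil) .nil)) .nil)) .nil))
  (.node 1 (.node 0 (.node 0 (.node 1 (.node 0 (.node 0 .nil .nil) (.node 1 (.node 0 .nil .nil)
  .nil)) .nil) (.node 1 (.node 0 (.node 0 (.node 1 .nil .nil) (.node 1 (.node 1 (.node 0 .nil
  .nil) .nil) .nil)) (.node 1 (.node 0 .nil (.node 1 (.node 0 (.node 1 (.node 1 (.node 0 .nil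
  .nil) .nil) .nil) .nil) .nil)) .nil)) .nil)) (.node 1 (.node 0 (.node 0 (.node 0 (.node 0
  (.node 0 (.node 0 .nil (.node 1 .nil .nil)) (.node 1 .nil .nil)) (.node 1 (.node 1 .nil .nil)
  .nil)) .nil) (.node 1 (.node 1 (.node 0 .nil (.node 1 .nil .nil)) .nil) .nil)) (.node 1 (.node
  0 (.node 1 .nil .nil) .nil) .nil)) .nil)) .nil)) .nil)) (.node 1 (.node 0 (.node 0 (.node 0
  (.node 0 (.node 0 .nil (.node 1 (.node 0 (.node 1 (.node 0 (.node 0 .nil .nil) (.node 1 .nil
  .nil)) .nil) (.node 1 (.node 0 .nil (.node 1 (.node 0 (.node 1 .nil .nil) .nil) .nil)) .nil))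
  .nil)) (.node 1 (.node 1 (.node 0 (.node 0 .nil (.node 1 (.node 0 .nil (.node 1 (.node 0 .nil
  .nil) .nil)) .nil)) (.node 1 (.node 0 (.node 1 .nil .nil) .nil) .nil)) .nil) .nil)) (.node 1
  (.node 0 (.node 0 (.node 0 (.node 0 (.node 0 .nil .nil) .nil) (.node 1 (.node 0 (.node 1
  (.node 1 .nil .nil) .nil) (.node 1 (.node 0 (.node 0 (.node 1 .nil .nil) .nil) (.node 1 .nil
  .nil)) .nil)) .nil)) (.node 1 (.node 0 .nil .nil) .nil)) .nil) .nil)) (.node 1 (.node 0 (.node
  0 (.node 0 (.node 0 (.node 0 (.node 0 .nil .nil) .nil) .nil) (.node 1 (.node 0 (.node 0 (.node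
  1 .nil .nil) (.node 1 .nil .nil)) (.node 1 (.node 0 (.node 0 (.node 1 .nil .nil) (.node 1 .nil
  .nil)) (.node 1 (.node 0 (.node 1 .nil .nil) (.node 1 .nil .nil)) .nil)) .nil)) .nil)) .nil)
  (.node 1 (.node 0 (.node 1 (.node 0 .nil .nil) .nil) (.node 1 (.node 0 (.node 0 .nil (.node 1
  (.node 0 (.node 0 .nil .nil) (.node 1 (.node 1 .nil .nil) .nil)) .nil)) (.node 1 (.node 0 .nil
  .nil) .nil)) .nil)) .nil)) .nil)) (.node 1 (.node 0 (.node 0 (.node 0 (.node 0 (.node 0 (.node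
  1 (.node 1 (.node 1 .nil .nil) .nil) .nil) .nil) .nil) (.node 1 (.node 0 (.node 1 (.node 1
  (.node 0 (.node 0 .nil .nil) .nil) .nil) .nil) (.node 1 (.node 0 .nil .nil) .nil)) .nil))
  (.node 1 (.node 1 (.node 0 (.node 1 (.node 0 .nil (.node 1 (.node 1 (.node 1 .nil .nil) .nil)
  .nil)) .nil) (.node 1 .nil .nil)) .nil) .nil)) (.node 1 (.node 0 (.node 0 (.node 1 (.node 0
  (.node 0 (.node 1 (.node 1 .nil .nil) .nil) (.node 1 (.node 1 .nil .nil) .nil)) .nil) .nil)
  (.node 1 (.node 0 (.node 0 (.node 0 .nil .nil) (.node 1 (.node 0 .nil (.node 1 .nil .nil))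
  .nil)) (.node 1 .nil .nil)) .nil)) (.node 1 (.node 0 (.node 0 .nil (.node 1 .nil .nil)) .nil)
  .nil)) .nil)) .nil)) .nil)) (.node 1 (.node 0 (.node 0 (.node 0 (.node 0 (.node 0 (.node 1
  (.node 0 (.node 0 .nil (.node 1 (.node 0 .nil .nil) .nil)) (.node 1 .nil .nil)) .nil) (.node 1
  (.node 0 (.node 0 .nil .nil) (.node 1 (.node 0 (.node 0 .nil .nil) .nil) .nil)) .nil)) (.node
  1 (.node 1 (.node 1 (.node 0 .nil .nil) .nil) .nil) .nil)) (.node 1 (.node 0 (.node 0 (.node 1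
  (.node 1 .nil .nil) .nil) .nil) (.node 1 (.node 0 (.node 0 (.node 1 .nil .nil) (.node 1 (.node
  0 (.node 1 (.node 0 .nil (.node 1 (.node 1 .nil .nil) .nil)) .nil) (.node 1 (.node 0 (.node 0
  .nil .nil) (.node 1 .nil .nil)) .nil)) .nil)) (.node 1 (.node 0 (.node 0 (.node 0 (.node 0
  .nil (.node 1 .nil .nil)) (.node 1 (.node 1 .nil .nil) .nil)) (.node 1 (.node 1 .nil .nil)
  .nil)) (.node 1 .nil .nil)) .nil)) .nil)) .nil)) (.node 1 (.node 0 (.node 0 (.node 1 (.node 0
  (.node 0 (.node 0 (.node 0 .nil .nil) .nil) (.node 1 (.node 0 (.node 1 .nil .nil) (.node 1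
  (.node 0 .nil (.node 1 .nil .nil)) .nil)) .nil)) (.node 1 (.node 0 (.node 1 (.node 1 .nil
  .nil) .nil) .nil) .nil)) .nil) (.node 1 (.node 0 (.node 0 (.node 0 (.node 0 (.node 0 .nil
  .nil) .nil) (.node 1 (.node 0 (.node 1 .nil .nil) .nil) .nil)) .nil) (.node 1 (.node 0 (.node
  0 .nil (.node 1 (.node 0 .nil (.node 1 .nil .nil)) .nil)) (.node 1 .nil .nil)) .nil)) .nil))
  (.node 1 (.node 0 (.node 0 (.node 0 (.node 0 (.node 0 (.node 0 .nil .nil) .nil) .nil) (.node 1
  (.node 0 (.node 0 (.node 0 .nil (.node 1 .nil .nil)) .nil) (.node 1 .nil .nil)) .nil)) (.node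
  1 (.node 1 (.node 0 (.node 0 (.node 0 .nil .nil) (.node 1 .nil .nil)) (.node 1 .nil .nil))
  .nil) .nil)) (.node 1 (.node 0 (.node 0 (.node 0 (.node 0 .nil .nil) (.node 1 (.node 1 .nil
  .nil) .nil)) (.node 1 (.node 0 (.node 0 .nil (.node 1 (.node 1 .nil .nil) .nil)) (.node 1
  (.node 0 (.node 1 .nil .nil) (.node 1 (.node 0 .nil .nil) .nil)) .nil)) .nil)) (.node 1 (.node
  0 (.node 0 .nil (.node 1 (.node 1 (.node 0 .nil .nil) .nil) .nil)) .nil) .nil)) .nil)) .nil))
  .nil)) (.node 1 (.node 0 (.node 1 (.node 0 (.node 0 (.node 0 (.node 0 (.node 0 (.node 1 (.node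
  1 (.node 1 .nil .nil) .nil) .nil) .nil) .nil) (.node 1 (.node 0 (.node 0 .nil (.node 1 (.node
  0 .nil (.node 1 .nil .nil)) .nil)) .nil) .nil)) (.node 1 (.node 1 (.node 0 (.node 0 .nil
  (.node 1 (.node 1 .nil .nil) .nil)) (.node 1 (.node 1 .nil .nil) .nil)) .nil) .nil)) (.node 1
  (.node 0 (.node 1 (.node 0 (.node 0 (.node 0 .nil .nil) (.node 1 .nil .nil)) (.node 1 .nil
  .nil)) .nil) (.node 1 (.node 0 (.node 0 (.node 0 .nil .nil) (.node 1 (.node 0 (.node 0 .nil
  .nil) .nil) .nil)) .nil) .nil)) .nil)) .nil) (.node 1 (.node 0 (.node 1 (.node 0 (.node 0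
  (.node 0 (.node 0 .nil .nil) .nil) (.node 1 (.node 0 .nil (.node 1 (.node 0 (.node 0 .nil
  .nil) (.node 1 .nil .nil)) .nil)) .nil)) (.node 1 (.node 0 (.node 0 (.node 0 .nil .nil) (.node
  1 .nil .nil)) .nil) .nil)) .nil) (.node 1 (.node 0 (.node 0 (.node 0 (.node 0 .nil .nil)
  (.node 1 (.node 0 (.node 1 (.node 0 .nil .nil) .nil) (.node 1 (.node 1 (.node 1 .nil .nil)
  .nil) .nil)) .nil)) (.node 1 (.node 1 (.node 0 (.node 0 .nil (.node 1 .nil .nil)) (.node 1
  (.node 1 .nil .nil) .nil)) .nil) .nil)) .nil) .nil)) .nil)) .nil)) .nil)) (.node 1 (.node 0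
  (.node 0 (.node 0 (.node 0 (.node 0 (.node 0 (.node 0 (.node 0 (.node 0 (.node 1 .nil .nil)
  (.node 1 (.node 0 (.node 1 .nil .nil) .nil) .nil)) (.node 1 .nil .nil)) (.node 1 (.node 0
  (.node 0 (.node 1 (.node 1 .nil .nil) .nil) .nil) (.node 1 (.node 0 (.node 0 .nil (.node 1
  .nil .nil)) (.node 1 (.node 0 .nil .nil) .nil)) .nil)) .nil)) (.node 1 (.node 0 (.node 0
  (.node 1 .nil .nil) (.node 1 (.node 1 (.node 0 .nil .nil) .nil) .nil)) (.node 1 (.node 0
  (.node 1 (.node 1 (.node 0 .nil .nil) .nil) .nil) .nil) .nil)) .nil)) .nil) (.node 1 (.node 1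
  (.node 1 (.node 0 (.node 0 (.node 0 (.node 1 .nil .nil) (.node 1 (.node 0 .nil (.node 1 .nil
  .nil)) .nil)) .nil) (.node 1 (.node 0 (.node 1 (.node 1 .nil .nil) .nil) .nil) .nil)) .nil)
  .nil) .nil)) (.node 1 (.node 0 (.node 0 (.node 0 .nil (.node 1 (.node 0 (.node 0 (.node 1
  (.node 1 (.node 0 .nil .nil) .nil) .nil) (.node 1 .nil .nil)) (.node 1 (.node 0 .nil (.node 1
  .nil .nil)) .nil)) .nil)) (.node 1 (.node 0 (.node 0 (.node 1 (.node 0 .nil (.node 1 .nil
  .nil)) .nil) (.node 1 (.node 0 .nil .nil) .nil)) (.node 1 (.node 0 (.node 0 (.node 1 .nil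
  .nil) (.node 1 (.node 0 (.node 0 .nil .nil) .nil) .nil)) (.node 1 (.node 0 (.node 1 (.node 1
  .nil .nil) .nil) .nil) .nil)) .nil)) .nil)) (.node 1 (.node 0 (.node 0 (.node 0 (.node 0 .nil
  (.node 1 .nil .nil)) (.node 1 (.node 0 (.node 0 .nil .nil) (.node 1 (.node 0 .nil .nil) .nil))
  .nil)) (.node 1 (.node 1 (.node 1 (.node 0 (.node 0 .nil .nil) .nil) .nil) .nil) .nil)) (.node
  1 (.node 1 (.node 0 (.node 0 .nil .nil) .nil) .nil) .nil)) .nil)) .nil)) (.node 1 (.node 1
  (.node 0 (.node 0 (.node 0 (.node 0 (.node 1 .nil .nil) .nil) (.node 1 (.node 0 (.node 0 .nil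
  (.node 1 (.node 1 (.node 0 .nil .nil) .nil) .nil)) (.node 1 (.node 0 .nil (.node 1 (.node 0
  .nil .nil) .nil)) .nil)) .nil)) (.node 1 (.node 0 (.node 0 (.node 0 (.node 0 (.node 1 (.node 1
  .nil .nil) .nil) .nil) (.node 1 (.node 0 (.node 0 .nil .nil) (.node 1 (.node 0 .nil (.node 1
  .nil .nil)) .nil)) .nil)) (.node 1 (.node 1 (.node 0 .nil (.node 1 (.node 1 .nil .nil) .nil))
  .nil) .nil)) (.node 1 (.node 0 (.node 0 (.node 1 (.node 0 .nil .nil) .nil) .nil) (.node 1
  (.node 1 .nil .nil) .nil)) .nil)) .nil)) (.node 1 (.node 0 (.node 0 (.node 0 (.node 0 (.node 0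
  .nil (.node 1 .nil .nil)) .nil) (.node 1 (.node 0 (.node 1 (.node 0 (.node 0 .nil (.node 1
  .nil .nil)) .nil) .nil) .nil) .nil)) (.node 1 (.node 1 (.node 0 (.node 0 (.node 0 .nil .nil)
  .nil) .nil) .nil) .nil)) .nil) .nil)) .nil) .nil)) (.node 1 (.node 0 (.node 0 (.node 0 (.node
  0 (.node 0 .nil (.node 1 (.node 0 (.node 0 (.node 1 .nil .nil) .nil) (.node 1 (.node 0 (.node
  0 (.node 0 .nil .nil) .nil) .nil) .nil)) .nil)) .nil) (.node 1 (.node 0 (.node 0 (.node 0
  (.node 0 (.node 1 (.node 1 .nil .nil) .nil) .nil) (.node 1 (.node 0 (.node 0 (.node 0 .nil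
  .nil) .nil) .nil) .nil)) (.node 1 (.node 1 (.node 0 (.node 0 .nil (.node 1 .nil .nil)) .nil)
  .nil) .nil)) (.node 1 (.node 1 (.node 0 (.node 1 (.node 1 (.node 1 .nil .nil) .nil) .nil)
  .nil) .nil) .nil)) .nil)) (.node 1 (.node 0 (.node 0 (.node 0 .nil (.node 1 (.node 0 (.node 0
  (.node 0 .nil .nil) (.node 1 (.node 0 .nil (.node 1 .nil .nil)) .nil)) (.node 1 (.node 1 .nil
  .nil) .nil)) .nil)) (.node 1 (.node 0 (.node 0 (.node 1 (.node 1 (.node 1 .nil .nil) .nil)
  .nil) (.node 1 (.node 0 (.node 0 (.node 0 .nil .nil) .nil) (.node 1 (.node 0 (.node 0 .nil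
  .nil) .nil) .nil)) .nil)) (.node 1 (.node 0 (.node 0 (.node 0 .nil .nil) (.node 1 .nil .nil))
  (.node 1 (.node 0 (.node 1 (.node 1 (.node 1 .nil .nil) .nil) .nil) .nil) .nil)) .nil)) .nil))
  (.node 1 (.node 0 (.node 0 (.node 0 .nil (.node 1 .nil .nil)) (.node 1 (.node 0 (.node 0
  (.node 0 .nil (.node 1 .nil .nil)) .nil) (.node 1 (.node 0 (.node 0 .nil (.node 1 .nil .nil))
  (.node 1 (.node 0 (.node 0 .nil .nil) .nil) .nil)) .nil)) .nil)) (.node 1 (.node 1 (.node 0
  (.node 0 (.node 1 (.node 1 .nil .nil) .nil) .nil) .nil) .nil) .nil)) .nil)) .nil)) (.node 1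
  (.node 0 (.node 0 (.node 0 (.node 0 (.node 0 (.node 1 (.node 1 .nil .nil) .nil) (.node 1
  (.node 1 (.node 1 (.node 1 .nil .nil) .nil) .nil) .nil)) .nil) (.node 1 (.node 0 (.node 0 .nil
  (.node 1 (.node 0 (.node 1 .nil .nil) .nil) .nil)) .nil) .nil)) (.node 1 (.node 0 .nil (.node
  1 (.node 0 (.node 0 (.node 0 (.node 1 .nil .nil) (.node 1 .nil .nil)) (.node 1 .nil .nil))
  (.node 1 (.node 1 .nil .nil) .nil)) .nil)) .nil)) (.node 1 (.node 0 (.node 0 (.node 0 (.node 0
  (.node 0 .nil .nil) (.node 1 .nil .nil)) (.node 1 (.node 0 (.node 1 (.node 0 .nil (.node 1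
  .nil .nil)) .nil) (.node 1 (.node 0 (.node 1 .nil .nil) (.node 1 (.node 0 .nil (.node 1 .nil
  .nil)) .nil)) .nil)) .nil)) (.node 1 (.node 1 (.node 0 (.node 0 (.node 0 (.node 0 .nil .nil)
  (.node 1 (.node 0 .nil .nil) .nil)) .nil) .nil) .nil) .nil)) .nil) .nil)) .nil)) .nil)) .nil)

/-- Root of class 2. -/
def cfgOctadSextetRep2 : List ℕ := [8388622, 147489, 294992, 537088, 2165760, 5243264]

/-- Spanning tree of class 2. -/
def cfgOctadSextetTree2 : OTree :=
  .node 0 (.node 0 (.node 0 (.node 0 (.node 0 (.node 0 (.node 0 (.node 0 .nil (.node 1 (.node 0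
  (.node 0 .nil (.node 1 (.node 0 (.node 1 .nil .nil) (.node 1 .nil .nil)) .nil)) (.node 1
  (.node 0 (.node 0 .nil .nil) (.node 1 .nil .nil)) .nil)) .nil)) .nil) (.node 1 (.node 0 (.node
  0 (.node 1 (.node 1 (.node 0 .nil .nil) .nil) .nil) (.node 1 (.node 0 (.node 0 (.node 1 .nil
  .nil) (.node 1 .nil .nil)) (.node 1 (.node 0 (.node 0 .nil .nil) .nil) .nil)) .nil)) (.node 1
  (.node 0 .nil .nil) .nil)) .nil)) (.node 1 (.node 0 (.node 0 (.node 1 (.node 0 (.node 0 (.node
  0 (.node 1 (.node 1 .nil .nil) .nil) .nil) (.node 1 (.node 0 .nil .nil) .nil)) .nil) .nil)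
  (.node 1 (.node 0 (.node 0 (.node 0 (.node 0 (.node 0 .nil .nil) (.node 1 .nil .nil)) (.node 1
  (.node 1 .nil .nil) .nil)) (.node 1 (.node 1 (.node 0 (.node 0 .nil .nil) .nil) .nil) .nil))
  (.node 1 (.node 0 .nil (.node 1 (.node 1 (.node 0 .nil .nil) .nil) .nil)) .nil)) .nil)) (.node
  1 (.node 0 (.node 0 (.node 0 (.node 0 .nil (.node 1 (.node 1 .nil .nil) .nil)) (.node 1 (.node
  0 (.node 0 (.node 0 .nil .nil) .nil) (.node 1 (.node 0 (.node 1 .nil .nil) (.node 1 .nil
  .nil)) .nil)) .nil)) (.node 1 (.node 0 (.node 1 (.node 0 .nil (.node 1 .nil .nil)) .nil)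
  (.node 1 (.node 1 (.node 0 (.node 1 .nil .nil) .nil) .nil) .nil)) .nil)) (.node 1 (.node 0
  (.node 0 .nil .nil) (.node 1 (.node 0 (.node 0 (.node 0 .nil .nil) (.node 1 (.node 0 .nil
  (.node 1 (.node 0 (.node 0 .nil .nil) .nil) .nil)) .nil)) .nil) .nil)) .nil)) .nil)) .nil))
  (.node 1 (.node 0 (.node 0 (.node 1 (.node 1 (.node 0 (.node 1 .nil .nil) (.node 1 (.node 0
  (.node 0 .nil (.node 1 .nil .nil)) (.node 1 .nil .nil)) .nil)) .nil) .nil) (.node 1 (.node 1
  (.node 0 (.node 0 (.node 0 .nil .nil) (.node 1 (.node 0 .nil (.node 1 (.node 0 .nil .nil)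
  .nil)) .nil)) (.node 1 (.node 0 .nil (.node 1 (.node 0 .nil .nil) .nil)) .nil)) .nil) .nil))
  (.node 1 (.node 0 (.node 0 (.node 1 (.node 1 (.node 0 (.node 1 (.node 0 .nil .nil) .nil)
  (.node 1 .nil .nil)) .nil) .nil) (.node 1 (.node 0 (.node 0 (.node 0 (.node 0 .nil (.node 1
  .nil .nil)) (.node 1 (.node 0 .nil (.node 1 (.node 0 .nil .nil) .nil)) .nil)) (.node 1 (.node
  0 .nil (.node 1 (.node 1 .nil .nil) .nil)) .nil)) (.node 1 (.node 0 (.node 1 (.node 1 (.node 0
  .nil .nil) .nil) .nil) (.node 1 (.node 0 (.node 0 .nil .nil) (.node 1 (.node 0 .nil .nil)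
  .nil)) .nil)) .nil)) .nil)) (.node 1 (.node 0 (.node 0 (.node 0 (.node 1 (.node 1 .nil .nil)
  .nil) (.node 1 (.node 0 .nil (.node 1 .nil .nil)) .nil)) (.node 1 (.node 1 (.node 0 (.node 0
  .nil .nil) (.node 1 (.node 0 .nil .nil) .nil)) .nil) .nil)) .nil) .nil)) .nil)) .nil)) (.node
  1 (.node 0 (.node 0 (.node 1 (.node 0 (.node 0 (.node 0 .nil (.node 1 (.node 0 (.node 1 .nil
  .nil) .nil) .nil)) (.node 1 (.node 0 (.node 0 (.node 0 (.node 1 .nil .nil) (.node 1 .nil
  .nil)) (.node 1 .nil .nil)) (.node 1 (.node 0 (.node 0 .nil .nil) .nil) .nil)) .nil)) (.node 1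
  (.node 0 (.node 0 (.node 0 (.node 0 .nil (.node 1 .nil .nil)) (.node 1 .nil .nil)) (.node 1
  .nil .nil)) (.node 1 (.node 0 .nil (.node 1 (.node 0 (.node 0 (.node 0 .nil .nil) (.node 1
  .nil .nil)) .nil) .nil)) .nil)) .nil)) .nil) (.node 1 (.node 1 (.node 0 (.node 0 (.node 1 .nil
  .nil) (.node 1 (.node 0 .nil .nil) .nil)) (.node 1 (.node 0 (.node 0 .nil (.node 1 (.node 0
  (.node 0 .nil .nil) .nil) .nil)) (.node 1 (.node 0 (.node 0 .nil (.node 1 (.node 0 (.node 0
  .nil .nil) (.node 1 .nil .nil)) .nil)) .nil) .nil)) .nil)) .nil) .nil)) (.node 1 (.node 0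
  (.node 0 (.node 0 (.node 0 (.node 0 (.node 0 (.node 0 .nil (.node 1 .nil .nil)) .nil) .nil)
  (.node 1 (.node 1 (.node 0 .nil .nil) .nil) .nil)) (.node 1 (.node 1 (.node 0 (.node 0 .nil
  .nil) (.node 1 (.node 0 .nil .nil) .nil)) .nil) .nil)) (.node 1 (.node 0 (.node 0 (.node 0
  (.node 1 .nil .nil) (.node 1 .nil .nil)) (.node 1 (.node 0 .nil (.node 1 (.node 1 (.node 1
  .nil .nil) .nil) .nil)) .nil)) (.node 1 (.node 0 (.node 1 (.node 0 .nil .nil) .nil) (.node 1
  (.node 0 (.node 0 .nil (.node 1 (.node 1 .nil .nil) .nil)) (.node 1 .nil .nil)) .nil)) .nil))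
  .nil)) (.node 1 (.node 0 (.node 0 (.node 0 (.node 0 (.node 0 (.node 0 (.node 1 .nil .nil)
  (.node 1 .nil .nil)) (.node 1 (.node 0 .nil (.node 1 (.node 1 .nil .nil) .nil)) .nil)) (.node
  1 (.node 1 (.node 1 .nil .nil) .nil) .nil)) (.node 1 (.node 1 (.node 1 .nil .nil) .nil) .nil))
  (.node 1 (.node 0 (.node 0 (.node 1 (.node 0 .nil (.node 1 (.node 0 .nil .nil) .nil)) .nil)
  (.node 1 (.node 0 (.node 1 .nil .nil) .nil) .nil)) (.node 1 (.node 0 (.node 1 .nil .nil)
  (.node 1 (.node 1 .nil .nil) .nil)) .nil)) .nil)) (.node 1 (.node 0 (.node 0 (.node 0 (.node 1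
  (.node 1 .nil .nil) .nil) .nil) (.node 1 (.node 1 (.node 0 (.node 0 .nil .nil) (.node 1 .nil
  .nil)) .nil) .nil)) .nil) .nil)) .nil)) .nil)) .nil)) (.node 1 (.node 0 (.node 0 (.node 0
  (.node 0 (.node 0 (.node 0 (.node 0 (.node 0 (.node 1 (.node 1 .nil .nil) .nil) (.node 1
  (.node 0 .nil (.node 1 (.node 0 .nil .nil) .nil)) .nil)) (.node 1 (.node 1 (.node 0 .nil .nil)
  .nil) .nil)) (.node 1 (.node 0 (.node 0 .nil (.node 1 (.node 1 .nil .nil) .nil)) (.node 1
  (.node 0 (.node 1 .nil .nil) .nil) .nil)) .nil)) .nil) .nil) (.node 1 (.node 0 (.node 0 (.node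
  0 .nil (.node 1 (.node 1 (.node 0 (.node 0 .nil .nil) .nil) .nil) .nil)) (.node 1 (.node 0
  (.node 0 .nil .nil) (.node 1 (.node 0 (.node 0 .nil .nil) (.node 1 (.node 0 (.node 0 .nil
  .nil) (.node 1 .nil .nil)) .nil)) .nil)) .nil)) (.node 1 (.node 0 (.node 0 (.node 1 (.node 0
  .nil (.node 1 (.node 1 (.node 0 .nil .nil) .nil) .nil)) .nil) (.node 1 (.node 0 (.node 0 .nil
  (.node 1 (.node 0 .nil .nil) .nil)) (.node 1 (.node 0 (.node 1 (.node 0 .nil .nil) .nil) .nil)
  .nil)) .nil)) (.node 1 (.node 0 (.node 0 .nil (.node 1 (.node 0 (.node 0 .nil .nil) (.node 1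
  .nil .nil)) .nil)) (.node 1 (.node 0 .nil .nil) .nil)) .nil)) .nil)) .nil)) (.node 1 (.node 0
  (.node 0 (.node 1 (.node 0 (.node 0 (.node 1 .nil .nil) .nil) (.node 1 (.node 0 (.node 1 .nil
  .nil) .nil) .nil)) .nil) (.node 1 (.node 0 (.node 0 (.node 0 (.node 1 .nil .nil) (.node 1
  (.node 0 (.node 1 .nil .nil) (.node 1 (.node 0 .nil .nil) .nil)) .nil)) (.node 1 (.node 0
  (.node 0 (.node 0 (.node 0 .nil (.node 1 .nil .nil)) .nil) .nil) (.node 1 (.node 0 .nil .nil)
  .nil)) .nil)) (.node 1 (.node 0 (.node 0 (.node 0 (.node 1 (.node 1 .nil .nil) .nil) (.node 1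
  .nil .nil)) (.node 1 .nil .nil)) (.node 1 (.node 0 (.node 0 .nil (.node 1 .nil .nil)) .nil)
  .nil)) .nil)) .nil)) (.node 1 (.node 0 (.node 0 (.node 0 (.node 0 (.node 0 .nil .nil) (.node 1
  .nil .nil)) (.node 1 (.node 0 (.node 0 (.node 0 (.node 1 .nil .nil) .nil) (.node 1 (.node 1
  .nil .nil) .nil)) .nil) .nil)) (.node 1 (.node 0 (.node 0 (.node 0 (.node 0 .nil (.node 1 .nil
  .nil)) .nil) (.node 1 .nil .nil)) (.node 1 (.node 1 .nil .nil) .nil)) .nil)) (.node 1 (.node 0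
  (.node 0 (.node 0 (.node 1 .nil .nil) .nil) (.node 1 (.node 1 (.node 0 .nil (.node 1 .nil
  .nil)) .nil) .nil)) (.node 1 .nil .nil)) .nil)) .nil)) .nil)) (.node 1 (.node 0 (.node 0
  (.node 1 (.node 0 (.node 0 (.node 0 (.node 1 .nil .nil) (.node 1 (.node 0 .nil (.node 1 .nil
  .nil)) .nil)) .nil) (.node 1 (.node 1 .nil .nil) .nil)) .nil) (.node 1 (.node 0 (.node 0
  (.node 0 (.node 0 .nil (.node 1 (.node 1 (.node 1 .nil .nil) .nil) .nil)) (.node 1 (.node 0
  (.node 1 .nil .nil) .nil) .nil)) (.node 1 (.node 0 (.node 0 .nil (.node 1 .nil .nil)) (.node 1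
  (.node 0 .nil (.node 1 (.node 0 .nil .nil) .nil)) .nil)) .nil)) .nil) .nil)) (.node 1 (.node 0
  (.node 0 (.node 0 (.node 0 (.node 0 .nil (.node 1 .nil .nil)) (.node 1 (.node 1 (.node 1
  (.node 0 .nil (.node 1 .nil .nil)) .nil) .nil) .nil)) (.node 1 (.node 0 (.node 0 (.node 1 .nil
  .nil) (.node 1 (.node 0 .nil (.node 1 (.node 0 .nil (.node 1 .nil .nil)) .nil)) .nil)) (.node
  1 (.node 1 (.node 0 (.node 0 .nil .nil) (.node 1 .nil .nil)) .nil) .nil)) .nil)) (.node 1
  (.node 1 (.node 0 (.node 0 (.node 0 .nil (.node 1 (.node 0 .nil .nil) .nil)) (.node 1 .nil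
  .nil)) (.node 1 (.node 1 .nil .nil) .nil)) .nil) .nil)) (.node 1 (.node 0 (.node 0 (.node 1
  .nil .nil) (.node 1 (.node 0 (.node 0 (.node 1 (.node 0 .nil .nil) .nil) (.node 1 (.node 1
  (.node 0 .nil .nil) .nil) .nil)) (.node 1 (.node 1 (.node 0 (.node 0 (.node 1 .nil .nil) .nil)
  .nil) .nil) .nil)) .nil)) .nil) .nil)) .nil)) .nil)) .nil)) (.node 1 (.node 0 (.node 0 (.node
  1 (.node 0 (.node 0 (.node 0 (.node 1 (.node 1 (.node 0 (.node 0 .nil .nil) .nil) .nil) .nil)
  .nil) (.node 1 (.node 0 (.node 0 (.node 0 (.node 0 .nil .nil) .nil) .nil) (.node 1 (.node 0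
  (.node 1 .nil .nil) (.node 1 (.node 0 (.node 0 (.node 1 .nil .nil) .nil) (.node 1 .nil .nil))
  .nil)) .nil)) .nil)) (.node 1 (.node 0 .nil .nil) .nil)) .nil) (.node 1 (.node 0 (.node 0
  (.node 0 (.node 0 (.node 0 (.node 0 (.node 0 .nil (.node 1 .nil .nil)) (.node 1 (.node 0 .nil
  (.node 1 (.node 0 .nil (.node 1 .nil .nil)) .nil)) .nil)) (.node 1 (.node 0 (.node 0 (.node 1
  .nil .nil) .nil) .nil) .nil)) (.node 1 (.node 1 (.node 0 (.node 1 .nil .nil) (.node 1 (.node 1
  .nil .nil) .nil)) .nil) .nil)) (.node 1 (.node 0 (.node 0 (.node 0 (.node 0 (.node 0 (.node 1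
  .nil .nil) .nil) (.node 1 .nil .nil)) (.node 1 .nil .nil)) (.node 1 (.node 0 (.node 0 .nil
  .nil) (.node 1 .nil .nil)) .nil)) (.node 1 (.node 0 .nil (.node 1 (.node 1 (.node 0 .nil .nil)
  .nil) .nil)) .nil)) .nil)) (.node 1 (.node 0 (.node 0 (.node 0 (.node 0 (.node 1 (.node 0 .nil
  .nil) .nil) (.node 1 (.node 1 (.node 0 (.node 1 .nil .nil) (.node 1 (.node 1 .nil .nil) .nil))
  .nil) .nil)) (.node 1 (.node 0 .nil (.node 1 (.node 0 (.node 0 (.node 0 .nil .nil) .nil) .nil)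
  .nil)) .nil)) (.node 1 (.node 0 (.node 0 .nil (.node 1 (.node 1 .nil .nil) .nil)) (.node 1
  (.node 0 (.node 1 (.node 0 .nil .nil) .nil) (.node 1 (.node 0 (.node 1 .nil .nil) (.node 1
  .nil .nil)) .nil)) .nil)) .nil)) (.node 1 (.node 0 (.node 1 (.node 0 (.node 1 (.node 1 .nil
  .nil) .nil) .nil) .nil) (.node 1 (.node 0 (.node 0 (.node 1 .nil .nil) .nil) (.node 1 (.node 0
  (.node 1 .nil .nil) .nil) .nil)) .nil)) .nil)) .nil)) (.node 1 (.node 0 (.node 0 (.node 0
  (.node 0 (.node 1 (.node 0 (.node 0 .nil (.node 1 .nil .nil)) .nil) .nil) (.node 1 .nil .nil))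
  (.node 1 (.node 0 (.node 0 (.node 0 (.node 0 .nil .nil) .nil) .nil) (.node 1 (.node 1 (.node 0
  (.node 1 .nil .nil) .nil) .nil) .nil)) .nil)) (.node 1 (.node 0 (.node 0 (.node 1 (.node 0
  .nil .nil) .nil) (.node 1 (.node 0 (.node 0 .nil .nil) (.node 1 .nil .nil)) .nil)) (.node 1
  (.node 1 (.node 0 (.node 0 .nil .nil) (.node 1 .nil .nil)) .nil) .nil)) .nil)) (.node 1 (.node
  0 (.node 0 (.node 0 (.node 0 .nil (.node 1 .nil .nil)) .nil) (.node 1 (.node 1 .nil .nil)
  .nil)) .nil) .nil)) .nil)) .nil)) (.node 1 (.node 0 (.node 0 (.node 0 (.node 0 (.node 0 (.node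
  1 (.node 0 .nil (.node 1 (.node 0 .nil .nil) .nil)) .nil) .nil) (.node 1 (.node 1 (.node 0
  (.node 0 (.node 1 .nil .nil) (.node 1 (.node 0 .nil (.node 1 (.node 0 .nil .nil) .nil)) .nil))
  .nil) .nil) .nil)) (.node 1 (.node 0 (.node 0 (.node 0 (.node 0 .nil (.node 1 .nil .nil))
  (.node 1 (.node 0 .nil (.node 1 (.node 0 .nil (.node 1 .nil .nil)) .nil)) .nil)) (.node 1
  (.node 0 (.node 1 (.node 0 .nil (.node 1 .nil .nil)) .nil) (.node 1 (.node 1 .nil .nil) .nil))
  .nil)) (.node 1 (.node 0 (.node 0 (.node 0 .nil .nil) (.node 1 (.node 0 (.node 0 .nil .nil)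
  (.node 1 .nil .nil)) .nil)) (.node 1 (.node 0 (.node 1 (.node 0 (.node 0 .nil .nil) (.node 1
  .nil .nil)) .nil) (.node 1 (.node 0 .nil .nil) .nil)) .nil)) .nil)) .nil)) (.node 1 (.node 0
  (.node 0 (.node 0 (.node 0 (.node 0 (.node 0 .nil (.node 1 (.node 0 .nil .nil) .nil)) (.node 1
  .nil .nil)) (.node 1 .nil .nil)) (.node 1 (.node 0 (.node 1 (.node 0 .nil .nil) .nil) (.node 1
  (.node 0 (.node 0 .nil .nil) (.node 1 (.node 1 .nil .nil) .nil)) .nil)) .nil)) (.node 1 (.node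
  0 (.node 1 (.node 0 .nil (.node 1 .nil .nil)) .nil) (.node 1 (.node 1 (.node 0 (.node 1 .nil
  .nil) (.node 1 .nil .nil)) .nil) .nil)) .nil)) (.node 1 (.node 0 (.node 1 (.node 0 .nil (.node
  1 (.node 0 (.node 0 (.node 1 (.node 1 .nil .nil) .nil) .nil) (.node 1 (.node 0 .nil .nil)
  .nil)) .nil)) .nil) (.node 1 (.node 0 (.node 0 (.node 1 (.node 0 .nil .nil) .nil) .nil) .nil)
  .nil)) .nil)) .nil)) (.node 1 (.node 0 (.node 0 (.node 0 (.node 0 (.node 0 (.node 0 (.node 0
  (.node 0 .nil .nil) (.node 1 (.node 1 (.node 0 .nil .nil) .nil) .nil)) .nil) (.node 1 (.node 1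
  (.node 0 .nil (.node 1 .nil .nil)) .nil) .nil)) (.node 1 .nil .nil)) (.node 1 (.node 0 (.node
  0 (.node 0 (.node 0 .nil (.node 1 (.node 1 .nil .nil) .nil)) (.node 1 (.node 1 (.node 1 (.node
  0 .nil (.node 1 .nil .nil)) .nil) .nil) .nil)) (.node 1 (.node 0 (.node 0 (.node 1 .nil .nil)
  .nil) .nil) .nil)) (.node 1 (.node 1 (.node 1 .nil .nil) .nil) .nil)) .nil)) (.node 1 (.node 0
  (.node 0 (.node 0 (.node 0 (.node 0 (.node 1 .nil .nil) .nil) (.node 1 .nil .nil)) (.node 1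
  (.node 0 (.node 0 (.node 0 .nil .nil) .nil) (.node 1 (.node 1 .nil .nil) .nil)) .nil)) (.node
  1 (.node 0 (.node 0 (.node 1 .nil .nil) (.node 1 (.node 0 .nil (.node 1 (.node 0 .nil .nil)
  .nil)) .nil)) (.node 1 (.node 0 (.node 0 (.node 0 .nil .nil) .nil) .nil) .nil)) .nil)) (.node
  1 (.node 0 (.node 0 (.node 0 (.node 1 .nil .nil) (.node 1 (.node 0 (.node 1 .nil .nil) .nil)
  .nil)) (.node 1 .nil .nil)) (.node 1 (.node 0 (.node 0 .nil .nil) (.node 1 .nil .nil)) .nil))
  .nil)) .nil)) (.node 1 (.node 0 (.node 0 (.node 0 (.node 0 (.node 0 (.node 0 .nil .nil) .nil)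
  (.node 1 .nil .nil)) .nil) (.node 1 (.node 0 (.node 0 .nil (.node 1 (.node 0 (.node 0 .nil
  .nil) (.node 1 .nil .nil)) .nil)) (.node 1 (.node 0 (.node 0 (.node 1 (.node 1 .nil .nil)
  .nil) (.node 1 (.node 1 .nil .nil) .nil)) (.node 1 (.node 0 (.node 0 (.node 0 .nil .nil)
  (.node 1 .nil .nil)) .nil) .nil)) .nil)) .nil)) .nil) .nil)) .nil)) .nil)) .nil)

end CfsgLib.M24Classes
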