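import Cfsg.Agent.M24Classes.OrbitHelpers
import Cfsg.Agent.M24Classes.AtOctad

/-!
Certified orbits for this configuration.
-/

set_option autoImplicit false

namespace CfsgLib.M24Classes

open Cfsg CfsgLib.Mathieu
open scoped Pointwise

theorem octad_gens : cfgOctadTabs.all isM24Tab = true ∧
    (cfgOctadTabs.zip cfgOctadBytes).all (fun p => bytesOK p.1 p.2) = true ∧ cfgOctadTabs.length = cfgOctadBytes.length ∧
    cfgOctadTabs.all (fun t => push t 24 (cfgOctad.headD 0) == cfgOctad.headD 0) = true ∧ cfgOctad.headD 0 < 2 ^ 24 := by decide +kernel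

theorem octadTrio_check0 : classOK cfgOctadBytes trioA 1048573 trioList (listInv [cfgOctad.headD 0])
    cfgOctadTrioRep0 cfgOctadTrioTree0 64 15 = true := by decide +kernel

theorem octadTrio_check1 : classOK cfgOctadBytes trioA 1048573 trioList (listInv [cfgOctad.headD 0])
    cfgOctadTrioRep1 cfgOctadTrioTree1 32 420 = true := by decide +kernel

theorem octadTrio_check2 : classOK cfgOctadBytes trioA 1048573 trioList (listInv [cfgOctad.headD 0])
    cfgOctadTrioRep2 cfgOctadTrioTree2 24 3360 = true := by decide +kernel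

theorem octadTrio_all : trioList.all (fun l => [64, 32, 24].contains ((listInv [cfgOctad.headD 0]) l)) = true := by decide +kernel

theorem octadTrio_orbits {σ : Equiv.Perm GolayPt} (hσ : σ ∈ M24) {x : Finset GolayPt}
    (hx : σ • (setOf24 (cfgOctad.headD 0)) = x) :
    ∃ X0 ∈ trios, ∃ X1 ∈ trios, ∃ X2 ∈ trios,
      (MulAction.orbit ↥(MulAction.stabilizer M24 x) X0).ncard = 15 ∧
      (MulAction.orbit ↥(MulAction.stabilizer M24 x) X1).ncard = 420 ∧
      (MulAction.orbit ↥(MulAction.stabilizer M24 x) X2).ncard = 3360 ∧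
      trios = MulAction.orbit ↥(MulAction.stabilizer M24 x) X0 ∪ MulAction.orbit ↥(MulAction.stabilizer M24 x) X1 ∪ MulAction.orbit ↥(MulAction.stabilizer M24 x) X2 := by
  obtain ⟨X0, hX0, c0, e0⟩ := orbit_class trioListed (setInvar id) (setInvar_smul trioListed) (setInvar_list trioListed octad_gens.2.2.2.2)
    (gensOK_set octad_gens.2.2.2.2 octad_gens.1 octad_gens.2.1 octad_gens.2.2.1 octad_gens.2.2.2.1) octadTrio_check0 hσ hx
  obtain ⟨X1, hX1, c1, e1⟩ := orbit_class trioListed (setInvar id) (setInvar_smul trioListed) (setInvar_list trioListed octad_gens.2.2.2.2)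
    (gensOK_set octad_gens.2.2.2.2 octad_gens.1 octad_gens.2.1 octad_gens.2.2.1 octad_gens.2.2.2.1) octadTrio_check1 hσ hx
  obtain ⟨X2, hX2, c2, e2⟩ := orbit_class trioListed (setInvar id) (setInvar_smul trioListed) (setInvar_list trioListed octad_gens.2.2.2.2)
    (gensOK_set octad_gens.2.2.2.2 octad_gens.1 octad_gens.2.1 octad_gens.2.2.1 octad_gens.2.2.2.1) octadTrio_check2 hσ hx
  exact ⟨X0, hX0, X1, hX1, X2, hX2, c0, c1, c2, union3 (fun b => setInvar id b x) e0 e1 e2
    (class_cover trioListed (setInvar id) (setInvar_smul trioListed) (setInvar_list trioListed octad_gens.2.2.2.2) octadTrio_all hσ hx)⟩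

theorem octadSextet_check0 : classOK cfgOctadBytes sextA 262139 sextetData (listInv [cfgOctad.headD 0])
    cfgOctadSextetRep0 cfgOctadSextetTree0 32 35 = true := by decide +kernel

theorem octadSextet_check1 : classOK cfgOctadBytes sextA 262139 sextetData (listInv [cfgOctad.headD 0])
    cfgOctadSextetRep1 cfgOctadSextetTree1 16 840 = true := by decide +kernel

theorem octadSextet_check2 : classOK cfgOctadBytes sextA 262139 sextetData (listInv [cfgOctad.headD 0])
    cfgOctadSextetRep2 cfgOctadSextetTree2 14 896 = true := by decide +kernel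

theorem octadSextet_all : sextetData.all (fun l => [32, 16, 14].contains ((listInv [cfgOctad.headD 0]) l)) = true := by decide +kernel

theorem octadSextet_orbits {σ : Equiv.Perm GolayPt} (hσ : σ ∈ M24) {x : Finset GolayPt}
    (hx : σ • (setOf24 (cfgOctad.headD 0)) = x) :
    ∃ X0 ∈ sextets, ∃ X1 ∈ sextets, ∃ X2 ∈ sextets,
      (MulAction.orbit ↥(MulAction.stabilizer M24 x) X0).ncard = 35 ∧
      (MulAction.orbit ↥(MulAction.stabilizer M24 x) X1).ncard = 840 ∧
      (MulAction.orbit ↥(MulAction.stabilizer M24 x) X2).ncard = 896 ∧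
      sextets = MulAction.orbit ↥(MulAction.stabilizer M24 x) X0 ∪ MulAction.orbit ↥(MulAction.stabilizer M24 x) X1 ∪ MulAction.orbit ↥(MulAction.stabilizer M24 x) X2 := by
  obtain ⟨X0, hX0, c0, e0⟩ := orbit_class sextetListed (setInvar id) (setInvar_smul sextetListed) (setInvar_list sextetListed octad_gens.2.2.2.2)
    (gensOK_set octad_gens.2.2.2.2 octad_gens.1 octad_gens.2.1 octad_gens.2.2.1 octad_gens.2.2.2.1) octadSextet_check0 hσ hx
  obtain ⟨X1, hX1, c1, e1⟩ := orbit_class sextetListed (setInvar id) (setInvar_smul sextetListed) (setInvar_list sextetListed octad_gens.2.2.2.2)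
    (gensOK_set octad_gens.2.2.2.2 octad_gens.1 octad_gens.2.1 octad_gens.2.2.1 octad_gens.2.2.2.1) octadSextet_check1 hσ hx
  obtain ⟨X2, hX2, c2, e2⟩ := orbit_class sextetListed (setInvar id) (setInvar_smul sextetListed) (setInvar_list sextetListed octad_gens.2.2.2.2)
    (gensOK_set octad_gens.2.2.2.2 octad_gens.1 octad_gens.2.1 octad_gens.2.2.1 octad_gens.2.2.2.1) octadSextet_check2 hσ hx
  exact ⟨X0, hX0, X1, hX1, X2, hX2, c0, c1, c2, union3 (fun b => setInvar id b x) e0 e1 e2
    (class_cover sextetListed (setInvar id) (setInvar_smul sextetListed) (setInvar_list sextetListed octad_gens.2.2.2.2) octadSextet_all hσ hx)⟩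

end CfsgLib.M24Classes
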