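import Cfsg.Agent.M24Classes.OrbitTree

/-! Orbit data for a configuration stabiliser. -/

set_option autoImplicit false
set_option maxRecDepth 20000

namespace CfsgLib.M24Classes

/-- The configuration. -/
def cfgSextet : List ℕ := [8388615, 147496, 268544, 1082880, 2621632, 4268048]

/-- Tables of members of its stabiliser. -/
def cfgSextetTabs : List ℕ := [564536806886111777154703902652753326035177130725052907521,
  99045406315772638524050292681446721308644842348259314966]

/-- Their byte tables. -/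
def cfgSextetBytes : List (List ℕ) := [[21554467189640046135292753093929511719830801188568951479693870432380340933462322123664154463008457011077374502979911032101387423238027491558915994336579114012495481674406499998467497319786494805094552596261346500243303729461992721736377813658453060404892631145024285093708769262184017473213775955950455344741309789957671621803132578366595654959016454894805354981096683887148150209226821272581490659773565081356391137652818975955077033745772477232136454365697647604711174084967757757983902898237103972366497290851445537683620317817324504064023141543809897247231809882544985471536879532276231276134579228126222959287519854843284134070230303499330610534621428952289224337740909360269208200496897876146259823067671342163491291276620241627161019674762390202372952442088762126027800577896990862613774494938202362565497177097444944825826728508772400661639838005471342005372747978177767456464116791042464150567568189215076425545163358868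4942567858998014124136723781428152363931740711122785066741568362915077997688673156036290258193119505480101445389668625689360269403642471007412395045887468641761240544056078488026482765709829227272349111844584014211393393871495651380171286091976386936726610122975964770898850816549812278734730488878636081945705469036149284760449296058328708030292388011124170518245893778677547892685260764520498582721374000315178461839445044829972162049152974456031211457571609700112939371637544937280790823548229514081157351091137077468114368829533561393868333579978054353746069335349236389824691246017577836429895180249901735510557782059297768558151609781988480554455946765616588290044300215081814417251982990534469259619945375648356311915515262790671179467809756635387284731757320002695460760057120983157864714117806057832802782328063010301845373064718918994962922128041402456959985282497951488460305688171114921724880743268135993344, 1029250298189994404339339127307357198626032902466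7604125474199366143435801401598569721160819626264642478782238409370828006299310826776695809261952453474075459863045410786493713445540242720234711586579940324519976286019027043560461392823686312533756465698776632124231948375548118881151898740642428873808225318035466248859337610802981403111121654601850648617032528275231410292105810788943783447900462986261122351111654537900992542841718203193605498901200010961422197325841674136751761006553600376884730311876131638217704961970530004505062718572034376638453804939354456899428618857815856465554506329821515507569374085923531830092703552895206192726020136338576046784582984531732618840036093119353815519213038279046987053985278280245354546922595931193290611926730141440832995848468081405453901415557238500328414555430778220071637013563014830950744846645691644360224847165633041241885902614972182732687885501864356949433351472445967051223530581404730196748581872778276097096688700433562104384807728899979313385873885941040800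799183339326267865064821459669451899172290713249210937501552404159600956756994765334682903869795046717693090816785982983894210984409337723099237042622239426775327454657011658181212901455382778631875913631595930617099850404028094432244205301096081166678311001318665862883842552550792195546603284734636672849563409762498087639378559428176144446571720729901420826473285078397165944437914159796143421846321911459321712739485535567733187945419987178739453974029815149412267779377032312787859048511329038592690724129606221523286314982220162166850895742038300486109722715939765954218936468286523087930424454313364806472540042583960067711647600672377050817138894720486682924590728322263651976254756340512590809169532814655393552894916377707431154773882645957595648114020186888611311618459440374372976052987816231129066274790714362518568960, 23243473884739989061433137274659926103849920425857286834467958174832422426417235598175608356240866171969386456141589187838724266170256033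5199161175178706196861646256091773786752660017034919420405150269727180922828279462851505760846170627485951026485454788532953993610733506620966516894794455603550161422891047843452033325423118928486030779883230762417811862454404655459783480214352922984111451565494439890389080395857678532088344007707331318559354423150581980628627466284067705753676589781395794628790300414011605282861548481289575006491386702881443457821025019999596793533866255526820674231462614436142439994236734920738743489587097657815014704944758892981481590965376084821476491880122562536140451208134204166068529295042326939510059284419365918446971439877815228896290227672650040112470097097849011260685383240026501514963676808377036065007174000840177638024502710887443479813068932863478583427810520401452814416761770137329555591886394269823780064380345312989522214966266547658984862458075767802755010246465257513520263533806196899427682331062219519617845514913422908501480226646328241523037342509622080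55840905151647201509547324624435265752947073638102629064884362363454843640257273829871130275426387008846761382586448987187251635037256658053794389030688546015114274878696272611917612940288720321333603293695874113650607084182318469655764428869871197920856574149356316653357292226580809669486950635721412567057401706660110005177427797235309639684256564858637584978644991882910384385744486697473772364043609939573011306327868269881799237717256284848561981404541768461330155445147906886534120146966994565505589942651044330253068261509041314218907943374438257899543133785639407422700329927121697833638344379633338233015238772371284424746651878428173098110799503708151030687080627454158103489284108065511945759782381216755363777735858714347281842176],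
  [911910647083737681550217940987500614495059866500673529246867259989219164531088779884779936597306179874740017703587520366629298169538774660679135669363313690972025734191353804384441887047261566878526340065304271104929972581314444765278181869292516592552108659216208286115504464690459926260144751668277584159081766846930045046604334783908612112442007106177935109606591613437019315929148214249926797236136192646697002863575595052447707940020766687181276048150006645327542402369158621702601699191807323943534708698086970948065821690789775559640309408767771737313459571664231036602550747445568699235477064787292099504266415835234905136707160695562007593326718517154707990220225458177156784646215868946569302760657796114965830228826228654466531335620852190515372417540220535964039417761041393180771041687658266599798112538721457858132430906822015074013111703658599005079933458068612751741395952832307372738645772517799817868877583543569972567302581368437560954067852696054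0110855953991150537055766740520707915669373484010710140585285251377503678062278052554145872499024060835554227380431302074885540702590783234088830098303679422259341846927164975253707951037164845212765241527767312077481881148307970485265041051762786397285698579271142321437457471259030917468843795015243732792775157523564116272716923347931007023316168149144571500964776479682410828796024316924293390591153200981755453538363522120108946028536395431495147187512675046681465812277127591425723073294666347952577672368496179961753133952549567094131030224869833869975108101625966337621757878361335837139711398951733149068110819713565049132491847142804111716236467653192097660068418881330048502825380175111316770216808274213603548975120455613385090710898751194047361736984093151336971229926476751364229240179302872538779456902107458195882174664813642485433687112087112734806274529908903378944, 1072160877395635166573947131392302349936479946533821298328237804764268608668998766041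9805249178338621553993486833042163634880662642774150908791386597245568745576959569030772031170977198473052952387822910085314228273810186211739712349199165896422670779981621169366491994253909788812365970333025547719539693072042817071586921972305433355951593284162349746951037392110242414757134946717934049828738968407553876034665358323952968117038008419080010420874190017127012940641432938500774418418743561405790693216261727616307066629099516776492511009907497298995979834102790765076060801446618773918101389401284467386089648067117965837132549260900471292265636525559647747355361284866047242468994654073189955549288865869342813908649312623271077371658382474857141564679247749135575365039090974855641614358516938161117107114837117528206825077302108803772993569698331321196810521305863264066805654182100437879318049970286404888669962014472939907263436354130521129319859531746455016767942666235414203987910298984693106543040510822429503354098090577101800251355129210513633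5704933350863417260622028471579638456204509030077775562844264334415755973845169568878353306916035189677199948971378194584052519086724163177878194618892970110951838570703677557914222586294754674120931644705777676108012177283918537149271311142976300879742828410180778018403111737539675758725632321058562491283781725559091099453223046558949837136820454994987057086265030975626439825148698874246134562120016906232018245472088108633504016826246292938556848758044630764378595953508936976075742771713027269446861275406993987006376733126395880243741677570053109397343540077218168133800059323518990066819675369993957730450088763494367255470877416759527212508158147262135945765086469474541729525118735449589040031937799352013447707061527664126289482426708688487538949416855863615767255032103654979010560, 2452519863419005715551508697695187919626242103080036483452818785171540837521765050610817438756596691668752935531761710656730999294351804702367343776822779794717666183908567149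6754462751891989252586310041537873910864527264823626859887958625336262639601212289899937285038127695662086144675919975512216516640325868217519673958147428984931828449930264749880364502297386826399384225799772011873676407797994706687922654149721223904283970979346359345810217472444856607233154091322714697852630466911564747094455427071963753913215479012804822598494435750975069270378847241418619840460636546637146776966198976696569850702413707858083977162798800836392725675403135880096842841280261230815591432396078844469029121638142456329227467402737955990639489353956040505371948454509279900067429139002034469129614220016732382735822226826627815619400583423346298311962925124640004384499200913277141748911451345028388160188994275593865134655973407552933677943444877393203117869186578746059601512268518914173373640360085257421394783772388598592763149807867759024288316537823183969520796953578676861919934833308145128952654661036457470909325504383484002136888208370388170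666936336904625949395012707625556340821423277599225975333768885744693979620833685451852924974807231681962847582763262696038055551640577727093929855564730394648186798197035526248361750662795736506628451346749774956202034112961177975624668906108660143210345447545876609440429479986226247946815948979337648498259008891490582974204743462702505944465184451882943694460999199247691380094962293807113986448691782282012172897745910403313538357890498201350442443798203775990729759079927169033259843237844614400386490950114426286803683278768249987954569479878326082248922246779331268971690482131905568422301333341616456657375492031608235848796263804696372560854655420745531244313843477353524545900054311269633622016]]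

/-- Root of class 0. -/
def cfgSextetOctadRep0 : List ℕ := [12656663]

/-- Spanning tree of class 0. -/
def cfgSextetOctadTree0 : OTree :=
  .node 0 (.node 0 (.node 0 (.node 1 .nil .nil) (.node 1 (.node 1 .nil .nil) .nil)) (.node 1
  (.node 0 .nil .nil) .nil)) (.node 1 (.node 0 (.node 1 .nil .nil) (.node 1 (.node 1 (.node 1
  .nil .nil) .nil) .nil)) .nil)

/-- Root of class 1. -/
def cfgSextetOctadRep1 : List ℕ := [13062145]

/-- Spanning tree of class 1. -/
def cfgSextetOctadTree1 : OTree :=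
  .node 0 (.node 0 (.node 0 (.node 0 (.node 0 (.node 0 (.node 0 (.node 1 .nil .nil) (.node 1
  (.node 0 (.node 0 .nil .nil) (.node 1 .nil .nil)) .nil)) (.node 1 (.node 0 (.node 0 (.node 0
  (.node 1 .nil .nil) .nil) .nil) .nil) .nil)) .nil) (.node 1 (.node 0 (.node 0 (.node 1 (.node
  0 .nil (.node 1 (.node 1 (.node 0 .nil .nil) .nil) .nil)) .nil) (.node 1 (.node 1 (.node 0
  (.node 0 .nil .nil) (.node 1 (.node 0 .nil (.node 1 .nil .nil)) .nil)) .nil) .nil)) (.node 1
  (.node 0 (.node 1 (.node 0 (.node 1 .nil .nil) (.node 1 (.node 0 .nil .nil) .nil)) .nil)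
  (.node 1 (.node 0 (.node 1 (.node 0 (.node 0 .nil .nil) (.node 1 .nil .nil)) .nil) (.node 1
  (.node 0 .nil .nil) .nil)) .nil)) .nil)) .nil)) (.node 1 (.node 0 (.node 0 (.node 1 (.node 0
  (.node 1 .nil .nil) (.node 1 (.node 0 .nil (.node 1 (.node 1 .nil .nil) .nil)) .nil)) .nil)
  (.node 1 (.node 0 (.node 0 .nil (.node 1 (.node 0 (.node 0 .nil .nil) (.node 1 .nil .nil))
  .nil)) (.node 1 (.node 0 (.node 0 (.node 1 .nil .nil) (.node 1 (.node 1 .nil .nil) .nil))
  .nil) .nil)) .nil)) (.node 1 (.node 0 (.node 0 .nil (.node 1 (.node 1 (.node 0 (.node 0 .nil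
  .nil) .nil) .nil) .nil)) (.node 1 (.node 0 (.node 0 (.node 0 (.node 1 (.node 0 .nil .nil)
  .nil) .nil) (.node 1 (.node 0 (.node 1 (.node 1 .nil .nil) .nil) .nil) .nil)) (.node 1 (.node
  0 (.node 1 .nil .nil) .nil) .nil)) .nil)) .nil)) .nil)) (.node 1 (.node 0 (.node 0 (.node 0
  (.node 0 (.node 0 (.node 0 (.node 0 .nil .nil) .nil) (.node 1 (.node 0 .nil (.node 1 .nil
  .nil)) .nil)) (.node 1 (.node 0 (.node 0 (.node 0 (.node 0 .nil .nil) (.node 1 .nil .nil))
  (.node 1 .nil .nil)) (.node 1 (.node 0 (.node 1 .nil .nil) (.node 1 .nil .nil)) .nil)) .nil))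
  (.node 1 (.node 0 (.node 0 (.node 0 (.node 0 .nil (.node 1 .nil .nil)) (.node 1 .nil .nil))
  .nil) (.node 1 (.node 0 (.node 0 .nil (.node 1 (.node 1 .nil .nil) .nil)) (.node 1 (.node 1
  (.node 0 .nil .nil) .nil) .nil)) .nil)) .nil)) (.node 1 (.node 0 (.node 0 (.node 0 (.node 1
  .nil .nil) (.node 1 (.node 0 (.node 1 .nil .nil) (.node 1 (.node 1 .nil .nil) .nil)) .nil))
  (.node 1 (.node 0 (.node 0 (.node 0 .nil .nil) (.node 1 (.node 1 .nil .nil) .nil)) (.node 1
  (.node 0 (.node 0 .nil (.node 1 .nil .nil)) .nil) .nil)) .nil)) (.node 1 (.node 0 (.node 0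
  (.node 1 (.node 0 .nil .nil) .nil) (.node 1 (.node 0 (.node 0 .nil .nil) (.node 1 .nil .nil))
  .nil)) (.node 1 (.node 0 (.node 1 (.node 0 .nil .nil) .nil) (.node 1 (.node 0 (.node 1 .nil
  .nil) .nil) .nil)) .nil)) .nil)) .nil)) (.node 1 (.node 0 (.node 0 (.node 0 (.node 1 .nil
  .nil) (.node 1 (.node 0 (.node 0 .nil (.node 1 .nil .nil)) (.node 1 (.node 0 .nil (.node 1
  (.node 0 .nil (.node 1 (.node 0 .nil .nil) .nil)) .nil)) .nil)) .nil)) (.node 1 (.node 0
  (.node 0 (.node 1 .nil .nil) (.node 1 (.node 0 (.node 1 .nil .nil) .nil) .nil)) (.node 1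
  (.node 1 (.node 1 .nil .nil) .nil) .nil)) .nil)) (.node 1 (.node 0 (.node 0 (.node 0 (.node 1
  .nil .nil) (.node 1 (.node 0 (.node 0 (.node 1 .nil .nil) .nil) (.node 1 (.node 0 .nil .nil)
  .nil)) .nil)) (.node 1 (.node 0 (.node 0 .nil (.node 1 (.node 1 .nil .nil) .nil)) (.node 1
  .nil .nil)) .nil)) (.node 1 (.node 0 (.node 0 (.node 1 (.node 0 .nil .nil) .nil) (.node 1 .nil
  .nil)) .nil) .nil)) .nil)) .nil)) .nil)) (.node 1 (.node 0 (.node 0 (.node 0 (.node 0 (.node 0
  (.node 0 (.node 1 .nil .nil) (.node 1 .nil .nil)) (.node 1 (.node 0 .nil (.node 1 .nil .nil))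
  .nil)) (.node 1 (.node 0 (.node 0 (.node 0 (.node 1 (.node 0 .nil .nil) .nil) (.node 1 (.node
  0 .nil (.node 1 .nil .nil)) .nil)) (.node 1 (.node 0 (.node 1 (.node 1 .nil .nil) .nil) .nil)
  .nil)) .nil) .nil)) (.node 1 (.node 0 (.node 0 .nil (.node 1 (.node 1 (.node 0 .nil (.node 1
  .nil .nil)) .nil) .nil)) (.node 1 (.node 0 (.node 0 (.node 0 .nil .nil) (.node 1 (.node 1
  (.node 0 .nil .nil) .nil) .nil)) (.node 1 (.node 0 (.node 0 (.node 1 (.node 1 .nil .nil) .nil)
  (.node 1 (.node 0 .nil .nil) .nil)) .nil) .nil)) .nil)) .nil)) (.node 1 (.node 0 (.node 0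
  (.node 0 (.node 0 .nil (.node 1 (.node 1 .nil .nil) .nil)) (.node 1 (.node 0 (.node 0 (.node 0
  .nil .nil) .nil) (.node 1 (.node 0 (.node 1 .nil .nil) .nil) .nil)) .nil)) (.node 1 (.node 0
  (.node 0 (.node 0 (.node 1 .nil .nil) .nil) (.node 1 (.node 0 .nil (.node 1 .nil .nil)) .nil))
  (.node 1 (.node 0 (.node 1 .nil .nil) (.node 1 (.node 0 (.node 0 .nil .nil) (.node 1 .nil
  .nil)) .nil)) .nil)) .nil)) (.node 1 (.node 0 (.node 0 (.node 1 (.node 0 (.node 0 .nil .nil)
  .nil) .nil) (.node 1 (.node 0 (.node 0 .nil (.node 1 .nil .nil)) (.node 1 .nil .nil)) .nil))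
  (.node 1 (.node 1 (.node 0 (.node 0 .nil .nil) .nil) .nil) .nil)) .nil)) .nil)) (.node 1
  (.node 0 (.node 1 (.node 0 (.node 0 (.node 0 (.node 1 (.node 0 .nil .nil) .nil) (.node 1
  (.node 0 (.node 0 .nil .nil) (.node 1 (.node 0 .nil .nil) .nil)) .nil)) .nil) (.node 1 (.node
  0 (.node 0 (.node 0 (.node 1 .nil .nil) .nil) .nil) (.node 1 (.node 0 (.node 0 .nil .nil)
  (.node 1 .nil .nil)) .nil)) .nil)) .nil) (.node 1 (.node 0 (.node 0 (.node 0 (.node 0 (.node 1
  (.node 0 .nil .nil) .nil) (.node 1 (.node 0 (.node 0 .nil .nil) .nil) .nil)) (.node 1 (.node 0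
  (.node 0 .nil .nil) (.node 1 (.node 0 .nil (.node 1 .nil .nil)) .nil)) .nil)) (.node 1 (.node
  0 (.node 0 (.node 1 .nil .nil) (.node 1 (.node 0 .nil (.node 1 .nil .nil)) .nil)) (.node 1
  (.node 0 .nil .nil) .nil)) .nil)) (.node 1 (.node 0 (.node 0 (.node 0 (.node 0 .nil .nil)
  (.node 1 (.node 1 (.node 0 .nil .nil) .nil) .nil)) (.node 1 (.node 0 .nil (.node 1 .nil .nil))
  .nil)) .nil) .nil)) .nil)) .nil)) .nil)

/-- Root of class 2. -/
def cfgSextetOctadRep2 : List ℕ := [4845570]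

/-- Spanning tree of class 2. -/
def cfgSextetOctadTree2 : OTree :=
  .node 0 (.node 0 (.node 1 (.node 0 (.node 0 (.node 0 (.node 0 (.node 1 (.node 0 (.node 0
  (.node 1 .nil .nil) .nil) (.node 1 (.node 0 .nil .nil) .nil)) .nil) .nil) (.node 1 (.node 0
  (.node 0 (.node 0 (.node 0 .nil .nil) .nil) (.node 1 (.node 0 (.node 0 .nil .nil) (.node 1
  .nil .nil)) .nil)) (.node 1 (.node 0 .nil .nil) .nil)) .nil)) (.node 1 (.node 0 (.node 0
  (.node 0 (.node 1 .nil .nil) .nil) (.node 1 (.node 0 (.node 0 .nil (.node 1 .nil .nil)) (.node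
  1 (.node 0 (.node 1 (.node 1 .nil .nil) .nil) (.node 1 (.node 1 (.node 0 .nil .nil) .nil)
  .nil)) .nil)) .nil)) (.node 1 (.node 0 .nil (.node 1 (.node 1 (.node 0 (.node 0 .nil .nil)
  .nil) .nil) .nil)) .nil)) .nil)) (.node 1 (.node 0 (.node 0 (.node 1 (.node 1 (.node 0 (.node
  0 .nil (.node 1 .nil .nil)) .nil) .nil) .nil) (.node 1 (.node 1 (.node 0 (.node 0 .nil (.node
  1 (.node 1 .nil .nil) .nil)) (.node 1 (.node 0 .nil (.node 1 (.node 0 (.node 0 .nil .nil)
  .nil) .nil)) .nil)) .nil) .nil)) (.node 1 (.node 0 .nil (.node 1 .nil .nil)) .nil)) .nil))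
  .nil) (.node 1 (.node 0 (.node 0 (.node 0 (.node 0 (.node 0 (.node 0 (.node 0 (.node 1 .nil
  .nil) .nil) (.node 1 (.node 0 (.node 0 .nil .nil) (.node 1 (.node 0 .nil (.node 1 (.node 0
  .nil .nil) .nil)) .nil)) .nil)) (.node 1 (.node 0 (.node 0 .nil (.node 1 (.node 1 .nil .nil)
  .nil)) .nil) .nil)) (.node 1 (.node 0 (.node 0 (.node 1 .nil .nil) (.node 1 (.node 0 .nil
  .nil) .nil)) (.node 1 (.node 0 .nil (.node 1 (.node 0 (.node 0 .nil (.node 1 .nil .nil))
  (.node 1 .nil .nil)) .nil)) .nil)) .nil)) (.node 1 (.node 0 (.node 0 (.node 0 .nil (.node 1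
  (.node 0 (.node 1 .nil .nil) .nil) .nil)) (.node 1 (.node 0 (.node 0 .nil .nil) (.node 1
  (.node 0 .nil (.node 1 (.node 0 (.node 0 (.node 0 .nil .nil) .nil) (.node 1 (.node 0 .nil
  .nil) .nil)) .nil)) .nil)) .nil)) (.node 1 (.node 0 (.node 0 .nil .nil) .nil) .nil)) .nil))
  (.node 1 (.node 0 (.node 0 (.node 0 (.node 1 .nil .nil) .nil) (.node 1 (.node 1 (.node 0 .nil
  .nil) .nil) .nil)) (.node 1 (.node 0 (.node 0 .nil (.node 1 (.node 0 .nil (.node 1 (.node 0
  .nil (.node 1 (.node 1 .nil .nil) .nil)) .nil)) .nil)) (.node 1 (.node 0 (.node 0 (.node 0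
  .nil .nil) (.node 1 (.node 0 .nil (.node 1 .nil .nil)) .nil)) (.node 1 (.node 0 .nil .nil)
  .nil)) .nil)) .nil)) .nil)) (.node 1 (.node 0 (.node 0 (.node 0 (.node 1 (.node 0 (.node 1
  .nil .nil) (.node 1 .nil .nil)) .nil) (.node 1 (.node 0 (.node 0 (.node 0 .nil (.node 1 (.node
  0 .nil .nil) .nil)) (.node 1 (.node 1 .nil .nil) .nil)) .nil) .nil)) (.node 1 (.node 0 (.node
  1 (.node 0 (.node 1 (.node 1 .nil .nil) .nil) (.node 1 (.node 0 .nil (.node 1 .nil .nil))
  .nil)) .nil) (.node 1 (.node 0 .nil .nil) .nil)) .nil)) (.node 1 (.node 0 (.node 0 (.node 0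
  (.node 1 .nil .nil) (.node 1 (.node 0 .nil .nil) .nil)) (.node 1 (.node 0 (.node 0 (.node 1
  .nil .nil) (.node 1 (.node 0 (.node 1 (.node 0 .nil .nil) .nil) .nil) .nil)) (.node 1 (.node 0
  .nil .nil) .nil)) .nil)) (.node 1 (.node 0 (.node 0 (.node 0 (.node 0 .nil .nil) (.node 1
  (.node 0 .nil .nil) .nil)) (.node 1 (.node 0 (.node 0 .nil (.node 1 .nil .nil)) (.node 1
  (.node 0 .nil .nil) .nil)) .nil)) .nil) .nil)) .nil)) .nil)) .nil)) (.node 1 (.node 0 (.node 0
  (.node 0 (.node 0 (.node 1 (.node 0 (.node 0 .nil .nil) (.node 1 (.node 1 (.node 1 .nil .nil)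
  .nil) .nil)) .nil) (.node 1 (.node 0 (.node 1 (.node 0 (.node 0 (.node 0 .nil .nil) (.node 1
  .nil .nil)) .nil) .nil) .nil) .nil)) (.node 1 (.node 0 (.node 0 (.node 0 (.node 0 (.node 1
  .nil .nil) (.node 1 (.node 0 (.node 1 .nil .nil) .nil) .nil)) .nil) (.node 1 (.node 0 (.node 1
  (.node 1 (.node 1 .nil .nil) .nil) .nil) (.node 1 .nil .nil)) .nil)) (.node 1 (.node 0 (.node
  0 (.node 0 .nil (.node 1 .nil .nil)) (.node 1 (.node 0 .nil .nil) .nil)) (.node 1 (.node 1
  (.node 0 (.node 0 (.node 1 (.node 1 .nil .nil) .nil) .nil) .nil) .nil) .nil)) .nil)) .nil))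
  (.node 1 (.node 0 (.node 0 (.node 1 (.node 0 (.node 0 .nil (.node 1 (.node 0 .nil (.node 1
  (.node 0 .nil (.node 1 .nil .nil)) .nil)) .nil)) .nil) .nil) (.node 1 (.node 0 (.node 0 (.node
  0 (.node 0 (.node 1 .nil .nil) .nil) (.node 1 (.node 0 (.node 0 .nil .nil) .nil) .nil)) (.node
  1 (.node 1 (.node 0 .nil .nil) .nil) .nil)) (.node 1 (.node 0 (.node 0 .nil (.node 1 (.node 1
  .nil .nil) .nil)) (.node 1 (.node 0 (.node 1 .nil .nil) (.node 1 .nil .nil)) .nil)) .nil))
  .nil)) (.node 1 (.node 0 (.node 1 (.node 0 .nil .nil) .nil) (.node 1 (.node 1 (.node 0 (.node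
  0 (.node 0 (.node 1 .nil .nil) (.node 1 .nil .nil)) (.node 1 (.node 0 .nil .nil) .nil)) .nil)
  .nil) .nil)) .nil)) .nil)) (.node 1 (.node 0 (.node 0 (.node 0 (.node 0 (.node 1 (.node 1 .nil
  .nil) .nil) (.node 1 (.node 0 (.node 0 (.node 0 (.node 0 .nil .nil) (.node 1 (.node 0 (.node 0
  .nil .nil) .nil) .nil)) .nil) .nil) .nil)) (.node 1 (.node 0 (.node 0 (.node 1 (.node 0 (.node
  0 .nil .nil) .nil) .nil) (.node 1 (.node 0 (.node 0 .nil .nil) .nil) .nil)) .nil) .nil))
  (.node 1 (.node 0 (.node 0 (.node 0 (.node 0 (.node 1 .nil .nil) (.node 1 (.node 0 .nil .nil)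
  .nil)) (.node 1 (.node 1 .nil .nil) .nil)) .nil) (.node 1 (.node 0 (.node 0 .nil (.node 1 .nil
  .nil)) (.node 1 (.node 1 (.node 0 (.node 1 .nil .nil) .nil) .nil) .nil)) .nil)) .nil)) (.node
  1 (.node 0 (.node 0 (.node 0 (.node 1 (.node 0 (.node 1 .nil .nil) .nil) .nil) (.node 1 (.node
  0 (.node 1 (.node 0 (.node 1 .nil .nil) .nil) .nil) (.node 1 (.node 0 (.node 0 .nil .nil)
  .nil) .nil)) .nil)) (.node 1 (.node 0 (.node 1 (.node 1 (.node 0 .nil .nil) .nil) .nil) (.node
  1 (.node 0 (.node 1 .nil .nil) (.node 1 (.node 0 .nil (.node 1 (.node 0 .nil .nil) .nil))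
  .nil)) .nil)) .nil)) (.node 1 (.node 0 (.node 0 (.node 0 .nil (.node 1 (.node 0 (.node 0
  (.node 1 .nil .nil) (.node 1 .nil .nil)) (.node 1 (.node 0 .nil .nil) .nil)) .nil)) (.node 1
  (.node 0 (.node 0 (.node 0 .nil .nil) (.node 1 (.node 0 .nil .nil) .nil)) .nil) .nil)) .nil)
  .nil)) .nil)) .nil)) .nil)

/-- Root of class 0. -/
def cfgSextetTrioRep0 : List ℕ := [8536111, 4536592, 3704512]

/-- Spanning tree of class 0. -/
def cfgSextetTrioTree0 : OTree :=
  .node 0 (.node 0 (.node 0 (.node 1 .nil .nil) (.node 1 (.node 0 (.node 1 .nil .nil) .nil)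
  .nil)) (.node 1 (.node 1 .nil .nil) .nil)) (.node 1 (.node 0 (.node 0 .nil (.node 1 .nil
  .nil)) (.node 1 .nil .nil)) .nil)

/-- Root of class 1. -/
def cfgSextetTrioRep1 : List ℕ := [8394986, 3031301, 5350928]

/-- Spanning tree of class 1. -/
def cfgSextetTrioTree1 : OTree :=
  .node 0 (.node 0 (.node 0 (.node 0 (.node 0 (.node 0 (.node 0 .nil .nil) .nil) (.node 1 (.node
  0 (.node 0 (.node 0 (.node 1 .nil .nil) (.node 1 (.node 0 .nil (.node 1 .nil .nil)) .nil))
  (.node 1 (.node 0 .nil .nil) .nil)) .nil) .nil)) (.node 1 (.node 0 (.node 1 (.node 1 (.node 1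
  (.node 0 .nil .nil) .nil) .nil) .nil) (.node 1 (.node 0 (.node 0 (.node 1 .nil .nil) .nil)
  (.node 1 (.node 0 (.node 0 .nil .nil) .nil) .nil)) .nil)) .nil)) (.node 1 (.node 0 (.node 0
  (.node 0 (.node 1 (.node 1 (.node 1 .nil .nil) .nil) .nil) (.node 1 (.node 0 (.node 1 .nil
  .nil) (.node 1 (.node 0 (.node 0 .nil .nil) .nil) .nil)) .nil)) (.node 1 (.node 0 .nil (.node
  1 (.node 0 (.node 1 .nil .nil) (.node 1 (.node 0 .nil .nil) .nil)) .nil)) .nil)) (.node 1
  (.node 0 (.node 1 (.node 1 (.node 0 .nil (.node 1 .nil .nil)) .nil) .nil) (.node 1 (.node 0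
  (.node 1 .nil .nil) (.node 1 (.node 0 .nil .nil) .nil)) .nil)) .nil)) .nil)) (.node 1 (.node 0
  (.node 0 (.node 0 (.node 0 (.node 0 (.node 1 .nil .nil) (.node 1 (.node 1 .nil .nil) .nil))
  (.node 1 (.node 1 (.node 0 .nil (.node 1 .nil .nil)) .nil) .nil)) (.node 1 (.node 0 (.node 0
  (.node 0 (.node 1 .nil .nil) .nil) (.node 1 (.node 0 (.node 1 .nil .nil) (.node 1 .nil .nil))
  .nil)) (.node 1 (.node 0 (.node 0 (.node 1 .nil .nil) .nil) .nil) .nil)) .nil)) (.node 1
  (.node 0 (.node 0 .nil .nil) (.node 1 (.node 0 .nil (.node 1 (.node 0 .nil (.node 1 .nil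
  .nil)) .nil)) .nil)) .nil)) (.node 1 (.node 0 (.node 0 (.node 0 (.node 1 .nil .nil) (.node 1
  (.node 1 .nil .nil) .nil)) .nil) (.node 1 (.node 0 (.node 0 (.node 0 .nil (.node 1 .nil .nil))
  .nil) (.node 1 (.node 0 (.node 0 .nil (.node 1 .nil .nil)) .nil) .nil)) .nil)) .nil)) .nil))
  (.node 1 (.node 0 (.node 0 (.node 0 (.node 0 (.node 0 (.node 0 (.node 1 .nil .nil) (.node 1
  .nil .nil)) (.node 1 (.node 0 .nil .nil) .nil)) (.node 1 (.node 0 .nil (.node 1 (.node 0
  (.node 0 .nil (.node 1 .nil .nil)) (.node 1 .nil .nil)) .nil)) .nil)) (.node 1 (.node 0 .nil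
  (.node 1 (.node 0 .nil (.node 1 .nil .nil)) .nil)) .nil)) (.node 1 (.node 0 (.node 0 (.node 0
  .nil (.node 1 (.node 0 .nil .nil) .nil)) (.node 1 (.node 0 (.node 0 (.node 0 .nil .nil) .nil)
  (.node 1 .nil .nil)) .nil)) (.node 1 (.node 0 (.node 1 (.node 0 .nil (.node 1 .nil .nil))
  .nil) (.node 1 (.node 0 .nil (.node 1 .nil .nil)) .nil)) .nil)) .nil)) (.node 1 (.node 0
  (.node 0 (.node 0 (.node 1 (.node 1 (.node 0 .nil .nil) .nil) .nil) (.node 1 (.node 1 (.node 0
  .nil .nil) .nil) .nil)) (.node 1 (.node 1 (.node 0 (.node 1 .nil .nil) (.node 1 .nil .nil))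
  .nil) .nil)) (.node 1 (.node 0 (.node 1 (.node 0 (.node 0 (.node 1 .nil .nil) .nil) (.node 1
  (.node 1 (.node 1 .nil .nil) .nil) .nil)) .nil) (.node 1 (.node 0 .nil .nil) .nil)) .nil))
  .nil)) .nil)

/-- Root of class 2. -/
def cfgSextetTrioRep2 : List ℕ := [8394986, 304405, 8077824]

/-- Spanning tree of class 2. -/
def cfgSextetTrioTree2 : OTree :=
  .node 0 (.node 0 (.node 0 (.node 0 (.node 0 (.node 0 (.node 0 (.node 1 .nil .nil) (.node 1
  (.node 0 (.node 0 .nil (.node 1 (.node 0 .nil (.node 1 (.node 1 .nil .nil) .nil)) .nil)) .nil)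
  .nil)) (.node 1 (.node 0 (.node 0 (.node 0 (.node 0 .nil (.node 1 .nil .nil)) (.node 1 .nil
  .nil)) (.node 1 .nil .nil)) (.node 1 (.node 0 (.node 0 .nil (.node 1 (.node 1 (.node 0 .nil
  .nil) .nil) .nil)) (.node 1 (.node 0 (.node 1 .nil .nil) (.node 1 .nil .nil)) .nil)) .nil))
  .nil)) (.node 1 (.node 0 (.node 0 (.node 0 (.node 0 .nil (.node 1 (.node 1 (.node 1 .nil .nil)
  .nil) .nil)) (.node 1 (.node 0 .nil .nil) .nil)) .nil) (.node 1 (.node 0 (.node 0 .nil (.node
  1 (.node 0 (.node 0 (.node 0 .nil .nil) .nil) (.node 1 (.node 0 .nil (.node 1 .nil .nil))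
  .nil)) .nil)) (.node 1 (.node 0 .nil (.node 1 (.node 0 (.node 1 .nil .nil) .nil) .nil)) .nil))
  .nil)) .nil)) (.node 1 (.node 0 (.node 0 (.node 0 (.node 0 (.node 0 (.node 0 (.node 0 .nil
  .nil) .nil) (.node 1 .nil .nil)) (.node 1 (.node 0 .nil (.node 1 (.node 1 .nil .nil) .nil))
  .nil)) (.node 1 (.node 0 (.node 0 (.node 0 (.node 0 (.node 1 .nil .nil) .nil) .nil) (.node 1
  (.node 0 .nil (.node 1 (.node 0 .nil .nil) .nil)) .nil)) (.node 1 (.node 1 .nil .nil) .nil))
  .nil)) (.node 1 (.node 0 (.node 0 .nil (.node 1 (.node 0 (.node 0 (.node 1 .nil .nil) (.node 1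
  (.node 1 .nil .nil) .nil)) (.node 1 (.node 0 (.node 0 .nil .nil) (.node 1 (.node 1 .nil .nil)
  .nil)) .nil)) .nil)) (.node 1 (.node 0 (.node 1 (.node 1 .nil .nil) .nil) (.node 1 (.node 0
  (.node 1 .nil .nil) .nil) .nil)) .nil)) .nil)) (.node 1 (.node 0 (.node 0 (.node 0 (.node 1
  .nil .nil) (.node 1 (.node 1 .nil .nil) .nil)) (.node 1 (.node 1 (.node 0 (.node 0 .nil (.node
  1 .nil .nil)) (.node 1 .nil .nil)) .nil) .nil)) (.node 1 (.node 0 (.node 0 (.node 1 (.node 0
  .nil (.node 1 (.node 0 .nil .nil) .nil)) .nil) (.node 1 (.node 0 (.node 0 (.node 0 (.node 1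
  .nil .nil) .nil) .nil) (.node 1 .nil .nil)) .nil)) (.node 1 (.node 0 (.node 1 (.node 0 .nil
  .nil) .nil) .nil) .nil)) .nil)) .nil)) .nil)) (.node 1 (.node 0 (.node 0 (.node 0 (.node 0
  (.node 0 (.node 0 (.node 0 .nil (.node 1 .nil .nil)) (.node 1 (.node 0 .nil .nil) .nil))
  (.node 1 (.node 1 (.node 0 (.node 1 .nil .nil) (.node 1 .nil .nil)) .nil) .nil)) (.node 1
  (.node 1 (.node 0 .nil .nil) .nil) .nil)) (.node 1 (.node 0 (.node 0 (.node 0 .nil (.node 1
  .nil .nil)) (.node 1 (.node 0 (.node 0 .nil (.node 1 .nil .nil)) (.node 1 .nil .nil)) .nil))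
  (.node 1 .nil .nil)) .nil)) (.node 1 (.node 0 (.node 0 (.node 0 (.node 0 (.node 0 .nil .nil)
  .nil) (.node 1 (.node 0 .nil .nil) .nil)) (.node 1 (.node 0 (.node 1 .nil .nil) (.node 1
  (.node 1 (.node 0 .nil (.node 1 (.node 0 (.node 1 .nil .nil) .nil) .nil)) .nil) .nil)) .nil))
  (.node 1 (.node 0 (.node 0 (.node 0 .nil (.node 1 .nil .nil)) (.node 1 (.node 0 (.node 0 .nil
  (.node 1 (.node 0 .nil (.node 1 .nil .nil)) .nil)) (.node 1 (.node 0 .nil .nil) .nil)) .nil))
  (.node 1 (.node 0 (.node 1 .nil .nil) (.node 1 .nil .nil)) .nil)) .nil)) .nil)) (.node 1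
  (.node 0 (.node 0 (.node 0 .nil (.node 1 (.node 1 (.node 0 (.node 0 .nil .nil) (.node 1 (.node
  0 (.node 0 .nil .nil) (.node 1 (.node 0 .nil .nil) .nil)) .nil)) .nil) .nil)) (.node 1 (.node
  1 (.node 0 (.node 1 (.node 0 .nil .nil) .nil) (.node 1 (.node 0 (.node 0 .nil (.node 1 .nil
  .nil)) (.node 1 (.node 0 .nil .nil) .nil)) .nil)) .nil) .nil)) (.node 1 (.node 0 (.node 0
  (.node 0 (.node 0 .nil (.node 1 (.node 0 .nil (.node 1 .nil .nil)) .nil)) (.node 1 (.node 0
  (.node 1 (.node 0 .nil .nil) .nil) .nil) .nil)) (.node 1 (.node 0 .nil (.node 1 (.node 0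
  (.node 0 (.node 1 .nil .nil) .nil) (.node 1 .nil .nil)) .nil)) .nil)) (.node 1 (.node 0 (.node
  0 (.node 0 (.node 0 .nil (.node 1 (.node 0 .nil .nil) .nil)) (.node 1 .nil .nil)) .nil) .nil)
  .nil)) .nil)) .nil)) .nil)) (.node 1 (.node 0 (.node 0 (.node 0 (.node 0 (.node 0 (.node 1
  (.node 0 (.node 1 (.node 0 .nil .nil) .nil) (.node 1 (.node 0 (.node 0 .nil .nil) (.node 1
  .nil .nil)) .nil)) .nil) (.node 1 (.node 1 .nil .nil) .nil)) (.node 1 (.node 1 (.node 0 .nil
  (.node 1 .nil .nil)) .nil) .nil)) (.node 1 (.node 0 (.node 0 (.node 1 (.node 1 (.node 1 (.node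
  0 .nil .nil) .nil) .nil) .nil) (.node 1 .nil .nil)) (.node 1 (.node 0 (.node 0 (.node 0 .nil
  (.node 1 (.node 1 .nil .nil) .nil)) (.node 1 (.node 1 .nil .nil) .nil)) (.node 1 (.node 1
  (.node 0 (.node 0 .nil (.node 1 .nil .nil)) .nil) .nil) .nil)) .nil)) .nil)) (.node 1 (.node 0
  (.node 0 (.node 0 (.node 0 (.node 0 (.node 0 .nil (.node 1 .nil .nil)) (.node 1 (.node 0 .nil
  .nil) .nil)) (.node 1 (.node 1 (.node 0 .nil .nil) .nil) .nil)) (.node 1 (.node 0 (.node 1
  .nil .nil) .nil) .nil)) (.node 1 (.node 0 (.node 0 .nil .nil) .nil) .nil)) (.node 1 (.node 0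
  (.node 0 (.node 1 (.node 0 (.node 1 .nil .nil) (.node 1 (.node 0 (.node 1 .nil .nil) (.node 1
  .nil .nil)) .nil)) .nil) (.node 1 (.node 0 (.node 1 (.node 0 .nil (.node 1 (.node 1 .nil .nil)
  .nil)) .nil) .nil) .nil)) (.node 1 (.node 0 (.node 1 (.node 0 (.node 0 .nil (.node 1 .nil
  .nil)) .nil) .nil) (.node 1 .nil .nil)) .nil)) .nil)) .nil)) (.node 1 (.node 0 (.node 0 (.node
  0 (.node 0 (.node 0 (.node 0 (.node 0 .nil .nil) (.node 1 .nil .nil)) .nil) (.node 1 (.node 0
  (.node 0 (.node 0 .nil (.node 1 .nil .nil)) (.node 1 .nil .nil)) (.node 1 (.node 0 .nil .nil)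
  .nil)) .nil)) (.node 1 (.node 0 (.node 0 (.node 0 (.node 0 (.node 0 .nil .nil) (.node 1 (.node
  0 .nil .nil) .nil)) .nil) .nil) (.node 1 (.node 0 .nil (.node 1 (.node 1 (.node 0 .nil .nil)
  .nil) .nil)) .nil)) .nil)) (.node 1 (.node 0 (.node 0 .nil (.node 1 (.node 0 (.node 1 .nil
  .nil) (.node 1 (.node 1 (.node 0 (.node 0 .nil .nil) .nil) .nil) .nil)) .nil)) (.node 1 (.node
  0 (.node 0 (.node 0 (.node 1 .nil .nil) (.node 1 (.node 0 (.node 0 .nil (.node 1 .nil .nil))
  .nil) .nil)) (.node 1 (.node 1 (.node 0 (.node 1 .nil .nil) .nil) .nil) .nil)) (.node 1 (.node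
  0 (.node 0 (.node 0 .nil (.node 1 (.node 1 .nil .nil) .nil)) (.node 1 (.node 0 .nil .nil)
  .nil)) (.node 1 (.node 0 .nil .nil) .nil)) .nil)) .nil)) .nil)) (.node 1 (.node 0 (.node 0
  (.node 0 (.node 0 (.node 0 .nil .nil) (.node 1 (.node 0 (.node 0 (.node 1 .nil .nil) .nil)
  (.node 1 .nil .nil)) .nil)) (.node 1 (.node 0 (.node 0 .nil .nil) (.node 1 (.node 0 .nil
  (.node 1 (.node 0 .nil .nil) .nil)) .nil)) .nil)) (.node 1 (.node 0 (.node 0 (.node 0 (.node 0
  .nil .nil) .nil) (.node 1 (.node 0 (.node 0 (.node 1 .nil .nil) .nil) .nil) .nil)) (.node 1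
  (.node 0 .nil (.node 1 (.node 1 (.node 0 (.node 0 .nil .nil) .nil) .nil) .nil)) .nil)) .nil))
  (.node 1 (.node 0 (.node 0 (.node 0 (.node 0 (.node 1 .nil .nil) (.node 1 (.node 0 .nil .nil)
  .nil)) (.node 1 (.node 1 (.node 0 .nil (.node 1 .nil .nil)) .nil) .nil)) (.node 1 (.node 0
  (.node 0 .nil .nil) (.node 1 (.node 0 .nil (.node 1 .nil .nil)) .nil)) .nil)) .nil) .nil))
  .nil)) .nil)) .nil)) (.node 1 (.node 0 (.node 0 (.node 0 (.node 0 (.node 0 (.node 0 (.node 0
  (.node 1 (.node 0 .nil (.node 1 .nil .nil)) .nil) (.node 1 (.node 1 (.node 0 .nil .nil) .nil)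
  .nil)) (.node 1 (.node 0 (.node 0 (.node 1 .nil .nil) .nil) (.node 1 (.node 0 (.node 1 .nil
  .nil) .nil) .nil)) .nil)) (.node 1 (.node 0 (.node 0 (.node 0 .nil .nil) (.node 1 .nil .nil))
  (.node 1 (.node 0 .nil .nil) .nil)) .nil)) (.node 1 (.node 0 (.node 0 (.node 1 (.node 0 (.node
  0 .nil .nil) (.node 1 (.node 1 .nil .nil) .nil)) .nil) .nil) (.node 1 (.node 0 (.node 0 (.node
  0 (.node 0 .nil (.node 1 .nil .nil)) .nil) .nil) (.node 1 (.node 0 (.node 0 (.node 0 (.node 1
  .nil .nil) .nil) .nil) (.node 1 .nil .nil)) .nil)) .nil)) .nil)) (.node 1 (.node 0 (.node 0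
  (.node 0 (.node 1 (.node 0 .nil (.node 1 .nil .nil)) .nil) (.node 1 (.node 1 .nil .nil) .nil))
  .nil) (.node 1 (.node 0 (.node 0 (.node 0 .nil (.node 1 (.node 1 (.node 0 .nil .nil) .nil)
  .nil)) .nil) (.node 1 (.node 0 (.node 0 (.node 1 .nil .nil) .nil) (.node 1 (.node 0 (.node 0
  (.node 0 (.node 1 .nil .nil) .nil) .nil) .nil) .nil)) .nil)) .nil)) .nil)) (.node 1 (.node 0
  (.node 0 (.node 0 (.node 0 (.node 0 (.node 1 (.node 0 .nil .nil) .nil) (.node 1 (.node 1 .nil
  .nil) .nil)) (.node 1 (.node 0 (.node 1 .nil .nil) (.node 1 (.node 1 (.node 0 .nil (.node 1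
  .nil .nil)) .nil) .nil)) .nil)) (.node 1 (.node 0 (.node 1 .nil .nil) .nil) .nil)) (.node 1
  (.node 0 (.node 0 (.node 0 (.node 1 .nil .nil) (.node 1 (.node 0 (.node 1 .nil .nil) (.node 1
  (.node 1 .nil .nil) .nil)) .nil)) .nil) (.node 1 (.node 0 (.node 0 (.node 1 (.node 0 .nil
  (.node 1 .nil .nil)) .nil) .nil) (.node 1 (.node 0 (.node 0 .nil .nil) .nil) .nil)) .nil))
  .nil)) (.node 1 (.node 0 (.node 0 (.node 0 (.node 0 (.node 1 (.node 0 .nil .nil) .nil) (.node
  1 (.node 0 .nil (.node 1 .nil .nil)) .nil)) (.node 1 (.node 0 .nil (.node 1 (.node 0 (.node 0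
  (.node 1 .nil .nil) .nil) (.node 1 .nil .nil)) .nil)) .nil)) (.node 1 (.node 1 (.node 1 (.node
  0 (.node 1 .nil .nil) .nil) .nil) .nil) .nil)) (.node 1 (.node 0 (.node 0 (.node 0 (.node 0
  .nil (.node 1 .nil .nil)) (.node 1 (.node 0 (.node 1 .nil .nil) .nil) .nil)) (.node 1 (.node 0
  (.node 1 .nil .nil) (.node 1 (.node 1 .nil .nil) .nil)) .nil)) (.node 1 (.node 0 (.node 0
  (.node 0 (.node 1 (.node 1 .nil .nil) .nil) (.node 1 (.node 1 .nil .nil) .nil)) .nil) .nil)
  .nil)) .nil)) .nil)) .nil)) (.node 1 (.node 0 (.node 0 (.node 0 (.node 1 (.node 0 (.node 0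
  (.node 0 .nil .nil) (.node 1 (.node 0 (.node 0 (.node 0 .nil .nil) .nil) .nil) .nil)) (.node 1
  (.node 0 (.node 0 .nil (.node 1 .nil .nil)) .nil) .nil)) .nil) (.node 1 (.node 1 (.node 0 .nil
  (.node 1 (.node 0 (.node 1 (.node 1 .nil .nil) .nil) .nil) .nil)) .nil) .nil)) (.node 1 (.node
  1 (.node 0 (.node 0 (.node 0 (.node 0 .nil (.node 1 (.node 0 .nil (.node 1 .nil .nil)) .nil))
  (.node 1 .nil .nil)) (.node 1 (.node 1 (.node 0 .nil (.node 1 .nil .nil)) .nil) .nil)) (.node
  1 (.node 0 (.node 0 (.node 0 (.node 1 .nil .nil) (.node 1 (.node 1 .nil .nil) .nil)) (.node 1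
  .nil .nil)) (.node 1 .nil .nil)) .nil)) .nil) .nil)) (.node 1 (.node 0 (.node 1 (.node 0
  (.node 0 (.node 0 (.node 0 .nil (.node 1 .nil .nil)) (.node 1 (.node 0 .nil (.node 1 .nil
  .nil)) .nil)) (.node 1 (.node 0 (.node 0 (.node 0 .nil .nil) .nil) (.node 1 (.node 0 (.node 0
  .nil .nil) (.node 1 (.node 0 .nil .nil) .nil)) .nil)) .nil)) (.node 1 (.node 0 (.node 0 .nil
  (.node 1 (.node 1 .nil .nil) .nil)) (.node 1 (.node 0 (.node 0 (.node 1 .nil .nil) (.node 1
  .nil .nil)) (.node 1 (.node 0 (.node 0 .nil .nil) .nil) .nil)) .nil)) .nil)) .nil) (.node 1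
  (.node 0 (.node 0 (.node 0 (.node 0 (.node 0 (.node 0 (.node 0 .nil .nil) .nil) (.node 1 .nil
  .nil)) .nil) (.node 1 (.node 0 (.node 0 .nil (.node 1 (.node 1 .nil .nil) .nil)) (.node 1
  (.node 0 (.node 1 .nil .nil) (.node 1 (.node 0 .nil .nil) .nil)) .nil)) .nil)) (.node 1 (.node
  0 (.node 0 .nil (.node 1 (.node 0 .nil (.node 1 (.node 1 (.node 0 .nil .nil) .nil) .nil))
  .nil)) (.node 1 (.node 0 (.node 0 (.node 0 .nil (.node 1 .nil .nil)) .nil) (.node 1 (.node 0
  (.node 0 (.node 0 .nil .nil) (.node 1 .nil .nil)) (.node 1 .nil .nil)) .nil)) .nil)) .nil))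
  .nil) .nil)) .nil)) .nil)) .nil)

/-- Root of class 3. -/
def cfgSextetTrioRep3 : List ℕ := [8391797, 307594, 8077824]

/-- Spanning tree of class 3. -/
def cfgSextetTrioTree3 : OTree :=
  .node 0 (.node 0 (.node 0 (.node 0 (.node 0 (.node 0 (.node 0 (.node 1 (.node 0 (.node 0
  (.node 0 .nil .nil) (.node 1 (.node 0 .nil (.node 1 (.node 0 .nil .nil) .nil)) .nil)) (.node 1
  (.node 0 (.node 0 (.node 0 .nil .nil) .nil) (.node 1 (.node 0 (.node 0 (.node 1 .nil .nil)
  (.node 1 (.node 1 .nil .nil) .nil)) (.node 1 (.node 0 .nil .nil) .nil)) .nil)) .nil)) .nil)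
  (.node 1 (.node 0 (.node 0 (.node 0 .nil (.node 1 (.node 0 (.node 0 (.node 0 .nil .nil) .nil)
  (.node 1 (.node 1 .nil .nil) .nil)) .nil)) (.node 1 (.node 0 (.node 0 .nil (.node 1 .nil
  .nil)) (.node 1 (.node 0 (.node 1 .nil .nil) (.node 1 (.node 0 (.node 1 .nil .nil) (.node 1
  .nil .nil)) .nil)) .nil)) .nil)) (.node 1 (.node 0 (.node 0 (.node 1 (.node 1 .nil .nil) .nil)
  (.node 1 .nil .nil)) (.node 1 (.node 0 (.node 0 (.node 0 .nil .nil) .nil) (.node 1 (.node 0
  (.node 0 (.node 1 (.node 1 .nil .nil) .nil) .nil) .nil) .nil)) .nil)) .nil)) .nil)) (.node 1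
  (.node 0 (.node 0 (.node 0 (.node 0 (.node 0 (.node 1 .nil .nil) .nil) (.node 1 (.node 0
  (.node 0 (.node 1 .nil .nil) .nil) (.node 1 (.node 1 .nil .nil) .nil)) .nil)) (.node 1 (.node
  0 (.node 0 (.node 0 .nil .nil) (.node 1 (.node 0 (.node 0 (.node 1 .nil .nil) .nil) .nil)
  .nil)) (.node 1 (.node 0 (.node 1 (.node 1 .nil .nil) .nil) (.node 1 (.node 0 (.node 0 .nil
  (.node 1 .nil .nil)) .nil) .nil)) .nil)) .nil)) (.node 1 (.node 0 (.node 0 (.node 0 (.node 0
  (.node 1 .nil .nil) .nil) (.node 1 (.node 0 .nil .nil) .nil)) (.node 1 (.node 0 .nil (.node 1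
  (.node 0 (.node 1 .nil .nil) (.node 1 (.node 0 .nil .nil) .nil)) .nil)) .nil)) (.node 1 (.node
  0 (.node 0 (.node 0 (.node 1 .nil .nil) (.node 1 .nil .nil)) .nil) .nil) .nil)) .nil)) (.node
  1 (.node 0 (.node 0 (.node 0 (.node 0 (.node 0 (.node 0 .nil .nil) .nil) .nil) (.node 1 (.node
  0 .nil (.node 1 (.node 1 .nil .nil) .nil)) .nil)) (.node 1 (.node 0 (.node 1 (.node 1 (.node 0
  .nil .nil) .nil) .nil) (.node 1 (.node 1 (.node 0 (.node 1 (.node 1 .nil .nil) .nil) .nil)
  .nil) .nil)) .nil)) (.node 1 (.node 0 (.node 0 (.node 0 (.node 0 (.node 0 .nil (.node 1 .nil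
  .nil)) (.node 1 .nil .nil)) (.node 1 (.node 1 (.node 1 .nil .nil) .nil) .nil)) (.node 1 (.node
  1 (.node 1 (.node 0 (.node 0 .nil .nil) .nil) .nil) .nil) .nil)) (.node 1 (.node 0 .nil .nil)
  .nil)) .nil)) .nil)) .nil)) (.node 1 (.node 0 (.node 0 (.node 0 (.node 0 (.node 0 (.node 1
  (.node 0 (.node 1 .nil .nil) (.node 1 .nil .nil)) .nil) .nil) (.node 1 (.node 0 (.node 0
  (.node 0 .nil (.node 1 (.node 1 .nil .nil) .nil)) .nil) (.node 1 (.node 1 (.node 0 (.node 1
  .nil .nil) (.node 1 (.node 0 .nil .nil) .nil)) .nil) .nil)) .nil)) (.node 1 (.node 0 (.node 0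
  (.node 0 .nil (.node 1 .nil .nil)) .nil) (.node 1 (.node 0 (.node 0 (.node 1 .nil .nil) (.node
  1 (.node 0 (.node 0 .nil .nil) (.node 1 .nil .nil)) .nil)) (.node 1 (.node 0 (.node 1 .nil
  .nil) (.node 1 (.node 0 (.node 1 .nil .nil) .nil) .nil)) .nil)) .nil)) .nil)) (.node 1 (.node
  0 (.node 0 (.node 0 (.node 0 (.node 0 .nil (.node 1 (.node 1 .nil .nil) .nil)) (.node 1 (.node
  0 (.node 1 .nil .nil) .nil) .nil)) (.node 1 .nil .nil)) (.node 1 (.node 0 (.node 0 (.node 0
  (.node 1 .nil .nil) (.node 1 (.node 1 (.node 0 .nil (.node 1 .nil .nil)) .nil) .nil)) .nil)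
  (.node 1 (.node 1 (.node 0 (.node 1 .nil .nil) .nil) .nil) .nil)) .nil)) (.node 1 (.node 0
  (.node 0 (.node 0 (.node 0 (.node 0 .nil .nil) .nil) (.node 1 (.node 0 (.node 0 .nil .nil)
  (.node 1 .nil .nil)) .nil)) (.node 1 (.node 0 (.node 1 (.node 1 .nil .nil) .nil) (.node 1
  (.node 0 .nil (.node 1 .nil .nil)) .nil)) .nil)) .nil) .nil)) .nil)) (.node 1 (.node 0 (.node
  0 (.node 0 (.node 0 (.node 0 .nil (.node 1 (.node 0 .nil .nil) .nil)) (.node 1 (.node 0 (.node
  0 (.node 0 .nil .nil) .nil) .nil) .nil)) (.node 1 (.node 0 (.node 0 .nil (.node 1 (.node 1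
  (.node 1 .nil .nil) .nil) .nil)) (.node 1 (.node 0 (.node 1 .nil .nil) (.node 1 (.node 0 .nil
  .nil) .nil)) .nil)) .nil)) (.node 1 (.node 0 (.node 0 (.node 0 (.node 0 .nil (.node 1 .nil
  .nil)) (.node 1 (.node 0 .nil .nil) .nil)) (.node 1 (.node 0 (.node 0 (.node 1 .nil .nil)
  .nil) (.node 1 (.node 1 .nil .nil) .nil)) .nil)) (.node 1 (.node 0 (.node 0 (.node 0 .nil
  .nil) (.node 1 (.node 0 (.node 0 .nil .nil) .nil) .nil)) (.node 1 .nil .nil)) .nil)) .nil))
  (.node 1 (.node 0 (.node 0 (.node 0 (.node 0 (.node 0 .nil .nil) (.node 1 (.node 0 .nil .nil)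
  .nil)) .nil) (.node 1 (.node 0 (.node 0 (.node 0 (.node 1 .nil .nil) .nil) (.node 1 (.node 0
  .nil .nil) .nil)) (.node 1 (.node 0 (.node 0 .nil (.node 1 (.node 1 .nil .nil) .nil)) .nil)
  .nil)) .nil)) (.node 1 (.node 0 (.node 1 (.node 0 (.node 0 .nil .nil) (.node 1 .nil .nil))
  .nil) .nil) .nil)) .nil)) .nil)) .nil)) (.node 1 (.node 0 (.node 0 (.node 0 (.node 0 (.node 0
  (.node 0 (.node 1 (.node 0 (.node 0 .nil .nil) .nil) .nil) (.node 1 (.node 0 .nil (.node 1
  (.node 0 (.node 0 .nil .nil) .nil) .nil)) .nil)) (.node 1 (.node 0 (.node 0 (.node 0 (.node 0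
  .nil .nil) (.node 1 .nil .nil)) (.node 1 (.node 0 .nil .nil) .nil)) .nil) .nil)) (.node 1
  (.node 0 (.node 0 (.node 0 (.node 0 (.node 0 .nil .nil) (.node 1 .nil .nil)) .nil) (.node 1
  (.node 0 (.node 0 (.node 1 .nil .nil) (.node 1 .nil .nil)) (.node 1 (.node 1 .nil .nil) .nil))
  .nil)) (.node 1 (.node 0 (.node 0 .nil (.node 1 (.node 0 .nil .nil) .nil)) .nil) .nil)) .nil))
  (.node 1 (.node 0 (.node 0 (.node 0 (.node 0 (.node 0 .nil .nil) (.node 1 .nil .nil)) (.node 1
  (.node 0 (.node 0 .nil .nil) .nil) .nil)) (.node 1 (.node 1 (.node 0 (.node 0 .nil .nil) .nil)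
  .nil) .nil)) (.node 1 (.node 0 (.node 0 (.node 0 .nil .nil) (.node 1 (.node 0 (.node 0 .nil
  (.node 1 .nil .nil)) .nil) .nil)) (.node 1 (.node 0 (.node 0 (.node 0 .nil (.node 1 .nil
  .nil)) .nil) .nil) .nil)) .nil)) .nil)) (.node 1 (.node 0 (.node 0 (.node 0 (.node 0 (.node 0
  (.node 1 .nil .nil) (.node 1 (.node 0 (.node 1 .nil .nil) (.node 1 .nil .nil)) .nil)) (.node 1
  (.node 0 (.node 1 (.node 1 .nil .nil) .nil) .nil) .nil)) (.node 1 (.node 0 (.node 0 (.node 0
  (.node 0 .nil .nil) (.node 1 (.node 0 .nil .nil) .nil)) (.node 1 .nil .nil)) (.node 1 (.node 1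
  .nil .nil) .nil)) .nil)) .nil) (.node 1 (.node 0 (.node 0 (.node 0 (.node 0 (.node 0 .nil
  .nil) .nil) .nil) (.node 1 (.node 0 (.node 1 (.node 0 .nil (.node 1 .nil .nil)) .nil) (.node 1
  (.node 0 .nil (.node 1 (.node 0 (.node 1 .nil .nil) .nil) .nil)) .nil)) .nil)) (.node 1 (.node
  0 (.node 0 (.node 1 (.node 1 .nil .nil) .nil) .nil) (.node 1 (.node 0 (.node 0 (.node 0 .nil
  (.node 1 .nil .nil)) (.node 1 (.node 1 .nil .nil) .nil)) .nil) .nil)) .nil)) .nil)) .nil))
  (.node 1 (.node 0 (.node 0 (.node 0 (.node 0 (.node 0 (.node 0 .nil .nil) (.node 1 (.node 0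
  (.node 0 .nil (.node 1 (.node 0 .nil .nil) .nil)) (.node 1 (.node 1 (.node 1 (.node 0 .nil
  .nil) .nil) .nil) .nil)) .nil)) (.node 1 (.node 0 (.node 0 (.node 1 .nil .nil) (.node 1 (.node
  0 (.node 0 .nil .nil) (.node 1 (.node 1 (.node 1 .nil .nil) .nil) .nil)) .nil)) (.node 1
  (.node 1 (.node 0 (.node 0 (.node 0 .nil .nil) (.node 1 .nil .nil)) (.node 1 .nil .nil)) .nil)
  .nil)) .nil)) (.node 1 (.node 0 (.node 0 (.node 0 (.node 0 (.node 1 .nil .nil) (.node 1 (.node
  1 .nil .nil) .nil)) (.node 1 .nil .nil)) .nil) (.node 1 (.node 0 (.node 0 (.node 0 .nil (.node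
  1 (.node 0 .nil .nil) .nil)) .nil) (.node 1 (.node 0 (.node 0 .nil .nil) (.node 1 (.node 0
  (.node 1 .nil .nil) .nil) .nil)) .nil)) .nil)) .nil)) (.node 1 (.node 0 (.node 1 (.node 0
  (.node 0 (.node 0 .nil (.node 1 (.node 0 .nil .nil) .nil)) (.node 1 .nil .nil)) (.node 1
  (.node 0 (.node 0 (.node 0 .nil .nil) .nil) (.node 1 .nil .nil)) .nil)) .nil) (.node 1 (.node
  0 (.node 0 (.node 1 (.node 0 (.node 0 .nil (.node 1 .nil .nil)) .nil) .nil) (.node 1 (.node 0
  (.node 1 (.node 0 .nil .nil) .nil) (.node 1 (.node 1 .nil .nil) .nil)) .nil)) (.node 1 (.node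
  0 (.node 0 (.node 0 .nil .nil) (.node 1 .nil .nil)) (.node 1 (.node 0 .nil .nil) .nil)) .nil))
  .nil)) .nil)) (.node 1 (.node 0 (.node 0 (.node 0 (.node 1 (.node 0 (.node 1 .nil .nil) (.node
  1 (.node 1 (.node 1 .nil .nil) .nil) .nil)) .nil) (.node 1 (.node 0 (.node 0 (.node 0 (.node 0
  (.node 1 .nil .nil) (.node 1 .nil .nil)) (.node 1 .nil .nil)) .nil) (.node 1 (.node 0 (.node 0
  (.node 1 (.node 0 .nil .nil) .nil) .nil) (.node 1 .nil .nil)) .nil)) .nil)) (.node 1 (.node 1
  (.node 0 (.node 1 (.node 0 (.node 0 .nil .nil) (.node 1 (.node 0 .nil .nil) .nil)) .nil) .nil)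
  .nil) .nil)) (.node 1 (.node 0 (.node 0 (.node 0 (.node 0 (.node 0 (.node 0 .nil (.node 1 .nil
  .nil)) (.node 1 (.node 0 .nil .nil) .nil)) (.node 1 .nil .nil)) (.node 1 (.node 0 .nil .nil)
  .nil)) (.node 1 (.node 1 (.node 0 (.node 1 .nil .nil) (.node 1 (.node 0 (.node 1 .nil .nil)
  .nil) .nil)) .nil) .nil)) .nil) .nil)) .nil)) .nil)) .nil)) (.node 1 (.node 0 (.node 0 (.node
  0 (.node 0 (.node 1 (.node 0 (.node 0 (.node 0 (.node 0 .nil .nil) (.node 1 (.node 0 .nil
  (.node 1 (.node 1 .nil .nil) .nil)) .nil)) (.node 1 (.node 1 (.node 0 .nil .nil) .nil) .nil))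
  (.node 1 (.node 1 (.node 0 (.node 0 (.node 1 .nil .nil) .nil) (.node 1 .nil .nil)) .nil)
  .nil)) .nil) (.node 1 (.node 0 (.node 0 (.node 1 (.node 0 (.node 1 (.node 0 (.node 0 .nil
  .nil) .nil) .nil) .nil) .nil) (.node 1 (.node 0 (.node 1 (.node 0 .nil (.node 1 .nil .nil))
  .nil) (.node 1 (.node 0 (.node 0 .nil .nil) .nil) .nil)) .nil)) (.node 1 (.node 0 (.node 0
  (.node 0 (.node 1 .nil .nil) (.node 1 .nil .nil)) (.node 1 (.node 1 (.node 0 (.node 1 .nil
  .nil) .nil) .nil) .nil)) .nil) .nil)) .nil)) (.node 1 (.node 0 (.node 0 (.node 0 (.node 0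
  (.node 0 .nil (.node 1 (.node 1 .nil .nil) .nil)) (.node 1 (.node 0 .nil .nil) .nil)) (.node 1
  (.node 0 (.node 1 .nil .nil) (.node 1 (.node 0 (.node 0 (.node 1 (.node 1 .nil .nil) .nil)
  (.node 1 .nil .nil)) (.node 1 (.node 1 (.node 0 .nil .nil) .nil) .nil)) .nil)) .nil)) (.node 1
  (.node 0 (.node 1 (.node 1 .nil .nil) .nil) (.node 1 (.node 0 (.node 1 (.node 0 .nil .nil)
  .nil) (.node 1 (.node 0 (.node 0 .nil .nil) (.node 1 (.node 0 (.node 1 .nil .nil) .nil) .nil))
  .nil)) .nil)) .nil)) (.node 1 (.node 0 (.node 0 (.node 0 (.node 0 (.node 1 .nil .nil) (.node 1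
  (.node 0 .nil (.node 1 (.node 1 .nil .nil) .nil)) .nil)) (.node 1 (.node 1 (.node 0 .nil
  (.node 1 .nil .nil)) .nil) .nil)) (.node 1 (.node 0 (.node 0 (.node 1 .nil .nil) (.node 1
  (.node 1 (.node 0 .nil .nil) .nil) .nil)) (.node 1 (.node 0 (.node 0 (.node 1 (.node 0 .nil
  .nil) .nil) (.node 1 .nil .nil)) .nil) .nil)) .nil)) (.node 1 (.node 0 (.node 0 (.node 1
  (.node 0 .nil (.node 1 (.node 0 .nil .nil) .nil)) .nil) (.node 1 (.node 0 (.node 0 (.node 0
  .nil .nil) (.node 1 (.node 1 .nil .nil) .nil)) (.node 1 (.node 1 .nil .nil) .nil)) .nil))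
  (.node 1 (.node 0 (.node 0 (.node 1 .nil .nil) .nil) .nil) .nil)) .nil)) .nil)) .nil)) (.node
  1 (.node 0 (.node 0 (.node 0 (.node 0 (.node 0 (.node 0 (.node 0 .nil (.node 1 .nil .nil))
  .nil) .nil) (.node 1 (.node 0 (.node 0 (.node 1 .nil .nil) (.node 1 (.node 0 .nil (.node 1
  (.node 0 (.node 1 .nil .nil) .nil) .nil)) .nil)) (.node 1 (.node 0 .nil .nil) .nil)) .nil))
  (.node 1 (.node 0 (.node 0 (.node 0 .nil (.node 1 (.node 0 .nil (.node 1 (.node 1 .nil .nil)
  .nil)) .nil)) (.node 1 (.node 0 .nil (.node 1 .nil .nil)) .nil)) (.node 1 (.node 0 (.node 1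
  .nil .nil) .nil) .nil)) .nil)) (.node 1 (.node 0 (.node 0 (.node 0 (.node 0 (.node 1 .nil
  .nil) (.node 1 (.node 1 .nil .nil) .nil)) (.node 1 (.node 0 .nil .nil) .nil)) (.node 1 (.node
  0 (.node 0 (.node 0 .nil .nil) (.node 1 (.node 0 (.node 0 .nil .nil) .nil) .nil)) (.node 1
  (.node 0 .nil (.node 1 (.node 0 .nil (.node 1 (.node 0 .nil .nil) .nil)) .nil)) .nil)) .nil))
  (.node 1 (.node 0 (.node 0 (.node 0 (.node 1 .nil .nil) .nil) (.node 1 .nil .nil)) (.node 1
  (.node 1 .nil .nil) .nil)) .nil)) .nil)) (.node 1 (.node 0 (.node 0 (.node 0 (.node 1 (.node 0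
  (.node 0 .nil (.node 1 (.node 0 (.node 0 .nil .nil) .nil) .nil)) (.node 1 (.node 0 .nil (.node
  1 .nil .nil)) .nil)) .nil) (.node 1 (.node 0 (.node 1 (.node 1 .nil .nil) .nil) (.node 1
  (.node 0 .nil (.node 1 (.node 1 .nil .nil) .nil)) .nil)) .nil)) (.node 1 (.node 0 (.node 0
  (.node 0 (.node 1 (.node 0 .nil .nil) .nil) (.node 1 (.node 0 .nil (.node 1 (.node 0 (.node 0
  .nil .nil) (.node 1 (.node 0 .nil .nil) .nil)) .nil)) .nil)) (.node 1 (.node 0 (.node 0 .nil
  (.node 1 (.node 0 .nil (.node 1 .nil .nil)) .nil)) .nil) .nil)) (.node 1 (.node 0 (.node 0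
  (.node 0 .nil .nil) .nil) (.node 1 (.node 0 (.node 0 .nil .nil) (.node 1 .nil .nil)) .nil))
  .nil)) .nil)) (.node 1 (.node 0 (.node 0 (.node 0 (.node 0 (.node 1 (.node 1 (.node 0 .nil
  .nil) .nil) .nil) (.node 1 .nil .nil)) (.node 1 (.node 0 (.node 0 .nil (.node 1 .nil .nil))
  .nil) .nil)) (.node 1 (.node 0 (.node 0 (.node 0 .nil .nil) (.node 1 (.node 0 .nil (.node 1
  .nil .nil)) .nil)) .nil) .nil)) (.node 1 (.node 0 (.node 0 (.node 0 (.node 1 .nil .nil) .nil)
  (.node 1 (.node 0 (.node 0 (.node 1 .nil .nil) (.node 1 (.node 1 .nil .nil) .nil)) .nil)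
  .nil)) .nil) .nil)) .nil)) .nil)) .nil)) (.node 1 (.node 0 (.node 0 (.node 0 (.node 0 (.node 0
  (.node 0 (.node 0 .nil (.node 1 .nil .nil)) .nil) (.node 1 (.node 0 (.node 0 .nil .nil) (.node
  1 (.node 0 (.node 1 (.node 0 .nil .nil) .nil) (.node 1 (.node 0 .nil (.node 1 .nil .nil))
  .nil)) .nil)) .nil)) (.node 1 (.node 0 (.node 0 (.node 0 (.node 0 (.node 1 .nil .nil) .nil)
  (.node 1 (.node 1 (.node 1 .nil .nil) .nil) .nil)) (.node 1 (.node 0 .nil .nil) .nil)) (.node
  1 .nil .nil)) .nil)) .nil) (.node 1 (.node 0 (.node 0 (.node 0 (.node 0 (.node 0 (.node 0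
  (.node 1 .nil .nil) .nil) (.node 1 .nil .nil)) (.node 1 (.node 0 .nil (.node 1 (.node 0 (.node
  0 (.node 0 .nil .nil) .nil) (.node 1 (.node 1 .nil .nil) .nil)) .nil)) .nil)) (.node 1 (.node
  0 (.node 1 (.node 0 (.node 1 .nil .nil) .nil) .nil) (.node 1 (.node 0 (.node 0 .nil (.node 1
  (.node 1 .nil .nil) .nil)) .nil) .nil)) .nil)) (.node 1 (.node 0 (.node 1 (.node 0 (.node 0
  (.node 0 .nil .nil) .nil) .nil) .nil) (.node 1 (.node 1 .nil .nil) .nil)) .nil)) (.node 1
  (.node 0 (.node 0 (.node 0 (.node 0 (.node 0 (.node 1 .nil .nil) .nil) .nil) (.node 1 (.node 1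
  (.node 1 (.node 1 .nil .nil) .nil) .nil) .nil)) (.node 1 (.node 0 (.node 1 .nil .nil) (.node 1
  (.node 0 (.node 0 .nil (.node 1 .nil .nil)) .nil) .nil)) .nil)) (.node 1 (.node 0 (.node 0
  (.node 0 .nil (.node 1 .nil .nil)) .nil) (.node 1 (.node 0 (.node 0 (.node 1 .nil .nil) (.node
  1 .nil .nil)) .nil) .nil)) .nil)) .nil)) .nil)) (.node 1 (.node 0 (.node 1 (.node 0 (.node 0
  .nil (.node 1 (.node 0 .nil (.node 1 (.node 1 (.node 1 (.node 0 .nil .nil) .nil) .nil) .nil))
  .nil)) (.node 1 (.node 0 (.node 0 (.node 0 (.node 0 .nil (.node 1 .nil .nil)) (.node 1 (.node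
  0 (.node 0 .nil (.node 1 .nil .nil)) (.node 1 (.node 0 .nil .nil) .nil)) .nil)) (.node 1
  (.node 0 (.node 1 .nil .nil) (.node 1 .nil .nil)) .nil)) (.node 1 (.node 0 (.node 1 (.node 0
  .nil (.node 1 .nil .nil)) .nil) (.node 1 (.node 0 (.node 0 .nil .nil) .nil) .nil)) .nil))
  .nil)) .nil) (.node 1 (.node 0 (.node 0 (.node 0 (.node 0 (.node 0 .nil (.node 1 (.node 1 .nil
  .nil) .nil)) (.node 1 (.node 0 .nil .nil) .nil)) (.node 1 (.node 0 (.node 0 (.node 1 .nil
  .nil) (.node 1 (.node 0 (.node 0 .nil .nil) (.node 1 (.node 0 .nil (.node 1 .nil .nil)) .nil))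
  .nil)) (.node 1 (.node 0 .nil (.node 1 (.node 1 .nil .nil) .nil)) .nil)) .nil)) (.node 1
  (.node 0 (.node 0 (.node 0 (.node 1 .nil .nil) (.node 1 (.node 0 .nil .nil) .nil)) (.node 1
  (.node 0 (.node 0 (.node 0 .nil .nil) .nil) (.node 1 .nil .nil)) .nil)) (.node 1 (.node 0
  (.node 0 (.node 0 (.node 0 .nil .nil) (.node 1 (.node 0 .nil .nil) .nil)) .nil) (.node 1
  (.node 1 (.node 0 .nil .nil) .nil) .nil)) .nil)) .nil)) .nil) .nil)) .nil)) .nil)) .nil))
  (.node 1 (.node 0 (.node 0 (.node 0 (.node 0 (.node 0 (.node 0 (.node 0 (.node 1 (.node 0 .nil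
  .nil) .nil) .nil) (.node 1 (.node 0 (.node 0 (.node 0 (.node 0 .nil (.node 1 (.node 0 .nil
  .nil) .nil)) (.node 1 (.node 0 (.node 1 .nil .nil) (.node 1 .nil .nil)) .nil)) (.node 1 (.node
  0 (.node 0 .nil (.node 1 .nil .nil)) .nil) .nil)) .nil) .nil)) (.node 1 (.node 0 (.node 0
  (.node 0 (.node 0 (.node 0 (.node 1 .nil .nil) (.node 1 .nil .nil)) .nil) (.node 1 (.node 0
  (.node 0 .nil (.node 1 .nil .nil)) .nil) .nil)) (.node 1 (.node 0 (.node 1 (.node 0 .nil
  (.node 1 .nil .nil)) .nil) (.node 1 .nil .nil)) .nil)) (.node 1 (.node 0 (.node 0 (.node 0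
  .nil (.node 1 .nil .nil)) (.node 1 .nil .nil)) (.node 1 (.node 0 (.node 0 (.node 1 .nil .nil)
  (.node 1 (.node 1 .nil .nil) .nil)) (.node 1 .nil .nil)) .nil)) .nil)) .nil)) (.node 1 (.node
  0 (.node 0 (.node 0 (.node 0 (.node 0 .nil (.node 1 (.node 0 .nil .nil) .nil)) .nil) (.node 1
  .nil .nil)) (.node 1 (.node 0 (.node 0 (.node 0 (.node 0 (.node 1 .nil .nil) .nil) (.node 1
  (.node 1 (.node 0 .nil .nil) .nil) .nil)) (.node 1 (.node 0 (.node 1 .nil .nil) (.node 1
  (.node 0 (.node 1 .nil .nil) (.node 1 .nil .nil)) .nil)) .nil)) (.node 1 (.node 0 (.node 0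
  .nil (.node 1 (.node 0 .nil .nil) .nil)) (.node 1 (.node 1 (.node 0 (.node 1 .nil .nil) .nil)
  .nil) .nil)) .nil)) .nil)) (.node 1 (.node 0 (.node 1 (.node 0 .nil (.node 1 (.node 0 (.node 1
  .nil .nil) .nil) .nil)) .nil) (.node 1 (.node 0 (.node 1 .nil .nil) (.node 1 (.node 0 (.node 0
  .nil (.node 1 (.node 1 (.node 0 .nil .nil) .nil) .nil)) .nil) .nil)) .nil)) .nil)) .nil))
  (.node 1 (.node 0 (.node 0 (.node 0 (.node 0 (.node 1 .nil .nil) (.node 1 (.node 0 (.node 0
  .nil (.node 1 (.node 1 .nil .nil) .nil)) (.node 1 (.node 0 (.node 1 .nil .nil) (.node 1 (.node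
  0 .nil .nil) .nil)) .nil)) .nil)) .nil) (.node 1 (.node 0 (.node 0 (.node 1 (.node 0 .nil
  (.node 1 (.node 1 (.node 1 .nil .nil) .nil) .nil)) .nil) (.node 1 (.node 0 (.node 1 .nil .nil)
  (.node 1 (.node 0 (.node 0 .nil .nil) .nil) .nil)) .nil)) (.node 1 (.node 0 (.node 0 (.node 0
  (.node 0 .nil .nil) .nil) .nil) .nil) .nil)) .nil)) (.node 1 (.node 0 (.node 0 (.node 0 (.node
  1 (.node 0 .nil .nil) .nil) (.node 1 (.node 0 (.node 1 (.node 0 .nil (.node 1 .nil .nil))
  .nil) (.node 1 (.node 0 (.node 0 (.node 0 .nil (.node 1 .nil .nil)) .nil) .nil) .nil)) .nil))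
  (.node 1 (.node 0 (.node 0 (.node 0 .nil .nil) (.node 1 (.node 0 .nil (.node 1 .nil .nil))
  .nil)) (.node 1 (.node 0 (.node 1 (.node 1 .nil .nil) .nil) (.node 1 (.node 0 (.node 0 .nil
  (.node 1 (.node 0 .nil .nil) .nil)) .nil) .nil)) .nil)) .nil)) (.node 1 (.node 0 (.node 0
  (.node 0 (.node 1 (.node 0 .nil .nil) .nil) (.node 1 (.node 1 .nil .nil) .nil)) (.node 1
  (.node 0 (.node 0 (.node 1 .nil .nil) (.node 1 (.node 0 .nil .nil) .nil)) .nil) .nil)) (.node
  1 (.node 0 (.node 0 (.node 0 .nil (.node 1 (.node 0 (.node 0 .nil (.node 1 .nil .nil)) .nil)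
  .nil)) (.node 1 (.node 0 (.node 1 .nil .nil) (.node 1 (.node 0 (.node 0 .nil (.node 1 .nil
  .nil)) (.node 1 .nil .nil)) .nil)) .nil)) .nil) .nil)) .nil)) .nil)) .nil)) (.node 1 (.node 0
  (.node 0 (.node 0 (.node 0 (.node 1 (.node 0 (.node 0 .nil .nil) (.node 1 (.node 0 (.node 0
  .nil .nil) (.node 1 (.node 0 (.node 0 .nil (.node 1 .nil .nil)) .nil) .nil)) .nil)) .nil)
  (.node 1 (.node 0 (.node 0 (.node 1 .nil .nil) (.node 1 (.node 1 .nil .nil) .nil)) (.node 1
  (.node 0 (.node 0 .nil (.node 1 .nil .nil)) .nil) .nil)) .nil)) (.node 1 (.node 0 (.node 0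
  (.node 0 (.node 1 (.node 0 (.node 0 .nil .nil) (.node 1 .nil .nil)) .nil) (.node 1 (.node 0
  (.node 0 .nil (.node 1 .nil .nil)) .nil) .nil)) (.node 1 (.node 0 (.node 0 (.node 1 .nil .nil)
  .nil) .nil) .nil)) (.node 1 (.node 0 (.node 1 (.node 1 (.node 0 .nil .nil) .nil) .nil) (.node
  1 (.node 1 .nil .nil) .nil)) .nil)) .nil)) (.node 1 (.node 0 (.node 0 (.node 0 (.node 0 .nil
  (.node 1 (.node 1 (.node 1 (.node 0 .nil (.node 1 .nil .nil)) .nil) .nil) .nil)) (.node 1
  (.node 0 (.node 0 (.node 0 .nil (.node 1 (.node 0 .nil (.node 1 .nil .nil)) .nil)) (.node 1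
  (.node 0 (.node 1 (.node 0 .nil .nil) .nil) (.node 1 (.node 0 .nil .nil) .nil)) .nil)) .nil)
  .nil)) (.node 1 (.node 0 (.node 0 (.node 0 .nil (.node 1 .nil .nil)) (.node 1 (.node 0 (.node
  0 (.node 0 .nil .nil) .nil) (.node 1 .nil .nil)) .nil)) .nil) .nil)) (.node 1 (.node 0 (.node
  0 (.node 0 (.node 1 (.node 0 (.node 1 .nil .nil) .nil) .nil) (.node 1 (.node 0 (.node 1 .nil
  .nil) (.node 1 (.node 1 (.node 1 .nil .nil) .nil) .nil)) .nil)) (.node 1 (.node 0 .nil (.node
  1 (.node 0 (.node 0 .nil (.node 1 (.node 1 .nil .nil) .nil)) (.node 1 .nil .nil)) .nil))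
  .nil)) (.node 1 (.node 0 (.node 0 (.node 0 (.node 0 .nil (.node 1 .nil .nil)) (.node 1 (.node
  1 .nil .nil) .nil)) (.node 1 (.node 1 (.node 0 .nil .nil) .nil) .nil)) .nil) .nil)) .nil))
  .nil)) (.node 1 (.node 1 (.node 0 (.node 0 (.node 0 (.node 0 (.node 1 (.node 1 .nil .nil)
  .nil) (.node 1 (.node 1 (.node 1 (.node 0 .nil .nil) .nil) .nil) .nil)) (.node 1 (.node 0
  (.node 0 (.node 0 .nil .nil) (.node 1 (.node 1 (.node 0 .nil .nil) .nil) .nil)) (.node 1 .nil
  .nil)) .nil)) (.node 1 (.node 0 (.node 0 (.node 1 .nil .nil) .nil) (.node 1 (.node 0 .nil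
  (.node 1 (.node 0 .nil .nil) .nil)) .nil)) .nil)) (.node 1 (.node 0 (.node 0 (.node 1 (.node 0
  (.node 0 (.node 1 .nil .nil) (.node 1 .nil .nil)) .nil) .nil) (.node 1 (.node 0 (.node 0 .nil
  (.node 1 .nil .nil)) (.node 1 (.node 1 .nil .nil) .nil)) .nil)) .nil) .nil)) .nil) .nil))
  .nil)) (.node 1 (.node 0 (.node 0 (.node 0 (.node 0 (.node 0 (.node 0 (.node 0 (.node 1 .nil
  .nil) (.node 1 (.node 0 (.node 0 .nil (.node 1 (.node 0 (.node 0 .nil .nil) .nil) .nil))
  (.node 1 (.node 0 (.node 1 .nil .nil) .nil) .nil)) .nil)) (.node 1 (.node 0 (.node 0 .nil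
  (.node 1 .nil .nil)) (.node 1 (.node 0 (.node 0 (.node 0 .nil (.node 1 .nil .nil)) (.node 1
  (.node 1 .nil .nil) .nil)) (.node 1 (.node 0 .nil (.node 1 (.node 0 .nil .nil) .nil)) .nil))
  .nil)) .nil)) (.node 1 (.node 0 (.node 0 (.node 0 (.node 0 (.node 0 .nil .nil) .nil) (.node 1
  .nil .nil)) (.node 1 (.node 0 (.node 0 .nil .nil) (.node 1 (.node 0 (.node 1 .nil .nil) .nil)
  .nil)) .nil)) (.node 1 (.node 0 (.node 0 .nil .nil) (.node 1 (.node 1 (.node 0 .nil .nil)
  .nil) .nil)) .nil)) .nil)) (.node 1 (.node 0 (.node 0 (.node 0 (.node 1 (.node 1 .nil .nil)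
  .nil) (.node 1 .nil .nil)) (.node 1 (.node 0 (.node 0 (.node 0 .nil .nil) .nil) .nil) .nil))
  (.node 1 (.node 0 (.node 1 (.node 0 (.node 0 .nil (.node 1 .nil .nil)) (.node 1 (.node 1 .nil
  .nil) .nil)) .nil) (.node 1 (.node 0 (.node 0 .nil (.node 1 (.node 0 (.node 0 .nil .nil)
  (.node 1 .nil .nil)) .nil)) .nil) .nil)) .nil)) .nil)) (.node 1 (.node 0 (.node 0 (.node 0
  (.node 0 (.node 0 (.node 0 .nil .nil) (.node 1 .nil .nil)) (.node 1 (.node 0 (.node 0 (.node 0
  (.node 0 .nil .nil) (.node 1 .nil .nil)) (.node 1 .nil .nil)) (.node 1 (.node 1 .nil .nil)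
  .nil)) .nil)) (.node 1 (.node 0 .nil .nil) .nil)) (.node 1 (.node 0 (.node 1 (.node 0 .nil
  (.node 1 (.node 0 (.node 0 .nil .nil) .nil) .nil)) .nil) (.node 1 (.node 0 .nil (.node 1
  (.node 0 .nil .nil) .nil)) .nil)) .nil)) (.node 1 (.node 0 (.node 1 .nil .nil) (.node 1 (.node
  0 (.node 0 (.node 1 (.node 1 (.node 1 .nil .nil) .nil) .nil) .nil) (.node 1 (.node 0 (.node 1
  .nil .nil) .nil) .nil)) .nil)) .nil)) .nil)) (.node 1 (.node 0 (.node 0 (.node 1 (.node 0
  (.node 0 (.node 1 (.node 1 .nil .nil) .nil) (.node 1 (.node 1 .nil .nil) .nil)) (.node 1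
  (.node 1 (.node 1 .nil .nil) .nil) .nil)) .nil) (.node 1 (.node 0 (.node 0 (.node 0 (.node 0
  .nil (.node 1 (.node 1 .nil .nil) .nil)) (.node 1 (.node 0 (.node 0 (.node 0 .nil (.node 1
  .nil .nil)) .nil) .nil) .nil)) (.node 1 (.node 0 (.node 0 .nil (.node 1 .nil .nil)) (.node 1
  (.node 0 (.node 0 .nil .nil) (.node 1 .nil .nil)) .nil)) .nil)) (.node 1 (.node 0 (.node 0
  (.node 1 .nil .nil) (.node 1 (.node 0 .nil (.node 1 (.node 0 .nil (.node 1 .nil .nil)) .nil))
  .nil)) (.node 1 (.node 0 (.node 1 (.node 0 .nil .nil) .nil) (.node 1 .nil .nil)) .nil)) .nil))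
  .nil)) (.node 1 (.node 0 (.node 0 (.node 1 (.node 0 (.node 0 (.node 0 (.node 1 .nil .nil)
  .nil) (.node 1 .nil .nil)) (.node 1 (.node 0 (.node 1 (.node 1 .nil .nil) .nil) .nil) .nil))
  .nil) (.node 1 (.node 0 (.node 1 (.node 0 .nil (.node 1 .nil .nil)) .nil) (.node 1 (.node 1
  (.node 0 (.node 1 (.node 1 .nil .nil) .nil) (.node 1 .nil .nil)) .nil) .nil)) .nil)) (.node 1
  (.node 0 (.node 0 (.node 1 (.node 1 .nil .nil) .nil) (.node 1 (.node 0 (.node 0 .nil .nil)
  (.node 1 (.node 0 (.node 1 .nil .nil) (.node 1 .nil .nil)) .nil)) .nil)) (.node 1 (.node 0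
  (.node 1 (.node 0 (.node 0 .nil (.node 1 .nil .nil)) .nil) .nil) .nil) .nil)) .nil)) .nil))
  .nil)) (.node 1 (.node 0 (.node 0 (.node 0 (.node 0 (.node 0 (.node 0 .nil (.node 1 (.node 1
  (.node 1 .nil .nil) .nil) .nil)) (.node 1 (.node 0 (.node 0 (.node 1 .nil .nil) .nil) (.node 1
  (.node 0 (.node 1 .nil .nil) .nil) .nil)) .nil)) (.node 1 (.node 0 (.node 1 (.node 0 (.node 1
  .nil .nil) .nil) .nil) (.node 1 (.node 0 .nil (.node 1 (.node 1 .nil .nil) .nil)) .nil))
  .nil)) (.node 1 (.node 0 (.node 0 (.node 1 (.node 0 .nil (.node 1 .nil .nil)) .nil) (.node 1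
  (.node 0 .nil (.node 1 (.node 1 .nil .nil) .nil)) .nil)) (.node 1 (.node 0 (.node 1 (.node 1
  (.node 0 .nil (.node 1 (.node 0 .nil .nil) .nil)) .nil) .nil) (.node 1 (.node 1 .nil .nil)
  .nil)) .nil)) .nil)) (.node 1 (.node 0 (.node 0 (.node 0 (.node 0 (.node 0 (.node 0 .nil .nil)
  (.node 1 (.node 0 (.node 1 .nil .nil) .nil) .nil)) (.node 1 (.node 0 (.node 0 .nil .nil)
  (.node 1 (.node 0 (.node 1 .nil .nil) (.node 1 .nil .nil)) .nil)) .nil)) (.node 1 (.node 0
  (.node 1 (.node 0 .nil (.node 1 .nil .nil)) .nil) .nil) .nil)) (.node 1 (.node 0 (.node 0 .nil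
  (.node 1 (.node 0 (.node 0 .nil (.node 1 .nil .nil)) (.node 1 (.node 0 .nil (.node 1 (.node 0
  .nil .nil) .nil)) .nil)) .nil)) (.node 1 (.node 1 (.node 0 .nil .nil) .nil) .nil)) .nil))
  .nil) .nil)) (.node 1 (.node 0 (.node 0 (.node 0 (.node 0 (.node 0 (.node 1 (.node 0 .nil
  .nil) .nil) (.node 1 (.node 0 .nil (.node 1 (.node 0 .nil (.node 1 .nil .nil)) .nil)) .nil))
  (.node 1 .nil .nil)) (.node 1 (.node 0 (.node 0 (.node 1 (.node 1 (.node 0 .nil .nil) .nil)
  .nil) (.node 1 (.node 1 (.node 0 .nil .nil) .nil) .nil)) (.node 1 (.node 0 .nil (.node 1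
  (.node 1 (.node 0 (.node 1 .nil .nil) .nil) .nil) .nil)) .nil)) .nil)) (.node 1 (.node 0
  (.node 0 (.node 0 (.node 0 (.node 1 .nil .nil) .nil) (.node 1 (.node 0 (.node 0 .nil .nil)
  (.node 1 (.node 0 (.node 0 .nil .nil) (.node 1 .nil .nil)) .nil)) .nil)) .nil) (.node 1 (.node
  0 (.node 0 (.node 1 (.node 1 .nil .nil) .nil) (.node 1 (.node 0 (.node 0 (.node 0 .nil .nil)
  (.node 1 .nil .nil)) (.node 1 .nil .nil)) .nil)) (.node 1 (.node 0 (.node 0 .nil .nil) (.node
  1 (.node 0 (.node 1 .nil .nil) .nil) .nil)) .nil)) .nil)) .nil)) .nil) .nil)) .nil)) .nil))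
  .nil)) (.node 1 (.node 0 (.node 0 (.node 0 (.node 0 (.node 0 (.node 1 (.node 0 (.node 0 (.node
  0 (.node 0 .nil .nil) (.node 1 (.node 1 (.node 1 (.node 1 .nil .nil) .nil) .nil) .nil)) (.node
  1 (.node 1 (.node 0 (.node 1 .nil .nil) (.node 1 .nil .nil)) .nil) .nil)) (.node 1 (.node 0
  (.node 0 (.node 1 (.node 1 .nil .nil) .nil) (.node 1 (.node 0 .nil (.node 1 (.node 0 .nil
  (.node 1 .nil .nil)) .nil)) .nil)) (.node 1 (.node 1 (.node 0 (.node 1 (.node 1 .nil .nil)
  .nil) .nil) .nil) .nil)) .nil)) .nil) .nil) (.node 1 (.node 0 (.node 0 (.node 0 (.node 0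
  (.node 0 (.node 0 .nil (.node 1 (.node 0 (.node 0 .nil .nil) (.node 1 .nil .nil)) .nil))
  (.node 1 (.node 1 .nil .nil) .nil)) (.node 1 (.node 0 (.node 0 (.node 1 .nil .nil) .nil) .nil)
  .nil)) (.node 1 (.node 0 (.node 0 (.node 0 (.node 1 .nil .nil) (.node 1 (.node 1 (.node 1 .nil
  .nil) .nil) .nil)) (.node 1 (.node 0 .nil .nil) .nil)) (.node 1 (.node 0 (.node 0 (.node 0
  .nil .nil) .nil) (.node 1 (.node 1 .nil .nil) .nil)) .nil)) .nil)) (.node 1 (.node 0 (.node 0
  (.node 1 (.node 0 (.node 1 .nil .nil) (.node 1 .nil .nil)) .nil) (.node 1 (.node 0 (.node 0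
  .nil .nil) (.node 1 (.node 1 (.node 0 .nil (.node 1 (.node 0 .nil .nil) .nil)) .nil) .nil))
  .nil)) (.node 1 (.node 0 (.node 0 (.node 0 .nil (.node 1 .nil .nil)) .nil) (.node 1 (.node 0
  .nil (.node 1 .nil .nil)) .nil)) .nil)) .nil)) (.node 1 (.node 0 (.node 0 (.node 0 (.node 1
  (.node 0 (.node 0 .nil .nil) (.node 1 .nil .nil)) .nil) (.node 1 (.node 0 (.node 0 (.node 0
  .nil .nil) (.node 1 (.node 1 .nil .nil) .nil)) (.node 1 (.node 0 .nil (.node 1 .nil .nil))
  .nil)) .nil)) (.node 1 (.node 0 (.node 0 (.node 0 .nil (.node 1 .nil .nil)) (.node 1 (.node 1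
  (.node 0 (.node 0 .nil .nil) .nil) .nil) .nil)) (.node 1 (.node 0 (.node 0 .nil (.node 1 .nil
  .nil)) (.node 1 (.node 0 .nil (.node 1 .nil .nil)) .nil)) .nil)) .nil)) (.node 1 (.node 0
  (.node 1 (.node 0 (.node 1 .nil .nil) .nil) .nil) (.node 1 (.node 0 (.node 0 (.node 1 .nil
  .nil) (.node 1 (.node 0 (.node 0 .nil (.node 1 .nil .nil)) (.node 1 .nil .nil)) .nil)) .nil)
  .nil)) .nil)) .nil)) .nil)) (.node 1 (.node 0 (.node 0 (.node 0 (.node 0 .nil (.node 1 (.node
  0 (.node 0 (.node 0 .nil (.node 1 .nil .nil)) (.node 1 (.node 0 (.node 1 .nil .nil) (.node 1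
  (.node 0 (.node 1 .nil .nil) .nil) .nil)) .nil)) (.node 1 (.node 1 (.node 0 .nil (.node 1
  (.node 0 (.node 1 .nil .nil) .nil) .nil)) .nil) .nil)) .nil)) (.node 1 (.node 0 (.node 0
  (.node 0 (.node 0 (.node 0 .nil .nil) (.node 1 (.node 0 .nil .nil) .nil)) (.node 1 (.node 1
  .nil .nil) .nil)) (.node 1 (.node 0 (.node 1 .nil .nil) (.node 1 (.node 0 .nil .nil) .nil))
  .nil)) (.node 1 (.node 0 (.node 1 (.node 0 (.node 0 (.node 0 .nil .nil) .nil) (.node 1 (.node
  1 (.node 1 .nil .nil) .nil) .nil)) .nil) (.node 1 (.node 1 (.node 0 (.node 0 .nil .nil) .nil)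
  .nil) .nil)) .nil)) .nil)) (.node 1 (.node 0 (.node 1 (.node 1 (.node 0 (.node 0 .nil (.node 1
  (.node 0 (.node 1 .nil .nil) .nil) .nil)) (.node 1 (.node 1 (.node 0 (.node 0 .nil .nil) .nil)
  .nil) .nil)) .nil) .nil) (.node 1 (.node 0 (.node 0 (.node 0 (.node 0 .nil (.node 1 .nil
  .nil)) (.node 1 (.node 0 .nil (.node 1 (.node 1 (.node 1 .nil .nil) .nil) .nil)) .nil)) (.node
  1 (.node 1 (.node 0 (.node 1 (.node 1 .nil .nil) .nil) .nil) .nil) .nil)) (.node 1 (.node 0
  (.node 0 (.node 0 (.node 0 .nil .nil) (.node 1 .nil .nil)) (.node 1 .nil .nil)) (.node 1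
  (.node 0 (.node 0 (.node 0 (.node 1 .nil .nil) .nil) (.node 1 (.node 0 (.node 0 .nil .nil)
  .nil) .nil)) .nil) .nil)) .nil)) .nil)) .nil)) (.node 1 (.node 0 (.node 0 (.node 0 (.node 0
  (.node 0 (.node 0 .nil (.node 1 .nil .nil)) .nil) (.node 1 (.node 0 (.node 0 (.node 0 .nil
  .nil) (.node 1 .nil .nil)) .nil) .nil)) (.node 1 (.node 0 (.node 0 (.node 0 (.node 0 .nil
  (.node 1 .nil .nil)) .nil) .nil) .nil) .nil)) (.node 1 (.node 0 (.node 0 (.node 0 .nil (.node
  1 (.node 0 (.node 0 (.node 0 .nil .nil) .nil) .nil) .nil)) (.node 1 (.node 0 (.node 0 .nil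
  .nil) .nil) .nil)) (.node 1 (.node 0 (.node 0 (.node 0 .nil .nil) .nil) (.node 1 (.node 0 .nil
  (.node 1 (.node 0 (.node 0 (.node 1 .nil .nil) .nil) .nil) .nil)) .nil)) .nil)) .nil)) (.node
  1 (.node 0 (.node 0 (.node 0 (.node 0 (.node 0 .nil (.node 1 (.node 1 .nil .nil) .nil)) (.node
  1 (.node 0 (.node 0 .nil .nil) .nil) .nil)) (.node 1 (.node 0 (.node 0 (.node 0 (.node 1 .nil
  .nil) (.node 1 .nil .nil)) (.node 1 (.node 0 .nil .nil) .nil)) .nil) .nil)) (.node 1 (.node 0
  (.node 0 (.node 0 (.node 0 (.node 0 .nil (.node 1 .nil .nil)) .nil) (.node 1 (.node 1 .nil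
  .nil) .nil)) (.node 1 (.node 0 .nil .nil) .nil)) (.node 1 (.node 0 (.node 1 (.node 0 (.node 0
  .nil .nil) .nil) .nil) (.node 1 (.node 0 (.node 0 .nil .nil) (.node 1 (.node 0 (.node 1 .nil
  .nil) .nil) .nil)) .nil)) .nil)) .nil)) (.node 1 (.node 0 (.node 0 (.node 0 .nil .nil) (.node
  1 (.node 0 .nil (.node 1 (.node 0 (.node 1 (.node 1 .nil .nil) .nil) (.node 1 (.node 1 .nil
  .nil) .nil)) .nil)) .nil)) .nil) .nil)) .nil)) .nil)) .nil)) (.node 1 (.node 0 (.node 0 (.node
  0 (.node 0 (.node 0 (.node 0 (.node 0 (.node 1 (.node 0 .nil (.node 1 .nil .nil)) .nil) (.node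
  1 (.node 0 (.node 0 (.node 0 .nil .nil) .nil) (.node 1 (.node 0 .nil .nil) .nil)) .nil))
  (.node 1 (.node 0 (.node 0 .nil (.node 1 (.node 0 .nil .nil) .nil)) (.node 1 (.node 0 (.node 1
  .nil .nil) .nil) .nil)) .nil)) (.node 1 .nil .nil)) (.node 1 (.node 1 (.node 0 (.node 0 (.node
  1 (.node 1 (.node 1 .nil .nil) .nil) .nil) (.node 1 (.node 0 .nil .nil) .nil)) (.node 1 (.node
  0 (.node 0 .nil (.node 1 .nil .nil)) (.node 1 (.node 0 (.node 0 .nil .nil) .nil) .nil)) .nil))
  .nil) .nil)) (.node 1 (.node 0 (.node 0 (.node 0 (.node 1 (.node 0 (.node 1 .nil .nil) (.node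
  1 (.node 1 .nil .nil) .nil)) .nil) .nil) (.node 1 (.node 0 (.node 0 (.node 1 (.node 0 .nil
  .nil) .nil) (.node 1 (.node 0 (.node 1 .nil .nil) (.node 1 .nil .nil)) .nil)) (.node 1 (.node
  0 (.node 0 .nil .nil) .nil) .nil)) .nil)) (.node 1 (.node 0 (.node 0 (.node 1 (.node 1 .nil
  .nil) .nil) (.node 1 (.node 0 .nil (.node 1 (.node 0 .nil .nil) .nil)) .nil)) .nil) .nil))
  .nil)) (.node 1 (.node 0 (.node 0 (.node 0 (.node 0 (.node 1 .nil .nil) (.node 1 (.node 1
  (.node 1 (.node 0 .nil .nil) .nil) .nil) .nil)) (.node 1 (.node 1 (.node 0 (.node 0 (.node 0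
  .nil .nil) .nil) (.node 1 (.node 0 .nil .nil) .nil)) .nil) .nil)) (.node 1 (.node 0 (.node 0
  (.node 0 (.node 0 (.node 0 .nil .nil) (.node 1 .nil .nil)) (.node 1 .nil .nil)) (.node 1
  (.node 0 .nil .nil) .nil)) (.node 1 (.node 0 (.node 0 (.node 0 (.node 1 .nil .nil) (.node 1
  (.node 1 .nil .nil) .nil)) (.node 1 .nil .nil)) (.node 1 (.node 1 (.node 0 (.node 0 .nil .nil)
  .nil) .nil) .nil)) .nil)) .nil)) (.node 1 (.node 0 (.node 0 (.node 1 (.node 0 (.node 1 (.node
  1 .nil .nil) .nil) .nil) .nil) (.node 1 (.node 0 .nil (.node 1 (.node 0 (.node 0 (.node 0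
  (.node 1 .nil .nil) .nil) (.node 1 .nil .nil)) (.node 1 (.node 0 (.node 0 .nil .nil) .nil)
  .nil)) .nil)) .nil)) (.node 1 (.node 0 .nil (.node 1 (.node 0 (.node 0 (.node 1 (.node 1 .nil
  .nil) .nil) (.node 1 (.node 0 .nil (.node 1 .nil .nil)) .nil)) .nil) .nil)) .nil)) .nil))
  .nil)) (.node 1 (.node 0 (.node 0 (.node 0 (.node 0 (.node 1 .nil .nil) (.node 1 (.node 1
  (.node 0 (.node 0 .nil (.node 1 .nil .nil)) .nil) .nil) .nil)) (.node 1 (.node 0 (.node 0
  (.node 0 (.node 0 .nil (.node 1 .nil .nil)) (.node 1 (.node 0 .nil .nil) .nil)) (.node 1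
  (.node 0 (.node 0 .nil (.node 1 (.node 1 (.node 1 .nil .nil) .nil) .nil)) (.node 1 .nil .nil))
  .nil)) (.node 1 (.node 0 (.node 0 (.node 0 (.node 1 .nil .nil) (.node 1 (.node 1 .nil .nil)
  .nil)) .nil) (.node 1 (.node 0 (.node 0 .nil (.node 1 .nil .nil)) (.node 1 (.node 0 (.node 0
  .nil (.node 1 .nil .nil)) .nil) .nil)) .nil)) .nil)) .nil)) (.node 1 (.node 0 (.node 0 (.node
  0 .nil (.node 1 (.node 0 (.node 0 (.node 1 .nil .nil) .nil) (.node 1 .nil .nil)) .nil)) (.node
  1 (.node 0 (.node 1 (.node 0 .nil (.node 1 (.node 1 .nil .nil) .nil)) .nil) (.node 1 (.node 1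
  (.node 0 (.node 0 .nil .nil) (.node 1 (.node 0 .nil .nil) .nil)) .nil) .nil)) .nil)) (.node 1
  (.node 0 (.node 0 (.node 1 (.node 0 .nil .nil) .nil) (.node 1 (.node 0 (.node 0 (.node 1 .nil
  .nil) (.node 1 (.node 1 .nil .nil) .nil)) (.node 1 (.node 0 .nil .nil) .nil)) .nil)) (.node 1
  (.node 0 (.node 0 (.node 1 (.node 0 .nil .nil) .nil) (.node 1 (.node 0 .nil (.node 1 .nil
  .nil)) .nil)) (.node 1 (.node 0 (.node 1 .nil .nil) .nil) .nil)) .nil)) .nil)) .nil)) (.node 1
  (.node 0 (.node 0 (.node 0 (.node 0 (.node 0 (.node 1 .nil .nil) (.node 1 .nil .nil)) (.node 1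
  (.node 0 (.node 1 (.node 0 .nil .nil) .nil) (.node 1 .nil .nil)) .nil)) (.node 1 (.node 0
  (.node 0 (.node 0 .nil (.node 1 (.node 1 .nil .nil) .nil)) (.node 1 (.node 1 (.node 0 .nil
  .nil) .nil) .nil)) (.node 1 (.node 0 (.node 0 (.node 1 .nil .nil) .nil) .nil) .nil)) .nil))
  (.node 1 (.node 0 (.node 0 (.node 0 (.node 0 .nil (.node 1 (.node 1 .nil .nil) .nil)) (.node 1
  (.node 1 .nil .nil) .nil)) (.node 1 (.node 0 (.node 1 (.node 1 .nil .nil) .nil) .nil) .nil))
  (.node 1 (.node 0 (.node 1 (.node 0 (.node 0 .nil (.node 1 (.node 1 .nil .nil) .nil)) (.node 1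
  .nil .nil)) .nil) .nil) .nil)) .nil)) (.node 1 (.node 0 (.node 0 (.node 0 (.node 0 (.node 0
  .nil (.node 1 .nil .nil)) (.node 1 (.node 0 .nil (.node 1 .nil .nil)) .nil)) (.node 1 (.node 0
  (.node 0 .nil .nil) (.node 1 (.node 0 (.node 0 .nil .nil) (.node 1 (.node 0 .nil (.node 1 .nil
  .nil)) .nil)) .nil)) .nil)) (.node 1 (.node 0 (.node 1 (.node 1 (.node 0 (.node 1 .nil .nil)
  .nil) .nil) .nil) (.node 1 (.node 0 (.node 1 (.node 1 (.node 0 .nil .nil) .nil) .nil) (.node 1
  (.node 0 (.node 0 .nil .nil) (.node 1 (.node 0 .nil .nil) .nil)) .nil)) .nil)) .nil)) .nil)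
  .nil)) .nil)) .nil)) .nil)) (.node 1 (.node 0 (.node 0 (.node 0 (.node 0 (.node 0 (.node 0
  (.node 0 (.node 1 .nil .nil) .nil) (.node 1 (.node 0 (.node 0 .nil .nil) (.node 1 (.node 0
  .nil .nil) .nil)) .nil)) (.node 1 (.node 0 (.node 0 (.node 0 (.node 0 (.node 0 .nil .nil)
  (.node 1 (.node 0 .nil .nil) .nil)) (.node 1 (.node 0 .nil .nil) .nil)) (.node 1 (.node 0
  (.node 1 .nil .nil) (.node 1 (.node 0 .nil .nil) .nil)) .nil)) .nil) .nil)) (.node 1 (.node 0
  (.node 0 (.node 0 (.node 0 (.node 1 .nil .nil) (.node 1 (.node 1 (.node 0 .nil .nil) .nil)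
  .nil)) (.node 1 (.node 0 .nil (.node 1 (.node 1 .nil .nil) .nil)) .nil)) (.node 1 (.node 0
  (.node 1 (.node 0 .nil .nil) .nil) (.node 1 (.node 0 (.node 0 .nil (.node 1 .nil .nil)) .nil)
  .nil)) .nil)) (.node 1 (.node 0 (.node 0 (.node 0 (.node 1 (.node 1 .nil .nil) .nil) (.node 1
  (.node 0 (.node 1 .nil .nil) .nil) .nil)) (.node 1 (.node 0 (.node 0 .nil .nil) .nil) .nil))
  (.node 1 .nil .nil)) .nil)) .nil)) (.node 1 (.node 0 (.node 0 (.node 0 (.node 0 (.node 0
  (.node 0 (.node 0 .nil (.node 1 (.node 1 .nil .nil) .nil)) .nil) (.node 1 (.node 1 .nil .nil)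
  .nil)) (.node 1 (.node 0 (.node 0 .nil (.node 1 (.node 0 .nil .nil) .nil)) (.node 1 .nil
  .nil)) .nil)) (.node 1 (.node 0 (.node 0 (.node 1 .nil .nil) (.node 1 .nil .nil)) (.node 1
  (.node 1 (.node 0 (.node 0 .nil .nil) (.node 1 .nil .nil)) .nil) .nil)) .nil)) (.node 1 (.node
  0 (.node 0 (.node 0 (.node 1 (.node 1 .nil .nil) .nil) (.node 1 (.node 0 .nil (.node 1 .nil
  .nil)) .nil)) .nil) (.node 1 (.node 0 (.node 0 (.node 0 .nil .nil) (.node 1 (.node 0 (.node 0
  .nil .nil) (.node 1 (.node 0 .nil .nil) .nil)) .nil)) (.node 1 (.node 1 .nil .nil) .nil))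
  .nil)) .nil)) (.node 1 (.node 0 (.node 0 (.node 0 (.node 0 (.node 0 (.node 1 .nil .nil) (.node
  1 .nil .nil)) (.node 1 (.node 0 (.node 1 .nil .nil) (.node 1 (.node 1 .nil .nil) .nil)) .nil))
  .nil) (.node 1 (.node 0 (.node 0 (.node 0 .nil (.node 1 (.node 1 .nil .nil) .nil)) (.node 1
  (.node 0 .nil .nil) .nil)) (.node 1 (.node 1 .nil .nil) .nil)) .nil)) (.node 1 (.node 0 (.node
  0 (.node 0 (.node 1 .nil .nil) (.node 1 (.node 1 .nil .nil) .nil)) (.node 1 (.node 0 .nil
  .nil) .nil)) (.node 1 (.node 0 (.node 0 .nil (.node 1 (.node 1 .nil .nil) .nil)) .nil) .nil))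
  .nil)) .nil)) .nil)) (.node 1 (.node 0 (.node 0 (.node 0 (.node 0 (.node 0 (.node 1 .nil .nil)
  (.node 1 (.node 0 (.node 1 .nil .nil) .nil) .nil)) (.node 1 (.node 1 (.node 0 (.node 1 (.node
  1 (.node 0 .nil .nil) .nil) .nil) (.node 1 (.node 0 (.node 0 .nil .nil) (.node 1 (.node 0 .nil
  .nil) .nil)) .nil)) .nil) .nil)) (.node 1 (.node 0 (.node 0 (.node 0 (.node 1 (.node 0 .nil
  .nil) .nil) (.node 1 (.node 1 (.node 0 .nil (.node 1 (.node 0 .nil .nil) .nil)) .nil) .nil))
  (.node 1 (.node 1 .nil .nil) .nil)) (.node 1 (.node 0 (.node 0 (.node 1 .nil .nil) .nil) .nil)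
  .nil)) .nil)) (.node 1 (.node 0 (.node 0 (.node 1 (.node 1 (.node 0 .nil .nil) .nil) .nil)
  (.node 1 (.node 0 (.node 0 (.node 0 .nil (.node 1 .nil .nil)) (.node 1 .nil .nil)) (.node 1
  (.node 0 (.node 0 .nil .nil) (.node 1 .nil .nil)) .nil)) .nil)) (.node 1 (.node 0 (.node 0
  (.node 0 (.node 1 .nil .nil) (.node 1 (.node 0 .nil .nil) .nil)) (.node 1 (.node 0 (.node 0
  (.node 0 .nil .nil) .nil) .nil) .nil)) (.node 1 (.node 0 (.node 0 (.node 0 (.node 1 .nil .nil)
  (.node 1 (.node 0 .nil .nil) .nil)) (.node 1 (.node 0 .nil .nil) .nil)) (.node 1 (.node 0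
  (.node 0 .nil (.node 1 .nil .nil)) .nil) .nil)) .nil)) .nil)) .nil)) (.node 1 (.node 0 (.node
  0 (.node 0 (.node 0 .nil (.node 1 (.node 1 (.node 0 .nil (.node 1 .nil .nil)) .nil) .nil))
  (.node 1 (.node 0 (.node 0 (.node 1 .nil .nil) (.node 1 (.node 0 (.node 0 .nil .nil) .nil)
  .nil)) (.node 1 (.node 1 (.node 0 (.node 1 .nil .nil) .nil) .nil) .nil)) .nil)) (.node 1
  (.node 0 (.node 0 (.node 0 .nil .nil) (.node 1 (.node 0 (.node 1 (.node 1 .nil .nil) .nil)
  (.node 1 (.node 0 .nil (.node 1 (.node 1 .nil .nil) .nil)) .nil)) .nil)) (.node 1 (.node 0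
  .nil (.node 1 (.node 0 (.node 0 .nil (.node 1 (.node 0 .nil .nil) .nil)) (.node 1 (.node 0
  (.node 1 .nil .nil) .nil) .nil)) .nil)) .nil)) .nil)) (.node 1 (.node 0 (.node 0 (.node 0
  (.node 0 .nil .nil) (.node 1 (.node 0 (.node 0 (.node 0 (.node 1 .nil .nil) .nil) .nil) (.node
  1 (.node 0 .nil (.node 1 .nil .nil)) .nil)) .nil)) (.node 1 (.node 0 (.node 0 (.node 1 (.node
  1 (.node 1 .nil .nil) .nil) .nil) (.node 1 (.node 0 .nil (.node 1 (.node 1 .nil .nil) .nil))
  .nil)) (.node 1 (.node 0 (.node 1 .nil .nil) (.node 1 (.node 0 .nil (.node 1 .nil .nil))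
  .nil)) .nil)) .nil)) .nil) .nil)) .nil)) .nil)) (.node 1 (.node 0 (.node 0 (.node 0 (.node 0
  (.node 0 (.node 0 (.node 1 .nil .nil) (.node 1 (.node 1 (.node 0 (.node 1 .nil .nil) (.node 1
  .nil .nil)) .nil) .nil)) .nil) (.node 1 (.node 0 (.node 0 (.node 0 (.node 1 (.node 0 .nil
  .nil) .nil) (.node 1 (.node 0 (.node 0 .nil .nil) (.node 1 (.node 0 .nil .nil) .nil)) .nil))
  (.node 1 (.node 0 (.node 1 (.node 1 (.node 1 .nil .nil) .nil) .nil) (.node 1 (.node 1 .nil
  .nil) .nil)) .nil)) (.node 1 (.node 0 (.node 0 .nil (.node 1 (.node 1 (.node 0 .nil .nil)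
  .nil) .nil)) .nil) .nil)) .nil)) (.node 1 (.node 0 (.node 0 (.node 0 (.node 0 .nil (.node 1
  (.node 0 (.node 0 .nil (.node 1 .nil .nil)) (.node 1 (.node 0 .nil .nil) .nil)) .nil)) .nil)
  (.node 1 (.node 0 (.node 0 (.node 0 (.node 1 .nil .nil) (.node 1 (.node 0 (.node 1 .nil .nil)
  (.node 1 (.node 0 .nil .nil) .nil)) .nil)) .nil) (.node 1 (.node 1 (.node 0 .nil .nil) .nil)
  .nil)) .nil)) (.node 1 (.node 0 (.node 0 (.node 0 (.node 0 .nil (.node 1 .nil .nil)) (.node 1
  (.node 1 (.node 0 (.node 0 .nil .nil) .nil) .nil) .nil)) (.node 1 (.node 0 (.node 0 .nil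
  (.node 1 .nil .nil)) .nil) .nil)) (.node 1 (.node 1 (.node 0 .nil .nil) .nil) .nil)) .nil))
  .nil)) (.node 1 (.node 0 (.node 0 (.node 0 (.node 0 (.node 0 (.node 0 (.node 1 .nil .nil)
  (.node 1 .nil .nil)) (.node 1 (.node 0 .nil .nil) .nil)) (.node 1 (.node 0 (.node 1 .nil .nil)
  (.node 1 (.node 0 .nil .nil) .nil)) .nil)) .nil) (.node 1 (.node 0 (.node 0 (.node 0 .nil
  .nil) .nil) (.node 1 (.node 0 (.node 0 .nil .nil) (.node 1 (.node 1 (.node 0 (.node 1 .nil
  .nil) .nil) .nil) .nil)) .nil)) .nil)) (.node 1 (.node 0 (.node 0 (.node 0 (.node 0 (.node 1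
  (.node 0 .nil .nil) .nil) (.node 1 (.node 0 .nil (.node 1 .nil .nil)) .nil)) (.node 1 (.node 0
  (.node 0 (.node 0 (.node 1 .nil .nil) .nil) .nil) (.node 1 (.node 0 .nil .nil) .nil)) .nil))
  (.node 1 (.node 0 (.node 0 (.node 0 (.node 0 .nil (.node 1 .nil .nil)) (.node 1 .nil .nil))
  (.node 1 (.node 0 (.node 0 .nil (.node 1 .nil .nil)) .nil) .nil)) (.node 1 (.node 0 (.node 1
  (.node 1 .nil .nil) .nil) .nil) .nil)) .nil)) .nil) .nil)) .nil)) (.node 1 (.node 0 (.node 0
  (.node 0 (.node 0 (.node 0 (.node 0 (.node 0 .nil (.node 1 (.node 0 .nil (.node 1 .nil .nil))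
  .nil)) .nil) (.node 1 (.node 0 (.node 0 (.node 0 .nil .nil) (.node 1 (.node 1 .nil .nil)
  .nil)) (.node 1 (.node 0 .nil (.node 1 (.node 0 .nil (.node 1 .nil .nil)) .nil)) .nil)) .nil))
  (.node 1 (.node 0 (.node 0 (.node 1 (.node 0 (.node 0 .nil (.node 1 .nil .nil)) (.node 1 .nil
  .nil)) .nil) (.node 1 (.node 0 .nil .nil) .nil)) (.node 1 (.node 0 .nil (.node 1 (.node 0
  (.node 1 .nil .nil) (.node 1 (.node 0 .nil .nil) .nil)) .nil)) .nil)) .nil)) (.node 1 (.node 0
  (.node 0 (.node 1 (.node 0 (.node 1 (.node 1 .nil .nil) .nil) .nil) .nil) (.node 1 (.node 0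
  (.node 0 (.node 0 .nil .nil) (.node 1 .nil .nil)) (.node 1 (.node 0 .nil (.node 1 .nil .nil))
  .nil)) .nil)) (.node 1 (.node 0 (.node 0 (.node 0 (.node 1 .nil .nil) .nil) (.node 1 (.node 1
  (.node 0 .nil (.node 1 (.node 1 .nil .nil) .nil)) .nil) .nil)) (.node 1 (.node 0 .nil (.node 1
  .nil .nil)) .nil)) .nil)) .nil)) (.node 1 (.node 0 (.node 0 (.node 1 .nil .nil) (.node 1
  (.node 1 (.node 1 .nil .nil) .nil) .nil)) (.node 1 (.node 1 (.node 0 (.node 0 (.node 0 (.node
  0 (.node 0 .nil .nil) (.node 1 .nil .nil)) .nil) (.node 1 (.node 1 .nil .nil) .nil)) (.node 1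
  (.node 0 (.node 1 (.node 0 .nil .nil) .nil) .nil) .nil)) .nil) .nil)) .nil)) .nil) .nil))
  .nil)) .nil)) .nil)

end CfsgLib.M24Classes
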