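import Cfsg.Agent.M24Classes.OrbitHelpers
import Cfsg.Agent.M24Classes.AtSextet

/-!
Certified orbits for this configuration.
-/

set_option autoImplicit false

namespace CfsgLib.M24Classes

open Cfsg CfsgLib.Mathieu
open scoped Pointwise

theorem sextet_gens : cfgSextetTabs.all isM24Tab = true ∧
    (cfgSextetTabs.zip cfgSextetBytes).all (fun p => bytesOK p.1 p.2) = true ∧ cfgSextetTabs.length = cfgSextetBytes.length ∧
    cfgSextetTabs.all (fun t => fixesFam t cfgSextet) = true ∧ (∀ M ∈ cfgSextet, M < 2 ^ 24) ∧ cfgSextet.Nodup := by decide +kernel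

theorem sextetOctad_check0 : classOK cfgSextetBytes octA 131071 octFams (listInv cfgSextet)
    cfgSextetOctadRep0 cfgSextetOctadTree0 32 15 = true := by decide +kernel

theorem sextetOctad_check1 : classOK cfgSextetBytes octA 131071 octFams (listInv cfgSextet)
    cfgSextetOctadRep1 cfgSextetOctadTree1 16 360 = true := by decide +kernel

theorem sextetOctad_check2 : classOK cfgSextetBytes octA 131071 octFams (listInv cfgSextet)
    cfgSextetOctadRep2 cfgSextetOctadTree2 14 384 = true := by decide +kernel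

theorem sextetOctad_all : octFams.all (fun l => [32, 16, 14].contains ((listInv cfgSextet) l)) = true := by decide +kernel

theorem sextetOctad_orbits {σ : Equiv.Perm GolayPt} (hσ : σ ∈ M24) {x : Finset (Finset GolayPt)}
    (hx : σ • (famSet cfgSextet) = x) :
    ∃ X0 ∈ octads, ∃ X1 ∈ octads, ∃ X2 ∈ octads,
      (MulAction.orbit ↥(MulAction.stabilizer M24 x) X0).ncard = 15 ∧
      (MulAction.orbit ↥(MulAction.stabilizer M24 x) X1).ncard = 360 ∧
      (MulAction.orbit ↥(MulAction.stabilizer M24 x) X2).ncard = 384 ∧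
      octads = MulAction.orbit ↥(MulAction.stabilizer M24 x) X0 ∪ MulAction.orbit ↥(MulAction.stabilizer M24 x) X1 ∪ MulAction.orbit ↥(MulAction.stabilizer M24 x) X2 := by
  obtain ⟨X0, hX0, c0, e0⟩ := orbit_class octListed (famInvar single) (famInvar_smul octListed) (famInvar_list octListed sextet_gens.2.2.2.2.1 sextet_gens.2.2.2.2.2)
    (gensOK_fam sextet_gens.2.2.2.2.1 sextet_gens.1 sextet_gens.2.1 sextet_gens.2.2.1 sextet_gens.2.2.2.1) sextetOctad_check0 hσ hx
  obtain ⟨X1, hX1, c1, e1⟩ := orbit_class octListed (famInvar single) (famInvar_smul octListed) (famInvar_list octListed sextet_gens.2.2.2.2.1 sextet_gens.2.2.2.2.2)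
    (gensOK_fam sextet_gens.2.2.2.2.1 sextet_gens.1 sextet_gens.2.1 sextet_gens.2.2.1 sextet_gens.2.2.2.1) sextetOctad_check1 hσ hx
  obtain ⟨X2, hX2, c2, e2⟩ := orbit_class octListed (famInvar single) (famInvar_smul octListed) (famInvar_list octListed sextet_gens.2.2.2.2.1 sextet_gens.2.2.2.2.2)
    (gensOK_fam sextet_gens.2.2.2.2.1 sextet_gens.1 sextet_gens.2.1 sextet_gens.2.2.1 sextet_gens.2.2.2.1) sextetOctad_check2 hσ hx
  exact ⟨X0, hX0, X1, hX1, X2, hX2, c0, c1, c2, union3 (fun b => famInvar single b x) e0 e1 e2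
    (class_cover octListed (famInvar single) (famInvar_smul octListed) (famInvar_list octListed sextet_gens.2.2.2.2.1 sextet_gens.2.2.2.2.2) sextetOctad_all hσ hx)⟩

theorem sextetTrio_check0 : classOK cfgSextetBytes trioA 1048573 trioList (listInv cfgSextet)
    cfgSextetTrioRep0 cfgSextetTrioTree0 96 15 = true := by decide +kernel

theorem sextetTrio_check1 : classOK cfgSextetBytes trioA 1048573 trioList (listInv cfgSextet)
    cfgSextetTrioRep1 cfgSextetTrioTree1 64 180 = true := by decide +kernel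

theorem sextetTrio_check2 : classOK cfgSextetBytes trioA 1048573 trioList (listInv cfgSextet)
    cfgSextetTrioRep2 cfgSextetTrioTree2 48 720 = true := by decide +kernel

theorem sextetTrio_check3 : classOK cfgSextetBytes trioA 1048573 trioList (listInv cfgSextet)
    cfgSextetTrioRep3 cfgSextetTrioTree3 44 2880 = true := by decide +kernel

theorem sextetTrio_all : trioList.all (fun l => [96, 64, 48, 44].contains ((listInv cfgSextet) l)) = true := by decide +kernel

theorem sextetTrio_orbits {σ : Equiv.Perm GolayPt} (hσ : σ ∈ M24) {x : Finset (Finset GolayPt)}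
    (hx : σ • (famSet cfgSextet) = x) :
    ∃ X0 ∈ trios, ∃ X1 ∈ trios, ∃ X2 ∈ trios, ∃ X3 ∈ trios,
      (MulAction.orbit ↥(MulAction.stabilizer M24 x) X0).ncard = 15 ∧
      (MulAction.orbit ↥(MulAction.stabilizer M24 x) X1).ncard = 180 ∧
      (MulAction.orbit ↥(MulAction.stabilizer M24 x) X2).ncard = 720 ∧
      (MulAction.orbit ↥(MulAction.stabilizer M24 x) X3).ncard = 2880 ∧
      trios = MulAction.orbit ↥(MulAction.stabilizer M24 x) X0 ∪ MulAction.orbit ↥(MulAction.stabilizer M24 x) X1 ∪ MulAction.orbit ↥(MulAction.stabilizer M24 x) X2 ∪ MulAction.orbit ↥(MulAction.stabilizer M24 x) X3 := by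
  obtain ⟨X0, hX0, c0, e0⟩ := orbit_class trioListed (famInvar id) (famInvar_smul trioListed) (famInvar_list trioListed sextet_gens.2.2.2.2.1 sextet_gens.2.2.2.2.2)
    (gensOK_fam sextet_gens.2.2.2.2.1 sextet_gens.1 sextet_gens.2.1 sextet_gens.2.2.1 sextet_gens.2.2.2.1) sextetTrio_check0 hσ hx
  obtain ⟨X1, hX1, c1, e1⟩ := orbit_class trioListed (famInvar id) (famInvar_smul trioListed) (famInvar_list trioListed sextet_gens.2.2.2.2.1 sextet_gens.2.2.2.2.2)
    (gensOK_fam sextet_gens.2.2.2.2.1 sextet_gens.1 sextet_gens.2.1 sextet_gens.2.2.1 sextet_gens.2.2.2.1) sextetTrio_check1 hσ hx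
  obtain ⟨X2, hX2, c2, e2⟩ := orbit_class trioListed (famInvar id) (famInvar_smul trioListed) (famInvar_list trioListed sextet_gens.2.2.2.2.1 sextet_gens.2.2.2.2.2)
    (gensOK_fam sextet_gens.2.2.2.2.1 sextet_gens.1 sextet_gens.2.1 sextet_gens.2.2.1 sextet_gens.2.2.2.1) sextetTrio_check2 hσ hx
  obtain ⟨X3, hX3, c3, e3⟩ := orbit_class trioListed (famInvar id) (famInvar_smul trioListed) (famInvar_list trioListed sextet_gens.2.2.2.2.1 sextet_gens.2.2.2.2.2)
    (gensOK_fam sextet_gens.2.2.2.2.1 sextet_gens.1 sextet_gens.2.1 sextet_gens.2.2.1 sextet_gens.2.2.2.1) sextetTrio_check3 hσ hx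
  exact ⟨X0, hX0, X1, hX1, X2, hX2, X3, hX3, c0, c1, c2, c3, union4 (fun b => famInvar id b x) e0 e1 e2 e3
    (class_cover trioListed (famInvar id) (famInvar_smul trioListed) (famInvar_list trioListed sextet_gens.2.2.2.2.1 sextet_gens.2.2.2.2.2) sextetTrio_all hσ hx)⟩

end CfsgLib.M24Classes
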