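import Cfsg.Agent.M24Classes.OrbitTree

/-! Orbit data for a configuration stabiliser. -/

set_option autoImplicit false
set_option maxRecDepth 20000

namespace CfsgLib.M24Classes

/-- The configuration. -/
def cfgTrio : List ℕ := [8391797, 307594, 8077824]

/-- Tables of members of its stabiliser. -/
def cfgTrioTabs : List ℕ := [2017418958472986978022023530708881210962010419884393226,
  197221639886558745990207298620915289151671020651496804626]

/-- Their byte tables. -/
def cfgTrioBytes : List (List ℕ) := [[1695621572603778562275822154861760875980667174454247935734459021721028140703964152194189440338872233545640767809283519762221809217803962980717666034627004095086411736120095594319228039733953465196618886774686031103234560188193285060181813305343121412108351563360933623145879459967864269441601278609989641035439903770886777857113730998551437839010317194055294524671634243214230977155168422148797375756974074869716077896200495677133242284832821691446371828439617521111525417988766299280292821533677510752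3110938641979165864686468851891825663749561922459277125373011907502088764375244369056741846120937937759395890185630009534728655267342147622026251420558728871682915942578776447852986426584018452300713430213489129946142557845094130809955683358744083626768449015595406253753697213273191838606048106486373564726860852248565061697684491510502923797411214755243919724236453730018359823300927196287301611161746562301934821816735853656872974795705173297982780315742965376335199581346543693862396881970400813382488648727696931242003583890271287404027080006171573158718473045898401387406073874018884230214304537741037719341108988192309334372080660224388843264507119516954386252945107621901642356206993954521209259570812608832664804185126095811462891153146963148328537655614185846910588330705780547065360731486474941679936742022722235892009266379366120692858754050904474032881039191943614539007705342331249782693709403686097548238699186465919816786382104998447312353063725445240978141081952747629270307444252310805497951915167972007786057914123206444338838360925509859767091048506252951038800164045992039835536718124290675359321428097593354871663763666031064501276464099598342829024845984208046136041412183137281855732620175485254062489020721235108243946141079064417159234317615312737244432656810899914204498465851902445058140894172806581801320697969780981760,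 15840460278510464244554603786107378279804141441050277479012580100003822897287020945563003858752767365741165314660765755279275602073980125629115508490766401772569228925080661145222729144673264608426678533249773918751878145960827991265288347913611033392068927906069093686002590240986278003689571237821436218189479295113099456038130647616807992489337205431058901419349584993666647979824943220341410262348896713335264316008647116483476309951487029897717274667054691572592660174022217280152031197120545681051279869450356635357033864061495460833882004522186859739420780252941355813639757774120521289797200401336678204666870711197978094162082591100832766664713903869630676370638392252212717018419984914215211061351599435207806470298265052307711865661293249598114000517406470837970743892407533905103317411677729787556624678000746997170224152752456905307118969549730800011360963928013721402320427299137775067534454979633381516512298922103940138099664777668091174540889284856147495037523928100083546869378926738645409806251888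26427846053372180699093133649581411878117931210301591728013684687607625199245007150814273156799210989528603679626202613805565045785724290809483908277131427141713650052633976146549283907790970458303433208542705930062730990812496029114753201655966652530866486904151652597413110734284807466139555830514221231022921973731318376592429903654580373594848484465921812909394358313068412367542886708877947041389191170920827372879194414734303666295879931442995070564580086791750385253600374275656719301278460713300587611237050734811624067819350048034413450361742311701335743008203889165035070293950154763496373934379103392263227413508001797711130243030777610779149167382734868267275309957379194827922084712139410727095984269859396095005369811555434070604783338265774958985424522371533145408771698592023673275510425161679418060132618398517428224, 15211259941692481333558198417844567624563491950566593291205341407666868421191266948237822595265626799246925428093964306328904633993240854362502052153583020217834930131725219353020931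609836478909573120357873847459922150246170976735017418648686595783644787551406868043076584242772834357932494012355550582669223502598637183464918721564545586492105608577793648706009784960543418475848779396786357223516419848246035317520583162615841959203294601317989516893937068214152384690618128752098606294647881702915046120261883398884734093730683131617473999193493774951088655027919729624399604518212306356667419770836744152635162231201227379353885016375713358587939417615047160152348779634587314712869391499401591399320926492054263558942018883231122167324709603145008851950812889413207932021950976119284849718384895612685173728759876719516914245682320925457329044420682194291379636462935563548381037610882009531549365115707523503554945081702761712399980363606609620373625657555117929096446911495058119822543251839282514639701399772220025205921735524573591365509298790039130661321476794317977956005181240775003900990745311452522893373108893102618705390370091796982096976848841028784073517619453463421678727452842385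447844075102168945160839077627722832851714155332935574661121866169925857113362238605128109750150074483908307922212686310709172676016117497320567067104985850418524105531910016907679284373145690437186082345404174536499947687260781091713379079561704669912285428626967876656285835069578531030768571040399753158693425551707560547102383381608469968877556094371850792710199263754984423526482061077406163620252154408449229814368644359989371260619134751702205463960406287952421653084475021264333545362507627826522391467630731546709522995867233627544265002709396584317344198318850691817868081818320598438364802900450209813599090977518306635011283297685498494976],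
  [19614096091070545834776531711048545509405618884451222898269608704939971452792518371760486406774852089504609220784156319896095536523444889886716572100113200427407487716068743375855554416920328029904340152060287575624321433740447478182147596099809651347248118055379031891190053684043756592011088970646595020162634181976062809857853874314700594649255329795736233164008552441756592973823472169393138856150959632124979990497484167461810234250523427953709114192129528895843613859245289316397718620193967132497683504952471104027122430404581048979658273085322875616089713479480886529269077698544120978154319167359182673259670328239044304154098336601859607313896970630263777070438910474988433061575057609571556086512688760619255694177400665497844049658986816754123004458659620026467792308423051665636693203828325428484561999847557327811226840326552123395418965563707263914139977261717018104532928245023592049237875353406732272974518266723456637031465457525231045980475720455424489383696940993830673412446961500326303049765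05739759299983741817584851200265814385435150178198219212213039936098831552736306502116930164259130917509122973042049396340434018180305090825470601805618279259226145310744092604530925612393810677591829633761626529354746852817850967743532026494059827289183076005838725435062905465772395035731460627590313183238281219304072060287950178921360340014318817531275843381758472355219412398894587498009491903197100419630758794296346395960706134473550754668857779095383216952629142624735740018243310732258577776164049840179735099739084573255265769972422862238816298660798398131948349050667595828258342386346510379283601691026176858930676646892240868705185394618569353221118632448241988508429401609814133156995888395819685714013373494353870676344656867807492888734765972528679274276536152487543128820656884408564876671556768550822908601669773164544, 10688519549603898843610534332603436377216629821137430444765560925745317009870254713418507768028780725753959784652347712601439203862284222295026567337945229412273231391691928660495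116280739757122724460621083808844125298566485424211816176575651290092353881648184433286044347609266216173378576195364447785932581282909877021805869657403754887336432706178081510015063341633459167908542283958000207986317807380696799188801368632424997046586206167684249948274738449639571829606827191565830554759917891500801120679934676553357690486826795606146225144296054948026820927362769848388955570385900460113972537712814317543964617328026095948207060824585548154381181837690454053925804400855151136278948478810024730736867087292198560637959760971969429015684602868446272127565679942444214010756940891918595241090563582744222959000946864875793061068791226331892339585988070646946368628365728286507432094873121278920657527213364004608470528975636895863549818521552664518290146028067689359672892025880386129448285893021311386641728691015607833148072899012003580944719390470535425890870802082357300699104279046384099838862469178140750508858602298582536169486436652285466825579885820984929661025674545178132990415939336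975552482210112170256846973054953865459988364462617512291810354490080271529461300321738477136078498457846302069852654773943791195399503353941348317229177306319826306631469228843936661433502945391350737662217586560785027456269409868169971102329778682710887810931684792011872828968498886983345742914775864477535777457160383266715272914225510650317451763260855570422516941741026509980928980889518536770890909288793619272200174192115582549176768974398014906912865207713866874961788530024541994954476379226285931630353071870510012137144746363324058051761811939331315455034378156438021745153663509563626780681013134159453799770179061798831399951314109989912576, 2110159263123253905079994074043331049739107647341094150587390967099406919347810767791462061070292238097047039378630988909396034855906662026015345998885037326977646391427676973422859715782582004730174211505813785963701944255229794208404653436307135292676080958064310279022152106356551982553387335012907114851080143004426903286668945533997003531268378551626279363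0121224616235979835194243732507045026566121634268230250370198284420537570898065114455062410314438116670689105354869818166928573662867491406319052419175163468992781441147895268922811318461912024254800619582151440411360289704161241979227512783230444017047574129399924268290435820025038319600522402234323498522438002849831774665927796723000476435593055450603538216088548473718376958111152679040741433049291129935201681826322908040877821624477979750993259479666182402701547338859623665243938434977968415488713341843944485578615477743056235557211627496795369106387353309947761674944343389219351460670377679665529361365640920022240863623378471506863111566414676032760422268253357096108370941548567202598172127889739617661918358306997340179325151729864810951059441414318532793660841929846528363032808583919075140523575562443908020578157377000812314270061319960058483745026704324992003661892850758155641007862521880364491901724975866478197648250586302902154250504219039090734944407803191730996372357065596097134486998020386996710953302506890991427050957597888718292073555398345314824467674284867403198273490674114765093593413430082250403666131901416652219843276350594379855814794883405644963239392711119196929899054516717098873819419376656757303241461607222315905996428585258172069739420870243982610508922988597450895887204085545949884094962630957427982305440465919023089636467488295750135693635168067275385520365832342482476682574562294717174274102125010262403898246459926476408836991842600878080]]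

/-- Root of class 0. -/
def cfgTrioOctadRep0 : List ℕ := [307594]

/-- Spanning tree of class 0. -/
def cfgTrioOctadTree0 : OTree :=
  .node 1 (.node 1 .nil .nil) .nil

/-- Root of class 1. -/
def cfgTrioOctadRep1 : List ℕ := [4845570]

/-- Spanning tree of class 1. -/
def cfgTrioOctadTree1 : OTree :=
  .node 0 (.node 1 (.node 0 (.node 0 (.node 0 (.node 1 (.node 0 (.node 0 (.node 0 .nil (.node 1
  (.node 1 .nil .nil) .nil)) .nil) (.node 1 (.node 1 .nil .nil) .nil)) .nil) (.node 1 (.node 0
  (.node 0 (.node 0 .nil .nil) .nil) (.node 1 (.node 1 (.node 0 (.node 0 (.node 0 .nil .nil)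
  (.node 1 .nil .nil)) (.node 1 (.node 0 .nil (.node 1 .nil .nil)) .nil)) .nil) .nil)) .nil))
  (.node 1 (.node 1 (.node 0 (.node 0 .nil (.node 1 .nil .nil)) (.node 1 .nil .nil)) .nil)
  .nil)) (.node 1 (.node 0 (.node 1 .nil .nil) (.node 1 (.node 0 (.node 1 .nil .nil) .nil)
  .nil)) .nil)) .nil) (.node 1 (.node 0 (.node 0 (.node 0 (.node 1 (.node 0 (.node 0 (.node 0
  .nil (.node 1 (.node 1 (.node 0 .nil .nil) .nil) .nil)) .nil) (.node 1 (.node 0 (.node 0
  (.node 0 .nil .nil) .nil) (.node 1 .nil .nil)) .nil)) .nil) (.node 1 (.node 0 (.node 0 (.node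
  0 .nil (.node 1 (.node 0 (.node 0 (.node 1 .nil .nil) .nil) .nil) .nil)) .nil) (.node 1 (.node
  1 (.node 0 (.node 0 (.node 0 .nil .nil) (.node 1 .nil .nil)) (.node 1 (.node 0 .nil (.node 1
  .nil .nil)) .nil)) .nil) .nil)) .nil)) (.node 1 (.node 1 (.node 0 (.node 0 .nil (.node 1 .nil
  .nil)) (.node 1 .nil .nil)) .nil) .nil)) (.node 1 (.node 0 (.node 1 .nil .nil) (.node 1 (.node
  0 (.node 1 .nil .nil) .nil) .nil)) .nil)) .nil)

/-- Root of class 2. -/
def cfgTrioOctadRep2 : List ℕ := [13062145]

/-- Spanning tree of class 2. -/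
def cfgTrioOctadTree2 : OTree :=
  .node 0 (.node 0 (.node 0 (.node 1 (.node 0 (.node 0 (.node 1 (.node 0 (.node 0 (.node 0 .nil
  .nil) (.node 1 (.node 0 .nil (.node 1 (.node 0 (.node 0 .nil .nil) .nil) .nil)) .nil)) (.node
  1 (.node 1 (.node 1 (.node 0 .nil (.node 1 .nil .nil)) .nil) .nil) .nil)) .nil) (.node 1
  (.node 0 (.node 1 (.node 0 (.node 1 (.node 0 .nil (.node 1 .nil .nil)) .nil) (.node 1 .nil
  .nil)) .nil) (.node 1 (.node 0 (.node 0 .nil (.node 1 (.node 0 .nil (.node 1 .nil .nil))
  .nil)) (.node 1 (.node 0 .nil (.node 1 (.node 0 .nil .nil) .nil)) .nil)) .nil)) .nil)) (.node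
  1 (.node 0 (.node 0 (.node 1 .nil .nil) (.node 1 (.node 0 (.node 1 (.node 0 .nil (.node 1
  (.node 0 .nil .nil) .nil)) .nil) (.node 1 (.node 1 (.node 0 .nil (.node 1 (.node 1 .nil .nil)
  .nil)) .nil) .nil)) .nil)) (.node 1 (.node 0 (.node 1 .nil .nil) (.node 1 (.node 0 (.node 0
  (.node 0 (.node 1 .nil .nil) .nil) (.node 1 (.node 0 (.node 1 (.node 1 .nil .nil) .nil) .nil)
  .nil)) (.node 1 (.node 1 (.node 0 .nil (.node 1 (.node 0 .nil .nil) .nil)) .nil) .nil)) .nil))
  .nil)) .nil)) .nil) (.node 1 (.node 0 (.node 0 (.node 0 (.node 1 (.node 0 (.node 0 (.node 0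
  .nil .nil) (.node 1 (.node 0 .nil .nil) .nil)) (.node 1 (.node 0 (.node 0 .nil (.node 1 (.node
  0 .nil .nil) .nil)) (.node 1 (.node 0 (.node 1 (.node 1 .nil .nil) .nil) .nil) .nil)) .nil))
  .nil) (.node 1 (.node 0 (.node 0 (.node 0 .nil (.node 1 (.node 1 (.node 0 (.node 0 .nil .nil)
  .nil) .nil) .nil)) (.node 1 (.node 0 (.node 1 .nil .nil) .nil) .nil)) (.node 1 (.node 0 (.node
  1 .nil .nil) (.node 1 (.node 1 .nil .nil) .nil)) .nil)) .nil)) (.node 1 (.node 0 (.node 1
  (.node 0 (.node 1 (.node 0 .nil (.node 1 .nil .nil)) .nil) .nil) .nil) (.node 1 (.node 0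
  (.node 0 (.node 0 (.node 1 (.node 1 (.node 0 .nil .nil) .nil) .nil) (.node 1 .nil .nil))
  (.node 1 (.node 0 (.node 1 (.node 0 (.node 1 .nil .nil) (.node 1 .nil .nil)) .nil) (.node 1
  .nil .nil)) .nil)) (.node 1 (.node 0 (.node 0 (.node 0 (.node 1 .nil .nil) (.node 1 .nil
  .nil)) (.node 1 (.node 0 (.node 1 .nil .nil) .nil) .nil)) (.node 1 (.node 0 (.node 0 (.node 1
  .nil .nil) (.node 1 .nil .nil)) .nil) .nil)) .nil)) .nil)) .nil)) (.node 1 (.node 0 (.node 0
  (.node 0 (.node 1 (.node 1 (.node 1 .nil .nil) .nil) .nil) (.node 1 (.node 0 (.node 0 (.node 0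
  (.node 1 .nil .nil) (.node 1 (.node 1 .nil .nil) .nil)) (.node 1 .nil .nil)) (.node 1 .nil
  .nil)) .nil)) (.node 1 (.node 0 (.node 1 (.node 0 (.node 1 .nil .nil) (.node 1 (.node 1 .nil
  .nil) .nil)) .nil) (.node 1 (.node 1 (.node 1 (.node 1 .nil .nil) .nil) .nil) .nil)) .nil))
  (.node 1 (.node 0 (.node 0 (.node 0 (.node 1 (.node 1 .nil .nil) .nil) (.node 1 (.node 0 .nil
  (.node 1 (.node 1 .nil .nil) .nil)) .nil)) (.node 1 (.node 0 (.node 1 .nil .nil) .nil) .nil))
  .nil) .nil)) .nil)) .nil)) (.node 1 (.node 0 (.node 0 (.node 0 (.node 1 (.node 0 (.node 0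
  (.node 0 .nil .nil) (.node 1 (.node 0 .nil (.node 1 (.node 1 (.node 1 .nil .nil) .nil) .nil))
  .nil)) (.node 1 (.node 0 .nil (.node 1 (.node 1 (.node 0 .nil .nil) .nil) .nil)) .nil)) .nil)
  (.node 1 (.node 1 (.node 0 (.node 1 (.node 1 (.node 0 .nil (.node 1 (.node 0 (.node 1 .nil
  .nil) .nil) .nil)) .nil) .nil) (.node 1 (.node 1 (.node 0 (.node 0 (.node 0 .nil .nil) (.node
  1 .nil .nil)) .nil) .nil) .nil)) .nil) .nil)) (.node 1 (.node 0 (.node 1 (.node 0 (.node 1
  (.node 1 (.node 1 .nil .nil) .nil) .nil) (.node 1 (.node 0 (.node 0 .nil .nil) (.node 1 (.node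
  1 (.node 0 .nil .nil) .nil) .nil)) .nil)) .nil) (.node 1 (.node 0 (.node 0 (.node 0 (.node 1
  .nil .nil) (.node 1 (.node 0 (.node 0 .nil (.node 1 (.node 1 .nil .nil) .nil)) (.node 1 (.node
  1 .nil .nil) .nil)) .nil)) (.node 1 (.node 1 (.node 1 .nil .nil) .nil) .nil)) (.node 1 (.node
  0 (.node 0 .nil (.node 1 (.node 0 (.node 1 .nil .nil) .nil) .nil)) (.node 1 (.node 0 (.node 1
  (.node 0 (.node 1 .nil .nil) .nil) .nil) (.node 1 (.node 0 (.node 0 .nil .nil) (.node 1 (.node
  0 (.node 0 .nil .nil) (.node 1 .nil .nil)) .nil)) .nil)) .nil)) .nil)) .nil)) .nil)) (.node 1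
  (.node 0 (.node 0 (.node 0 (.node 1 (.node 0 (.node 0 .nil (.node 1 (.node 0 .nil .nil) .nil))
  (.node 1 (.node 0 (.node 1 .nil .nil) (.node 1 .nil .nil)) .nil)) .nil) (.node 1 (.node 0
  (.node 1 (.node 0 .nil .nil) .nil) (.node 1 (.node 0 (.node 0 (.node 0 .nil (.node 1 (.node 1
  .nil .nil) .nil)) .nil) (.node 1 (.node 0 (.node 0 .nil (.node 1 .nil .nil)) (.node 1 (.node 0
  .nil (.node 1 (.node 1 .nil .nil) .nil)) .nil)) .nil)) .nil)) .nil)) (.node 1 (.node 0 (.node
  1 (.node 0 (.node 1 (.node 1 .nil .nil) .nil) (.node 1 (.node 0 (.node 0 .nil (.node 1 .nil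
  .nil)) (.node 1 (.node 0 (.node 1 .nil .nil) .nil) .nil)) .nil)) .nil) (.node 1 (.node 0
  (.node 0 (.node 0 .nil (.node 1 .nil .nil)) (.node 1 (.node 0 .nil (.node 1 (.node 1 .nil
  .nil) .nil)) .nil)) (.node 1 (.node 0 (.node 0 (.node 0 .nil (.node 1 .nil .nil)) (.node 1
  (.node 0 .nil .nil) .nil)) (.node 1 (.node 0 (.node 1 (.node 1 .nil .nil) .nil) (.node 1
  (.node 1 (.node 0 .nil .nil) .nil) .nil)) .nil)) .nil)) .nil)) .nil)) (.node 1 (.node 0 (.node
  1 (.node 0 .nil (.node 1 (.node 0 (.node 0 (.node 0 (.node 1 .nil .nil) (.node 1 (.node 0 .nil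
  (.node 1 .nil .nil)) .nil)) .nil) .nil) .nil)) .nil) (.node 1 (.node 0 (.node 0 (.node 0
  (.node 1 (.node 0 (.node 0 .nil .nil) .nil) .nil) (.node 1 (.node 0 (.node 0 (.node 1 (.node 0
  .nil .nil) .nil) (.node 1 .nil .nil)) (.node 1 (.node 1 .nil .nil) .nil)) .nil)) (.node 1 .nil
  .nil)) (.node 1 (.node 0 (.node 0 (.node 1 .nil .nil) (.node 1 (.node 0 (.node 1 (.node 1 .nil
  .nil) .nil) (.node 1 (.node 0 .nil .nil) .nil)) .nil)) (.node 1 (.node 0 (.node 0 (.node 0
  .nil .nil) (.node 1 .nil .nil)) (.node 1 .nil .nil)) .nil)) .nil)) .nil)) .nil)) .nil)) .nil))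
  (.node 1 (.node 0 (.node 0 (.node 0 (.node 1 (.node 0 (.node 0 (.node 0 .nil (.node 1 (.node 0
  (.node 1 .nil .nil) (.node 1 .nil .nil)) .nil)) (.node 1 (.node 0 .nil (.node 1 (.node 1 .nil
  .nil) .nil)) .nil)) (.node 1 (.node 0 (.node 0 (.node 1 (.node 0 (.node 1 .nil .nil) (.node 1
  .nil .nil)) .nil) (.node 1 (.node 0 .nil .nil) .nil)) (.node 1 (.node 0 (.node 1 (.node 0 .nil
  .nil) .nil) (.node 1 (.node 0 (.node 1 .nil .nil) .nil) .nil)) .nil)) .nil)) .nil) (.node 1
  (.node 0 (.node 0 (.node 1 (.node 0 (.node 1 (.node 0 .nil .nil) .nil) (.node 1 .nil .nil))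
  .nil) (.node 1 (.node 0 (.node 1 (.node 0 .nil (.node 1 (.node 1 .nil .nil) .nil)) .nil)
  (.node 1 (.node 0 (.node 0 .nil .nil) (.node 1 .nil .nil)) .nil)) .nil)) (.node 1 (.node 0
  (.node 0 (.node 0 .nil (.node 1 (.node 0 .nil (.node 1 (.node 1 (.node 0 .nil .nil) .nil)
  .nil)) .nil)) (.node 1 (.node 0 .nil (.node 1 (.node 0 (.node 0 (.node 0 .nil .nil) .nil)
  (.node 1 (.node 1 .nil .nil) .nil)) .nil)) .nil)) (.node 1 (.node 0 (.node 0 (.node 0 (.node 1
  (.node 0 .nil .nil) .nil) (.node 1 (.node 1 .nil .nil) .nil)) (.node 1 .nil .nil)) (.node 1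
  (.node 0 (.node 0 (.node 0 (.node 1 .nil .nil) (.node 1 .nil .nil)) (.node 1 .nil .nil)) .nil)
  .nil)) .nil)) .nil)) .nil)) (.node 1 (.node 0 (.node 1 (.node 0 (.node 1 (.node 0 .nil (.node
  1 .nil .nil)) .nil) (.node 1 (.node 0 (.node 0 (.node 1 (.node 0 .nil .nil) .nil) (.node 1
  (.node 1 (.node 0 .nil (.node 1 .nil .nil)) .nil) .nil)) (.node 1 (.node 0 (.node 1 .nil .nil)
  .nil) .nil)) .nil)) .nil) (.node 1 (.node 0 (.node 0 (.node 0 (.node 1 (.node 1 (.node 1 .nil
  .nil) .nil) .nil) (.node 1 (.node 0 (.node 1 .nil .nil) (.node 1 (.node 1 (.node 0 (.node 1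
  .nil .nil) .nil) .nil) .nil)) .nil)) (.node 1 (.node 0 (.node 1 (.node 0 (.node 1 .nil .nil)
  (.node 1 .nil .nil)) .nil) (.node 1 (.node 0 (.node 0 .nil (.node 1 .nil .nil)) (.node 1
  (.node 0 .nil .nil) .nil)) .nil)) .nil)) (.node 1 (.node 0 (.node 0 (.node 0 .nil (.node 1
  (.node 0 (.node 0 (.node 0 .nil .nil) (.node 1 .nil .nil)) (.node 1 .nil .nil)) .nil)) (.node
  1 (.node 0 .nil (.node 1 (.node 1 .nil .nil) .nil)) .nil)) (.node 1 (.node 0 (.node 1 (.node 0
  (.node 1 .nil .nil) (.node 1 (.node 0 .nil .nil) .nil)) .nil) .nil) .nil)) .nil)) .nil))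
  .nil)) (.node 1 (.node 0 (.node 0 (.node 0 (.node 1 (.node 0 (.node 0 .nil (.node 1 (.node 0
  .nil .nil) .nil)) (.node 1 (.node 0 .nil (.node 1 (.node 0 (.node 0 .nil (.node 1 .nil .nil))
  (.node 1 .nil .nil)) .nil)) .nil)) .nil) (.node 1 (.node 0 (.node 0 (.node 0 .nil (.node 1
  (.node 0 (.node 0 .nil .nil) (.node 1 (.node 1 (.node 0 .nil (.node 1 .nil .nil)) .nil) .nil))
  .nil)) (.node 1 (.node 0 (.node 1 .nil .nil) (.node 1 (.node 1 .nil .nil) .nil)) .nil)) (.node
  1 (.node 1 (.node 0 (.node 0 (.node 0 .nil (.node 1 (.node 1 (.node 1 .nil .nil) .nil) .nil))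
  (.node 1 .nil .nil)) (.node 1 (.node 1 .nil .nil) .nil)) .nil) .nil)) .nil)) (.node 1 (.node 0
  (.node 1 (.node 0 (.node 1 (.node 1 (.node 0 .nil (.node 1 (.node 0 .nil (.node 1 .nil .nil))
  .nil)) .nil) .nil) (.node 1 (.node 0 (.node 0 (.node 1 .nil .nil) (.node 1 (.node 0 .nil
  (.node 1 .nil .nil)) .nil)) (.node 1 (.node 0 (.node 1 (.node 0 .nil .nil) .nil) (.node 1
  (.node 0 .nil (.node 1 .nil .nil)) .nil)) .nil)) .nil)) .nil) (.node 1 (.node 0 (.node 0 .nil
  .nil) (.node 1 (.node 0 .nil (.node 1 (.node 0 (.node 0 (.node 0 (.node 1 .nil .nil) (.node 1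
  .nil .nil)) (.node 1 .nil .nil)) (.node 1 (.node 0 .nil (.node 1 (.node 1 .nil .nil) .nil))
  .nil)) .nil)) .nil)) .nil)) .nil)) (.node 1 (.node 0 (.node 0 (.node 0 .nil (.node 1 (.node 0
  (.node 1 (.node 0 .nil .nil) .nil) (.node 1 (.node 1 .nil .nil) .nil)) .nil)) (.node 1 (.node
  0 (.node 1 (.node 0 .nil (.node 1 (.node 1 .nil .nil) .nil)) .nil) (.node 1 (.node 0 (.node 0
  (.node 0 (.node 1 .nil .nil) (.node 1 .nil .nil)) .nil) (.node 1 (.node 1 (.node 1 .nil .nil)
  .nil) .nil)) .nil)) .nil)) (.node 1 (.node 0 (.node 0 (.node 0 .nil (.node 1 (.node 0 (.node 0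
  (.node 1 (.node 1 .nil .nil) .nil) (.node 1 (.node 0 .nil (.node 1 (.node 1 .nil .nil) .nil))
  .nil)) (.node 1 (.node 0 .nil .nil) .nil)) .nil)) (.node 1 (.node 0 .nil (.node 1 (.node 0
  .nil .nil) .nil)) .nil)) (.node 1 (.node 0 (.node 0 (.node 0 (.node 1 .nil .nil) (.node 1
  (.node 0 (.node 0 (.node 1 .nil .nil) (.node 1 .nil .nil)) (.node 1 (.node 0 .nil .nil) .nil))
  .nil)) (.node 1 (.node 0 (.node 1 .nil .nil) (.node 1 (.node 0 .nil .nil) .nil)) .nil)) (.node
  1 (.node 0 (.node 0 (.node 0 .nil .nil) (.node 1 (.node 0 (.node 1 .nil .nil) .nil) .nil))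
  .nil) .nil)) .nil)) .nil)) .nil)) .nil)) .nil)

/-- Root of class 0. -/
def cfgTrioSextetRep0 : List ℕ := [8388657, 3140, 33154, 274440, 1131008, 6946816]

/-- Spanning tree of class 0. -/
def cfgTrioSextetTree0 : OTree :=
  .node 0 .nil (.node 1 (.node 0 (.node 0 (.node 1 .nil .nil) .nil) (.node 1 .nil .nil)) .nil)

/-- Root of class 1. -/
def cfgTrioSextetRep1 : List ℕ := [8388629, 3168, 577536, 1441920, 2097928, 4268034]

/-- Spanning tree of class 1. -/
def cfgTrioSextetTree1 : OTree :=
  .node 0 (.node 0 (.node 0 (.node 1 (.node 0 (.node 0 (.node 0 (.node 1 (.node 0 .nil (.node 1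
  (.node 1 .nil .nil) .nil)) .nil) (.node 1 (.node 0 .nil (.node 1 (.node 1 .nil .nil) .nil))
  .nil)) .nil) (.node 1 (.node 1 (.node 0 .nil .nil) .nil) .nil)) .nil) (.node 1 (.node 0 (.node
  0 .nil (.node 1 .nil .nil)) (.node 1 (.node 1 .nil .nil) .nil)) .nil)) (.node 1 (.node 0
  (.node 1 (.node 1 (.node 0 (.node 0 .nil .nil) (.node 1 .nil .nil)) .nil) .nil) (.node 1
  (.node 0 (.node 0 (.node 0 .nil .nil) (.node 1 .nil .nil)) (.node 1 (.node 1 (.node 1 (.node 0
  .nil (.node 1 .nil .nil)) .nil) .nil) .nil)) .nil)) .nil)) (.node 1 (.node 0 (.node 0 (.node 0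
  (.node 1 (.node 0 (.node 1 .nil .nil) .nil) .nil) (.node 1 (.node 0 (.node 0 (.node 0 .nil
  (.node 1 (.node 0 (.node 1 .nil .nil) (.node 1 .nil .nil)) .nil)) (.node 1 .nil .nil)) (.node
  1 (.node 0 (.node 1 (.node 1 .nil .nil) .nil) (.node 1 (.node 0 (.node 1 .nil .nil) .nil)
  .nil)) .nil)) .nil)) (.node 1 (.node 0 (.node 1 (.node 1 .nil .nil) .nil) (.node 1 (.node 1
  (.node 0 (.node 1 .nil .nil) .nil) .nil) .nil)) .nil)) (.node 1 (.node 0 (.node 1 .nil .nil)
  (.node 1 (.node 0 (.node 0 (.node 0 .nil .nil) (.node 1 .nil .nil)) (.node 1 (.node 0 .nil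
  (.node 1 .nil .nil)) .nil)) .nil)) .nil)) .nil)

/-- Root of class 2. -/
def cfgTrioSextetRep2 : List ℕ := [8388619, 9536, 147492, 328320, 1574928, 6328320]

/-- Spanning tree of class 2. -/
def cfgTrioSextetTree2 : OTree :=
  .node 0 (.node 0 (.node 0 (.node 1 (.node 0 (.node 0 (.node 0 (.node 1 (.node 0 (.node 0 .nil
  .nil) (.node 1 (.node 0 .nil .nil) .nil)) .nil) (.node 1 (.node 1 (.node 1 (.node 1 (.node 0
  .nil (.node 1 .nil .nil)) .nil) .nil) .nil) .nil)) (.node 1 (.node 0 (.node 1 .nil .nil)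
  (.node 1 (.node 1 (.node 0 .nil .nil) .nil) .nil)) .nil)) (.node 1 (.node 0 (.node 0 (.node 0
  (.node 1 .nil .nil) (.node 1 (.node 0 (.node 0 .nil .nil) (.node 1 (.node 1 .nil .nil) .nil))
  .nil)) (.node 1 (.node 0 (.node 1 (.node 0 .nil .nil) .nil) (.node 1 (.node 1 (.node 1 .nil
  .nil) .nil) .nil)) .nil)) (.node 1 (.node 0 (.node 1 .nil .nil) (.node 1 (.node 0 (.node 1
  (.node 1 (.node 0 .nil .nil) .nil) .nil) (.node 1 .nil .nil)) .nil)) .nil)) .nil)) .nil)
  (.node 1 (.node 0 (.node 0 (.node 0 (.node 1 .nil .nil) (.node 1 (.node 0 (.node 0 (.node 1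
  (.node 0 .nil (.node 1 .nil .nil)) .nil) .nil) .nil) .nil)) (.node 1 (.node 0 .nil (.node 1
  (.node 0 .nil (.node 1 (.node 0 (.node 0 (.node 1 .nil .nil) .nil) (.node 1 (.node 1 (.node 1
  .nil .nil) .nil) .nil)) .nil)) .nil)) .nil)) .nil) .nil)) (.node 1 (.node 0 (.node 0 (.node 0
  (.node 1 (.node 1 (.node 0 .nil (.node 1 (.node 1 (.node 0 (.node 0 .nil .nil) (.node 1 .nil
  .nil)) .nil) .nil)) .nil) .nil) (.node 1 (.node 1 (.node 0 (.node 0 (.node 0 .nil .nil) .nil)
  (.node 1 (.node 0 (.node 0 (.node 0 .nil .nil) (.node 1 .nil .nil)) .nil) .nil)) .nil) .nil))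
  (.node 1 (.node 0 (.node 1 (.node 0 (.node 1 (.node 0 .nil (.node 1 .nil .nil)) .nil) (.node 1
  (.node 0 (.node 0 (.node 0 (.node 1 .nil .nil) .nil) (.node 1 .nil .nil)) .nil) .nil)) .nil)
  (.node 1 (.node 0 (.node 0 (.node 0 (.node 1 .nil .nil) .nil) (.node 1 (.node 0 (.node 1
  (.node 0 .nil (.node 1 .nil .nil)) .nil) (.node 1 (.node 0 .nil .nil) .nil)) .nil)) (.node 1
  (.node 0 (.node 0 .nil (.node 1 (.node 1 (.node 0 .nil .nil) .nil) .nil)) (.node 1 (.node 0
  .nil .nil) .nil)) .nil)) .nil)) .nil)) (.node 1 (.node 0 (.node 0 (.node 0 (.node 1 (.node 0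
  (.node 1 (.node 0 .nil .nil) .nil) (.node 1 .nil .nil)) .nil) (.node 1 (.node 0 (.node 0
  (.node 0 .nil (.node 1 (.node 1 .nil .nil) .nil)) (.node 1 (.node 0 .nil .nil) .nil)) .nil)
  .nil)) (.node 1 (.node 0 (.node 1 (.node 0 .nil (.node 1 (.node 1 (.node 0 (.node 1 .nil .nil)
  .nil) .nil) .nil)) .nil) (.node 1 (.node 0 (.node 1 (.node 1 .nil .nil) .nil) (.node 1 (.node
  0 (.node 1 (.node 0 .nil .nil) .nil) (.node 1 (.node 0 .nil (.node 1 .nil .nil)) .nil)) .nil))
  .nil)) .nil)) (.node 1 (.node 0 (.node 1 (.node 0 (.node 1 (.node 0 .nil (.node 1 .nil .nil))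
  .nil) .nil) .nil) (.node 1 (.node 0 (.node 0 (.node 0 (.node 1 .nil .nil) .nil) (.node 1
  (.node 1 (.node 0 (.node 1 .nil .nil) (.node 1 .nil .nil)) .nil) .nil)) (.node 1 (.node 0 .nil
  (.node 1 (.node 0 (.node 0 .nil .nil) (.node 1 (.node 1 .nil .nil) .nil)) .nil)) .nil)) .nil))
  .nil)) .nil)) .nil)) (.node 1 (.node 0 (.node 0 (.node 0 (.node 1 (.node 0 (.node 0 (.node 0
  .nil .nil) (.node 1 (.node 0 .nil (.node 1 (.node 0 .nil (.node 1 .nil .nil)) .nil)) .nil))
  (.node 1 (.node 0 (.node 0 (.node 0 .nil (.node 1 .nil .nil)) .nil) (.node 1 (.node 1 (.node 0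
  .nil (.node 1 (.node 1 .nil .nil) .nil)) .nil) .nil)) .nil)) .nil) (.node 1 (.node 0 (.node 0
  (.node 0 (.node 1 (.node 0 .nil (.node 1 (.node 1 (.node 0 .nil .nil) .nil) .nil)) .nil)
  (.node 1 .nil .nil)) (.node 1 (.node 0 .nil (.node 1 .nil .nil)) .nil)) (.node 1 (.node 0
  (.node 0 (.node 0 .nil .nil) (.node 1 (.node 0 (.node 1 .nil .nil) (.node 1 .nil .nil)) .nil))
  (.node 1 (.node 0 (.node 1 (.node 1 .nil .nil) .nil) (.node 1 (.node 1 (.node 0 .nil .nil)
  .nil) .nil)) .nil)) .nil)) .nil)) (.node 1 (.node 0 (.node 1 (.node 0 (.node 1 (.node 0 .nil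
  .nil) .nil) (.node 1 (.node 0 (.node 1 (.node 1 .nil .nil) .nil) (.node 1 (.node 0 (.node 0
  .nil (.node 1 .nil .nil)) .nil) .nil)) .nil)) .nil) .nil) .nil)) (.node 1 (.node 0 (.node 0
  (.node 0 (.node 1 (.node 0 (.node 0 .nil (.node 1 .nil .nil)) (.node 1 (.node 0 .nil (.node 1
  .nil .nil)) .nil)) .nil) (.node 1 (.node 0 (.node 0 (.node 0 (.node 1 (.node 1 (.node 1 .nil
  .nil) .nil) .nil) .nil) (.node 1 (.node 1 .nil .nil) .nil)) (.node 1 (.node 0 .nil (.node 1
  (.node 1 .nil .nil) .nil)) .nil)) .nil)) (.node 1 (.node 0 (.node 1 (.node 1 (.node 0 .nil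
  .nil) .nil) .nil) (.node 1 (.node 0 (.node 0 (.node 0 (.node 1 .nil .nil) (.node 1 (.node 0
  (.node 1 .nil .nil) (.node 1 .nil .nil)) .nil)) (.node 1 (.node 0 (.node 1 .nil .nil) (.node 1
  .nil .nil)) .nil)) (.node 1 (.node 0 (.node 0 .nil (.node 1 .nil .nil)) (.node 1 (.node 1 .nil
  .nil) .nil)) .nil)) .nil)) .nil)) (.node 1 (.node 0 (.node 0 (.node 0 .nil (.node 1 (.node 0
  (.node 0 .nil (.node 1 .nil .nil)) (.node 1 (.node 0 .nil .nil) .nil)) .nil)) (.node 1 .nil
  .nil)) (.node 1 (.node 0 (.node 1 (.node 0 (.node 1 (.node 0 .nil (.node 1 .nil .nil)) .nil)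
  (.node 1 (.node 0 .nil (.node 1 (.node 0 .nil .nil) .nil)) .nil)) .nil) (.node 1 (.node 0
  (.node 0 (.node 1 .nil .nil) (.node 1 (.node 0 .nil .nil) .nil)) (.node 1 (.node 0 (.node 1
  (.node 1 .nil .nil) .nil) (.node 1 (.node 0 .nil (.node 1 .nil .nil)) .nil)) .nil)) .nil))
  .nil)) .nil)) .nil)) .nil)

/-- Root of class 3. -/
def cfgTrioSextetRep3 : List ℕ := [8388615, 147496, 268544, 1082880, 2621632, 4268048]

/-- Spanning tree of class 3. -/
def cfgTrioSextetTree3 : OTree :=
  .node 0 (.node 0 (.node 0 (.node 1 (.node 0 (.node 0 (.node 0 (.node 1 (.node 0 (.node 1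
  (.node 0 .nil .nil) .nil) (.node 1 (.node 0 (.node 0 (.node 0 .nil (.node 1 .nil .nil)) .nil)
  (.node 1 (.node 0 (.node 1 .nil .nil) .nil) .nil)) .nil)) .nil) (.node 1 (.node 0 (.node 0
  (.node 0 (.node 1 (.node 0 .nil .nil) .nil) (.node 1 (.node 1 .nil .nil) .nil)) (.node 1
  (.node 0 .nil (.node 1 (.node 0 (.node 1 .nil .nil) (.node 1 (.node 0 .nil (.node 1 .nil
  .nil)) .nil)) .nil)) .nil)) .nil) .nil)) (.node 1 (.node 0 (.node 1 (.node 0 .nil (.node 1
  (.node 1 (.node 1 .nil .nil) .nil) .nil)) .nil) (.node 1 (.node 0 (.node 0 .nil (.node 1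
  (.node 0 .nil .nil) .nil)) (.node 1 (.node 1 (.node 1 (.node 0 (.node 1 .nil .nil) (.node 1
  (.node 0 (.node 1 .nil .nil) (.node 1 .nil .nil)) .nil)) .nil) .nil) .nil)) .nil)) .nil))
  (.node 1 (.node 0 (.node 0 (.node 0 (.node 1 (.node 1 (.node 0 (.node 1 .nil .nil) .nil) .nil)
  .nil) (.node 1 (.node 0 (.node 0 (.node 0 (.node 1 .nil .nil) .nil) (.node 1 (.node 0 (.node 1
  .nil .nil) (.node 1 (.node 0 .nil .nil) .nil)) .nil)) (.node 1 .nil .nil)) .nil)) (.node 1
  (.node 0 (.node 1 (.node 0 (.node 1 (.node 1 .nil .nil) .nil) (.node 1 (.node 0 .nil (.node 1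
  (.node 1 (.node 0 .nil .nil) .nil) .nil)) .nil)) .nil) (.node 1 (.node 0 (.node 0 (.node 1
  .nil .nil) (.node 1 (.node 0 .nil (.node 1 .nil .nil)) .nil)) (.node 1 (.node 0 (.node 0
  (.node 1 .nil .nil) (.node 1 (.node 0 (.node 1 .nil .nil) .nil) .nil)) .nil) .nil)) .nil))
  .nil)) (.node 1 (.node 0 (.node 0 (.node 1 (.node 0 (.node 0 (.node 0 .nil .nil) (.node 1
  (.node 0 .nil .nil) .nil)) (.node 1 .nil .nil)) .nil) (.node 1 (.node 0 (.node 1 (.node 0 .nil
  (.node 1 .nil .nil)) .nil) (.node 1 (.node 0 (.node 0 (.node 1 .nil .nil) (.node 1 (.node 1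
  .nil .nil) .nil)) .nil) .nil)) .nil)) (.node 1 (.node 0 (.node 0 (.node 1 (.node 0 (.node 0
  .nil (.node 1 (.node 1 .nil .nil) .nil)) (.node 1 (.node 0 .nil (.node 1 (.node 0 .nil .nil)
  .nil)) .nil)) .nil) (.node 1 (.node 0 (.node 1 (.node 0 .nil (.node 1 (.node 1 .nil .nil)
  .nil)) .nil) (.node 1 (.node 0 .nil .nil) .nil)) .nil)) (.node 1 (.node 0 (.node 1 (.node 0
  (.node 1 (.node 0 .nil .nil) .nil) (.node 1 .nil .nil)) .nil) (.node 1 (.node 0 (.node 0 .nil
  (.node 1 (.node 0 .nil .nil) .nil)) (.node 1 .nil .nil)) .nil)) .nil)) .nil)) .nil)) .nil))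
  .nil) (.node 1 (.node 0 (.node 0 (.node 0 (.node 1 (.node 0 (.node 0 (.node 0 .nil .nil)
  (.node 1 (.node 0 .nil (.node 1 (.node 0 (.node 0 .nil (.node 1 .nil .nil)) .nil) .nil))
  .nil)) (.node 1 (.node 0 (.node 0 (.node 0 .nil (.node 1 .nil .nil)) (.node 1 (.node 0 .nil
  .nil) .nil)) (.node 1 (.node 0 (.node 1 (.node 0 .nil .nil) .nil) (.node 1 (.node 0 .nil
  (.node 1 (.node 1 (.node 1 .nil .nil) .nil) .nil)) .nil)) .nil)) .nil)) .nil) (.node 1 (.node
  0 (.node 0 (.node 0 (.node 1 (.node 0 .nil (.node 1 (.node 0 .nil .nil) .nil)) .nil) (.node 1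
  (.node 0 (.node 1 (.node 0 .nil (.node 1 .nil .nil)) .nil) (.node 1 (.node 0 .nil (.node 1
  (.node 1 .nil .nil) .nil)) .nil)) .nil)) (.node 1 (.node 1 (.node 0 (.node 0 (.node 1 (.node 1
  .nil .nil) .nil) (.node 1 .nil .nil)) (.node 1 (.node 0 (.node 1 (.node 1 .nil .nil) .nil)
  (.node 1 (.node 0 .nil (.node 1 (.node 0 .nil .nil) .nil)) .nil)) .nil)) .nil) .nil)) (.node 1
  (.node 0 (.node 0 (.node 0 (.node 1 (.node 1 .nil .nil) .nil) (.node 1 .nil .nil)) (.node 1
  (.node 0 .nil (.node 1 (.node 0 (.node 0 .nil .nil) (.node 1 (.node 0 .nil .nil) .nil)) .nil))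
  .nil)) (.node 1 .nil .nil)) .nil)) .nil)) (.node 1 (.node 0 (.node 1 (.node 0 (.node 1 (.node
  0 .nil .nil) .nil) (.node 1 (.node 0 (.node 0 (.node 0 .nil .nil) (.node 1 (.node 0 (.node 1
  (.node 1 .nil .nil) .nil) (.node 1 .nil .nil)) .nil)) (.node 1 (.node 0 (.node 1 .nil .nil)
  (.node 1 .nil .nil)) .nil)) .nil)) .nil) (.node 1 (.node 0 (.node 0 (.node 0 (.node 1 (.node 0
  .nil .nil) .nil) (.node 1 (.node 1 (.node 0 .nil (.node 1 (.node 0 .nil (.node 1 .nil .nil))
  .nil)) .nil) .nil)) (.node 1 (.node 0 (.node 1 (.node 1 .nil .nil) .nil) (.node 1 (.node 0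
  (.node 0 (.node 0 .nil (.node 1 .nil .nil)) .nil) (.node 1 (.node 0 .nil (.node 1 (.node 0
  (.node 0 .nil (.node 1 .nil .nil)) (.node 1 .nil .nil)) .nil)) .nil)) .nil)) .nil)) (.node 1
  (.node 0 (.node 0 (.node 0 (.node 1 (.node 1 (.node 0 .nil .nil) .nil) .nil) (.node 1 (.node 0
  (.node 0 .nil .nil) (.node 1 (.node 0 (.node 1 .nil .nil) .nil) .nil)) .nil)) (.node 1 (.node
  0 (.node 1 .nil .nil) (.node 1 (.node 0 (.node 1 (.node 1 .nil .nil) .nil) (.node 1 .nil
  .nil)) .nil)) .nil)) (.node 1 (.node 0 (.node 0 .nil (.node 1 .nil .nil)) .nil) .nil)) .nil))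
  .nil)) .nil)) (.node 1 (.node 0 (.node 0 (.node 0 (.node 1 (.node 0 (.node 0 (.node 0 .nil
  (.node 1 .nil .nil)) (.node 1 (.node 0 .nil (.node 1 .nil .nil)) .nil)) (.node 1 (.node 0 .nil
  .nil) .nil)) .nil) (.node 1 (.node 0 (.node 0 (.node 0 (.node 1 (.node 0 .nil (.node 1 .nil
  .nil)) .nil) (.node 1 (.node 0 .nil (.node 1 (.node 0 .nil (.node 1 (.node 0 .nil .nil) .nil))
  .nil)) .nil)) (.node 1 (.node 1 (.node 0 .nil .nil) .nil) .nil)) (.node 1 (.node 1 (.node 1
  (.node 0 (.node 0 .nil .nil) .nil) .nil) .nil) .nil)) .nil)) (.node 1 (.node 0 (.node 1 (.node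
  0 (.node 1 (.node 1 .nil .nil) .nil) (.node 1 (.node 1 (.node 0 .nil (.node 1 (.node 1 .nil
  .nil) .nil)) .nil) .nil)) .nil) (.node 1 (.node 0 (.node 1 (.node 0 (.node 1 .nil .nil) (.node
  1 (.node 1 .nil .nil) .nil)) .nil) .nil) .nil)) .nil)) (.node 1 (.node 0 (.node 0 (.node 1
  (.node 0 (.node 0 (.node 1 (.node 1 .nil .nil) .nil) (.node 1 (.node 0 .nil (.node 1 (.node 0
  .nil (.node 1 .nil .nil)) .nil)) .nil)) .nil) .nil) (.node 1 (.node 0 (.node 1 (.node 0 (.node
  1 .nil .nil) (.node 1 (.node 0 (.node 1 .nil .nil) .nil) .nil)) .nil) .nil) .nil)) (.node 1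
  (.node 0 (.node 0 (.node 0 .nil (.node 1 (.node 0 (.node 1 (.node 1 .nil .nil) .nil) (.node 1
  (.node 0 .nil .nil) .nil)) .nil)) (.node 1 (.node 0 (.node 1 (.node 0 .nil (.node 1 (.node 0
  .nil (.node 1 .nil .nil)) .nil)) .nil) (.node 1 (.node 0 .nil (.node 1 (.node 0 .nil .nil)
  .nil)) .nil)) .nil)) (.node 1 (.node 0 (.node 0 (.node 0 (.node 1 (.node 1 .nil .nil) .nil)
  .nil) (.node 1 (.node 0 .nil .nil) .nil)) (.node 1 (.node 0 (.node 0 (.node 0 .nil (.node 1
  .nil .nil)) .nil) (.node 1 (.node 0 (.node 0 .nil (.node 1 .nil .nil)) (.node 1 (.node 0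
  (.node 1 (.node 1 .nil .nil) .nil) .nil) .nil)) .nil)) .nil)) .nil)) .nil)) .nil)) .nil))
  .nil)) (.node 1 (.node 0 (.node 0 (.node 0 (.node 1 (.node 0 (.node 1 (.node 0 .nil (.node 1
  (.node 1 (.node 1 .nil .nil) .nil) .nil)) .nil) (.node 1 (.node 0 (.node 0 (.node 1 (.node 0
  (.node 0 (.node 1 .nil .nil) (.node 1 .nil .nil)) .nil) .nil) (.node 1 (.node 0 (.node 1 .nil
  .nil) (.node 1 (.node 1 .nil .nil) .nil)) .nil)) (.node 1 (.node 0 (.node 1 (.node 0 (.node 1
  .nil .nil) .nil) .nil) (.node 1 (.node 0 (.node 1 .nil .nil) .nil) .nil)) .nil)) .nil)) .nil)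
  (.node 1 (.node 0 (.node 0 (.node 0 (.node 1 (.node 0 (.node 0 (.node 0 .nil (.node 1 .nil
  .nil)) (.node 1 (.node 1 .nil .nil) .nil)) (.node 1 (.node 0 .nil (.node 1 (.node 0 .nil
  (.node 1 .nil .nil)) .nil)) .nil)) .nil) (.node 1 (.node 0 (.node 0 (.node 1 .nil .nil) (.node
  1 (.node 1 (.node 0 .nil .nil) .nil) .nil)) (.node 1 (.node 0 (.node 0 (.node 0 .nil .nil)
  (.node 1 (.node 1 .nil .nil) .nil)) (.node 1 (.node 1 .nil .nil) .nil)) .nil)) .nil)) (.node 1
  (.node 0 (.node 1 (.node 0 (.node 1 (.node 0 .nil .nil) .nil) .nil) .nil) (.node 1 (.node 0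
  (.node 1 (.node 0 .nil (.node 1 .nil .nil)) .nil) (.node 1 (.node 1 .nil .nil) .nil)) .nil))
  .nil)) (.node 1 (.node 0 (.node 0 (.node 0 (.node 1 (.node 0 .nil .nil) .nil) (.node 1 (.node
  1 (.node 1 (.node 0 .nil .nil) .nil) .nil) .nil)) (.node 1 (.node 0 (.node 1 .nil .nil) (.node
  1 (.node 0 .nil .nil) .nil)) .nil)) (.node 1 (.node 0 (.node 0 (.node 0 .nil (.node 1 (.node 1
  .nil .nil) .nil)) (.node 1 (.node 1 (.node 1 .nil .nil) .nil) .nil)) (.node 1 (.node 0 (.node
  1 (.node 1 .nil .nil) .nil) .nil) .nil)) .nil)) .nil)) .nil)) (.node 1 (.node 0 (.node 1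
  (.node 0 .nil (.node 1 (.node 0 (.node 0 (.node 0 .nil (.node 1 (.node 0 .nil .nil) .nil))
  (.node 1 .nil .nil)) (.node 1 (.node 0 (.node 0 (.node 0 (.node 1 .nil .nil) (.node 1 (.node 0
  .nil (.node 1 .nil .nil)) .nil)) (.node 1 .nil .nil)) (.node 1 (.node 1 (.node 0 .nil .nil)
  .nil) .nil)) .nil)) .nil)) .nil) (.node 1 (.node 0 (.node 0 (.node 0 (.node 1 (.node 0 (.node
  0 (.node 0 .nil .nil) .nil) (.node 1 (.node 1 .nil .nil) .nil)) .nil) (.node 1 (.node 1 (.node
  0 .nil (.node 1 (.node 0 (.node 0 .nil .nil) .nil) .nil)) .nil) .nil)) (.node 1 (.node 1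
  (.node 0 .nil (.node 1 (.node 0 (.node 0 (.node 1 .nil .nil) (.node 1 .nil .nil)) .nil) .nil))
  .nil) .nil)) (.node 1 (.node 0 (.node 0 (.node 0 (.node 1 .nil .nil) (.node 1 (.node 0 .nil
  .nil) .nil)) (.node 1 (.node 0 (.node 1 .nil .nil) (.node 1 .nil .nil)) .nil)) (.node 1 (.node
  0 .nil (.node 1 (.node 1 (.node 0 (.node 1 .nil .nil) (.node 1 (.node 0 .nil .nil) .nil))
  .nil) .nil)) .nil)) .nil)) .nil)) .nil)) (.node 1 (.node 0 (.node 0 (.node 0 (.node 1 (.node 0
  (.node 0 (.node 1 (.node 0 (.node 1 .nil .nil) .nil) .nil) (.node 1 (.node 0 .nil (.node 1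
  (.node 0 (.node 1 .nil .nil) (.node 1 .nil .nil)) .nil)) .nil)) (.node 1 (.node 0 (.node 1
  (.node 0 .nil (.node 1 (.node 0 .nil .nil) .nil)) .nil) (.node 1 (.node 0 (.node 0 (.node 1
  .nil .nil) (.node 1 .nil .nil)) (.node 1 (.node 0 .nil .nil) .nil)) .nil)) .nil)) .nil) (.node
  1 (.node 1 (.node 0 (.node 0 (.node 0 .nil .nil) (.node 1 (.node 0 .nil .nil) .nil)) (.node 1
  (.node 0 (.node 0 .nil .nil) (.node 1 (.node 0 (.node 0 (.node 0 .nil .nil) .nil) .nil) .nil))
  .nil)) .nil) .nil)) (.node 1 (.node 0 (.node 1 (.node 0 (.node 1 (.node 0 .nil (.node 1 (.node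
  0 .nil (.node 1 .nil .nil)) .nil)) .nil) (.node 1 (.node 0 (.node 0 (.node 0 .nil (.node 1
  (.node 0 .nil .nil) .nil)) (.node 1 (.node 0 .nil .nil) .nil)) (.node 1 (.node 0 (.node 0 .nil
  .nil) (.node 1 (.node 0 .nil .nil) .nil)) .nil)) .nil)) .nil) (.node 1 (.node 0 (.node 0
  (.node 0 .nil (.node 1 (.node 0 .nil .nil) .nil)) (.node 1 (.node 0 .nil (.node 1 (.node 1
  (.node 0 .nil (.node 1 (.node 0 .nil (.node 1 .nil .nil)) .nil)) .nil) .nil)) .nil)) (.node 1
  (.node 0 (.node 0 (.node 0 .nil (.node 1 .nil .nil)) (.node 1 .nil .nil)) (.node 1 (.node 1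
  (.node 0 (.node 0 (.node 0 .nil .nil) .nil) (.node 1 (.node 0 .nil (.node 1 .nil .nil)) .nil))
  .nil) .nil)) .nil)) .nil)) .nil)) (.node 1 (.node 0 (.node 0 (.node 0 (.node 1 (.node 0 (.node
  0 (.node 0 .nil (.node 1 (.node 1 .nil .nil) .nil)) (.node 1 (.node 0 .nil (.node 1 (.node 1
  .nil .nil) .nil)) .nil)) (.node 1 (.node 0 (.node 0 (.node 0 .nil .nil) .nil) (.node 1 (.node
  1 (.node 1 .nil .nil) .nil) .nil)) .nil)) .nil) (.node 1 (.node 0 (.node 0 (.node 0 .nil
  (.node 1 (.node 1 .nil .nil) .nil)) (.node 1 (.node 0 .nil (.node 1 (.node 0 (.node 0 .nil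
  .nil) (.node 1 (.node 0 .nil (.node 1 .nil .nil)) .nil)) .nil)) .nil)) (.node 1 (.node 0
  (.node 0 .nil (.node 1 (.node 0 .nil .nil) .nil)) (.node 1 (.node 0 (.node 1 (.node 1 .nil
  .nil) .nil) (.node 1 (.node 1 (.node 0 .nil (.node 1 .nil .nil)) .nil) .nil)) .nil)) .nil))
  .nil)) (.node 1 (.node 0 (.node 1 (.node 0 (.node 1 (.node 1 (.node 0 .nil (.node 1 (.node 1
  .nil .nil) .nil)) .nil) .nil) (.node 1 (.node 1 .nil .nil) .nil)) .nil) (.node 1 (.node 0
  (.node 0 (.node 1 (.node 0 .nil .nil) .nil) .nil) (.node 1 (.node 0 (.node 0 (.node 0 .nil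
  .nil) (.node 1 .nil .nil)) (.node 1 (.node 0 .nil (.node 1 (.node 0 (.node 0 .nil (.node 1
  .nil .nil)) (.node 1 .nil .nil)) .nil)) .nil)) .nil)) .nil)) .nil)) (.node 1 (.node 0 (.node 0
  (.node 0 (.node 1 (.node 0 .nil (.node 1 (.node 0 .nil (.node 1 .nil .nil)) .nil)) .nil)
  (.node 1 (.node 0 (.node 1 (.node 1 .nil .nil) .nil) (.node 1 (.node 0 (.node 0 .nil (.node 1
  (.node 1 .nil .nil) .nil)) (.node 1 .nil .nil)) .nil)) .nil)) (.node 1 (.node 0 (.node 1
  (.node 1 (.node 0 .nil (.node 1 (.node 1 .nil .nil) .nil)) .nil) .nil) (.node 1 (.node 0 .nil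
  (.node 1 (.node 0 (.node 0 (.node 1 .nil .nil) (.node 1 .nil .nil)) (.node 1 .nil .nil))
  .nil)) .nil)) .nil)) (.node 1 (.node 0 (.node 0 (.node 0 .nil (.node 1 .nil .nil)) (.node 1
  (.node 0 .nil (.node 1 (.node 0 (.node 0 .nil .nil) (.node 1 (.node 0 (.node 0 .nil .nil)
  .nil) .nil)) .nil)) .nil)) (.node 1 (.node 0 (.node 0 (.node 0 (.node 1 (.node 0 (.node 1 .nil
  .nil) .nil) .nil) (.node 1 (.node 0 (.node 1 (.node 1 .nil .nil) .nil) .nil) .nil)) (.node 1
  (.node 0 (.node 1 (.node 0 .nil (.node 1 .nil .nil)) .nil) .nil) .nil)) (.node 1 (.node 0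
  (.node 0 (.node 0 (.node 1 .nil .nil) (.node 1 .nil .nil)) (.node 1 (.node 0 .nil .nil) .nil))
  (.node 1 (.node 1 .nil .nil) .nil)) .nil)) .nil)) .nil)) .nil)) .nil)) .nil)) .nil)) (.node 1
  (.node 0 (.node 0 (.node 0 (.node 1 (.node 0 (.node 0 (.node 0 .nil (.node 1 (.node 0 (.node 1
  (.node 1 (.node 0 .nil .nil) .nil) .nil) .nil) .nil)) (.node 1 (.node 0 .nil (.node 1 (.node 0
  (.node 0 (.node 1 .nil .nil) (.node 1 (.node 0 (.node 1 .nil .nil) .nil) .nil)) (.node 1
  (.node 0 (.node 1 .nil .nil) .nil) .nil)) .nil)) .nil)) (.node 1 (.node 0 (.node 0 (.node 0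
  (.node 1 (.node 0 .nil .nil) .nil) (.node 1 (.node 0 (.node 1 (.node 1 (.node 0 .nil .nil)
  .nil) .nil) (.node 1 (.node 0 (.node 1 .nil .nil) (.node 1 (.node 1 .nil .nil) .nil)) .nil))
  .nil)) (.node 1 (.node 0 .nil (.node 1 (.node 0 .nil (.node 1 .nil .nil)) .nil)) .nil)) (.node
  1 (.node 0 (.node 0 (.node 0 .nil (.node 1 (.node 0 .nil .nil) .nil)) (.node 1 (.node 0 .nil
  (.node 1 (.node 0 .nil (.node 1 .nil .nil)) .nil)) .nil)) (.node 1 (.node 1 (.node 0 (.node 0
  .nil (.node 1 .nil .nil)) (.node 1 (.node 1 (.node 0 .nil (.node 1 .nil .nil)) .nil) .nil))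
  .nil) .nil)) .nil)) .nil)) .nil) (.node 1 (.node 0 (.node 0 (.node 0 (.node 1 (.node 0 .nil
  (.node 1 (.node 0 .nil (.node 1 .nil .nil)) .nil)) .nil) .nil) .nil) (.node 1 (.node 0 (.node
  0 (.node 0 (.node 1 (.node 0 (.node 0 (.node 1 .nil .nil) .nil) (.node 1 (.node 1 .nil .nil)
  .nil)) .nil) .nil) (.node 1 (.node 0 (.node 1 .nil .nil) (.node 1 (.node 0 (.node 0 .nil
  (.node 1 (.node 0 .nil .nil) .nil)) (.node 1 (.node 0 .nil .nil) .nil)) .nil)) .nil)) .nil)
  .nil)) .nil)) (.node 1 (.node 0 (.node 1 (.node 0 (.node 1 (.node 0 .nil (.node 1 (.node 0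
  (.node 0 (.node 0 .nil .nil) .nil) (.node 1 (.node 0 (.node 0 .nil (.node 1 (.node 1 .nil
  .nil) .nil)) (.node 1 (.node 0 .nil (.node 1 .nil .nil)) .nil)) .nil)) .nil)) .nil) (.node 1
  (.node 0 (.node 0 (.node 0 (.node 1 (.node 1 (.node 0 .nil .nil) .nil) .nil) (.node 1 (.node 1
  (.node 0 .nil .nil) .nil) .nil)) (.node 1 (.node 0 (.node 1 (.node 0 .nil .nil) .nil) (.node 1
  (.node 0 (.node 1 .nil .nil) (.node 1 (.node 1 .nil .nil) .nil)) .nil)) .nil)) (.node 1 (.node
  0 (.node 0 .nil (.node 1 (.node 0 (.node 1 .nil .nil) (.node 1 (.node 0 .nil (.node 1 .nil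
  .nil)) .nil)) .nil)) (.node 1 (.node 0 .nil .nil) .nil)) .nil)) .nil)) .nil) (.node 1 (.node 0
  (.node 0 (.node 0 (.node 1 (.node 0 (.node 0 (.node 0 .nil (.node 1 .nil .nil)) (.node 1
  (.node 0 .nil .nil) .nil)) (.node 1 (.node 1 (.node 0 (.node 0 .nil .nil) (.node 1 .nil .nil))
  .nil) .nil)) .nil) (.node 1 (.node 0 (.node 0 (.node 0 .nil .nil) .nil) (.node 1 (.node 0 .nil
  .nil) .nil)) .nil)) (.node 1 (.node 0 (.node 1 (.node 0 (.node 1 .nil .nil) .nil) .nil) (.node
  1 (.node 1 (.node 0 (.node 1 (.node 0 .nil .nil) .nil) (.node 1 (.node 0 (.node 1 (.node 1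
  .nil .nil) .nil) (.node 1 (.node 1 (.node 0 .nil .nil) .nil) .nil)) .nil)) .nil) .nil)) .nil))
  (.node 1 (.node 0 (.node 1 (.node 1 (.node 0 (.node 0 (.node 0 .nil .nil) (.node 1 (.node 0
  .nil .nil) .nil)) (.node 1 (.node 1 .nil .nil) .nil)) .nil) .nil) (.node 1 (.node 0 (.node 1
  (.node 0 (.node 1 .nil .nil) .nil) .nil) (.node 1 (.node 0 (.node 0 (.node 0 (.node 1 .nil
  .nil) (.node 1 (.node 0 .nil (.node 1 .nil .nil)) .nil)) (.node 1 (.node 0 .nil (.node 1
  (.node 0 .nil .nil) .nil)) .nil)) (.node 1 (.node 0 (.node 0 (.node 0 (.node 1 .nil .nil)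
  .nil) (.node 1 .nil .nil)) (.node 1 (.node 0 .nil (.node 1 (.node 1 .nil .nil) .nil)) .nil))
  .nil)) .nil)) .nil)) .nil)) .nil)) .nil)) (.node 1 (.node 0 (.node 0 (.node 0 (.node 1 (.node
  0 (.node 0 (.node 0 .nil (.node 1 (.node 0 (.node 0 (.node 1 .nil .nil) (.node 1 .nil .nil))
  (.node 1 (.node 0 (.node 0 .nil .nil) .nil) .nil)) .nil)) .nil) (.node 1 (.node 0 (.node 0
  (.node 0 .nil (.node 1 (.node 1 .nil .nil) .nil)) (.node 1 (.node 1 .nil .nil) .nil)) (.node 1
  (.node 0 (.node 0 .nil .nil) (.node 1 (.node 0 (.node 1 .nil .nil) (.node 1 .nil .nil)) .nil))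
  .nil)) .nil)) .nil) (.node 1 (.node 0 (.node 0 (.node 0 (.node 1 (.node 0 .nil .nil) .nil)
  (.node 1 (.node 0 (.node 0 (.node 0 (.node 1 .nil .nil) (.node 1 .nil .nil)) (.node 1 (.node 0
  .nil .nil) .nil)) (.node 1 (.node 0 (.node 0 (.node 1 .nil .nil) .nil) (.node 1 .nil .nil))
  .nil)) .nil)) (.node 1 (.node 0 (.node 1 (.node 1 .nil .nil) .nil) (.node 1 (.node 0 .nil
  (.node 1 (.node 0 (.node 0 .nil (.node 1 .nil .nil)) (.node 1 .nil .nil)) .nil)) .nil)) .nil))
  (.node 1 (.node 0 (.node 0 (.node 0 (.node 1 (.node 0 (.node 0 (.node 1 .nil .nil) .nil)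
  (.node 1 (.node 0 .nil .nil) .nil)) .nil) (.node 1 (.node 1 .nil .nil) .nil)) (.node 1 (.node
  0 (.node 1 (.node 1 .nil .nil) .nil) .nil) .nil)) (.node 1 (.node 0 (.node 0 (.node 0 .nil
  .nil) (.node 1 (.node 0 (.node 1 .nil .nil) .nil) .nil)) (.node 1 (.node 0 (.node 0 .nil .nil)
  (.node 1 (.node 1 (.node 0 .nil .nil) .nil) .nil)) .nil)) .nil)) .nil)) .nil)) (.node 1 (.node
  1 (.node 0 (.node 0 (.node 1 (.node 0 (.node 1 (.node 0 .nil .nil) .nil) (.node 1 (.node 0
  .nil .nil) .nil)) .nil) (.node 1 (.node 0 .nil (.node 1 (.node 0 (.node 0 (.node 0 .nil (.node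
  1 .nil .nil)) (.node 1 .nil .nil)) (.node 1 (.node 0 (.node 0 (.node 0 .nil .nil) (.node 1
  .nil .nil)) .nil) .nil)) .nil)) .nil)) (.node 1 (.node 0 (.node 0 (.node 0 (.node 1 (.node 0
  .nil (.node 1 (.node 0 .nil .nil) .nil)) .nil) (.node 1 (.node 0 .nil (.node 1 (.node 0 .nil
  .nil) .nil)) .nil)) (.node 1 (.node 0 .nil .nil) .nil)) (.node 1 (.node 0 (.node 0 (.node 0
  .nil (.node 1 (.node 1 .nil .nil) .nil)) (.node 1 (.node 1 (.node 1 (.node 0 .nil .nil) .nil)
  .nil) .nil)) (.node 1 (.node 0 (.node 0 (.node 0 .nil .nil) (.node 1 (.node 0 .nil .nil)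
  .nil)) .nil) .nil)) .nil)) .nil)) .nil) .nil)) (.node 1 (.node 0 (.node 0 (.node 0 (.node 1
  (.node 0 (.node 0 (.node 0 .nil .nil) (.node 1 (.node 0 .nil (.node 1 .nil .nil)) .nil))
  (.node 1 (.node 1 .nil .nil) .nil)) .nil) (.node 1 (.node 0 (.node 0 (.node 0 .nil (.node 1
  (.node 0 .nil (.node 1 (.node 0 .nil (.node 1 (.node 0 .nil .nil) .nil)) .nil)) .nil)) (.node
  1 (.node 0 .nil .nil) .nil)) (.node 1 (.node 0 .nil (.node 1 (.node 0 (.node 0 (.node 1 (.node
  0 .nil (.node 1 .nil .nil)) .nil) .nil) (.node 1 (.node 0 .nil (.node 1 (.node 0 (.node 0 .nil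
  .nil) .nil) .nil)) .nil)) .nil)) .nil)) .nil)) (.node 1 (.node 0 (.node 1 (.node 0 (.node 1
  (.node 1 (.node 0 (.node 0 .nil .nil) .nil) .nil) .nil) (.node 1 (.node 0 (.node 1 (.node 0
  .nil .nil) .nil) (.node 1 (.node 1 .nil .nil) .nil)) .nil)) .nil) (.node 1 (.node 0 (.node 0
  (.node 0 (.node 1 .nil .nil) (.node 1 (.node 0 .nil .nil) .nil)) (.node 1 (.node 1 .nil .nil)
  .nil)) (.node 1 (.node 0 (.node 0 .nil (.node 1 .nil .nil)) (.node 1 (.node 0 (.node 0 (.node
  0 .nil (.node 1 .nil .nil)) (.node 1 .nil .nil)) (.node 1 (.node 0 (.node 1 .nil .nil) (.node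
  1 (.node 0 (.node 0 .nil .nil) .nil) .nil)) .nil)) .nil)) .nil)) .nil)) .nil)) (.node 1 (.node
  0 (.node 1 (.node 0 (.node 1 (.node 0 .nil (.node 1 (.node 0 (.node 0 .nil .nil) (.node 1 .nil
  .nil)) .nil)) .nil) (.node 1 (.node 0 (.node 0 (.node 0 .nil (.node 1 (.node 0 (.node 1 .nil
  .nil) .nil) .nil)) .nil) (.node 1 (.node 0 (.node 0 .nil (.node 1 (.node 0 .nil .nil) .nil))
  (.node 1 (.node 0 .nil (.node 1 .nil .nil)) .nil)) .nil)) .nil)) .nil) (.node 1 (.node 0
  (.node 0 (.node 1 (.node 1 (.node 0 (.node 0 .nil .nil) .nil) .nil) .nil) (.node 1 (.node 0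
  .nil .nil) .nil)) (.node 1 (.node 0 (.node 0 (.node 0 (.node 1 (.node 0 .nil .nil) .nil)
  (.node 1 (.node 0 (.node 1 (.node 0 .nil .nil) .nil) (.node 1 (.node 0 (.node 0 .nil .nil)
  (.node 1 (.node 0 .nil .nil) .nil)) .nil)) .nil)) (.node 1 (.node 0 (.node 1 (.node 1 (.node 1
  .nil .nil) .nil) .nil) (.node 1 .nil .nil)) .nil)) (.node 1 (.node 0 (.node 0 (.node 0 .nil
  .nil) (.node 1 (.node 0 .nil (.node 1 (.node 0 .nil (.node 1 (.node 1 .nil .nil) .nil)) .nil))
  .nil)) (.node 1 (.node 0 (.node 1 .nil .nil) (.node 1 (.node 0 .nil (.node 1 (.node 0 .nil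
  .nil) .nil)) .nil)) .nil)) .nil)) .nil)) .nil)) .nil)) .nil)) .nil)) .nil)

end CfsgLib.M24Classes
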