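import Cfsg.Agent.M24Classes.OrbitHelpers
import Cfsg.Agent.M24Classes.AtTrio

/-!
Certified orbits for this configuration.
-/

set_option autoImplicit false

namespace CfsgLib.M24Classes

open Cfsg CfsgLib.Mathieu
open scoped Pointwise

theorem trio_gens : cfgTrioTabs.all isM24Tab = true ∧
    (cfgTrioTabs.zip cfgTrioBytes).all (fun p => bytesOK p.1 p.2) = true ∧ cfgTrioTabs.length = cfgTrioBytes.length ∧
    cfgTrioTabs.all (fun t => fixesFam t cfgTrio) = true ∧ (∀ M ∈ cfgTrio, M < 2 ^ 24) ∧ cfgTrio.Nodup := by decide +kernel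

theorem trioOctad_check0 : classOK cfgTrioBytes octA 131071 octFams (listInv cfgTrio)
    cfgTrioOctadRep0 cfgTrioOctadTree0 64 3 = true := by decide +kernel

theorem trioOctad_check1 : classOK cfgTrioBytes octA 131071 octFams (listInv cfgTrio)
    cfgTrioOctadRep1 cfgTrioOctadTree1 32 84 = true := by decide +kernel

theorem trioOctad_check2 : classOK cfgTrioBytes octA 131071 octFams (listInv cfgTrio)
    cfgTrioOctadRep2 cfgTrioOctadTree2 24 672 = true := by decide +kernel

theorem trioOctad_all : octFams.all (fun l => [64, 32, 24].contains ((listInv cfgTrio) l)) = true := by decide +kernel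

theorem trioOctad_orbits {σ : Equiv.Perm GolayPt} (hσ : σ ∈ M24) {x : Finset (Finset GolayPt)}
    (hx : σ • (famSet cfgTrio) = x) :
    ∃ X0 ∈ octads, ∃ X1 ∈ octads, ∃ X2 ∈ octads,
      (MulAction.orbit ↥(MulAction.stabilizer M24 x) X0).ncard = 3 ∧
      (MulAction.orbit ↥(MulAction.stabilizer M24 x) X1).ncard = 84 ∧
      (MulAction.orbit ↥(MulAction.stabilizer M24 x) X2).ncard = 672 ∧
      octads = MulAction.orbit ↥(MulAction.stabilizer M24 x) X0 ∪ MulAction.orbit ↥(MulAction.stabilizer M24 x) X1 ∪ MulAction.orbit ↥(MulAction.stabilizer M24 x) X2 := by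
  obtain ⟨X0, hX0, c0, e0⟩ := orbit_class octListed (famInvar single) (famInvar_smul octListed) (famInvar_list octListed trio_gens.2.2.2.2.1 trio_gens.2.2.2.2.2)
    (gensOK_fam trio_gens.2.2.2.2.1 trio_gens.1 trio_gens.2.1 trio_gens.2.2.1 trio_gens.2.2.2.1) trioOctad_check0 hσ hx
  obtain ⟨X1, hX1, c1, e1⟩ := orbit_class octListed (famInvar single) (famInvar_smul octListed) (famInvar_list octListed trio_gens.2.2.2.2.1 trio_gens.2.2.2.2.2)
    (gensOK_fam trio_gens.2.2.2.2.1 trio_gens.1 trio_gens.2.1 trio_gens.2.2.1 trio_gens.2.2.2.1) trioOctad_check1 hσ hx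
  obtain ⟨X2, hX2, c2, e2⟩ := orbit_class octListed (famInvar single) (famInvar_smul octListed) (famInvar_list octListed trio_gens.2.2.2.2.1 trio_gens.2.2.2.2.2)
    (gensOK_fam trio_gens.2.2.2.2.1 trio_gens.1 trio_gens.2.1 trio_gens.2.2.1 trio_gens.2.2.2.1) trioOctad_check2 hσ hx
  exact ⟨X0, hX0, X1, hX1, X2, hX2, c0, c1, c2, union3 (fun b => famInvar single b x) e0 e1 e2
    (class_cover octListed (famInvar single) (famInvar_smul octListed) (famInvar_list octListed trio_gens.2.2.2.2.1 trio_gens.2.2.2.2.2) trioOctad_all hσ hx)⟩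

theorem trioSextet_check0 : classOK cfgTrioBytes sextA 262139 sextetData (listInv cfgTrio)
    cfgTrioSextetRep0 cfgTrioSextetTree0 96 7 = true := by decide +kernel

theorem trioSextet_check1 : classOK cfgTrioBytes sextA 262139 sextetData (listInv cfgTrio)
    cfgTrioSextetRep1 cfgTrioSextetTree1 64 84 = true := by decide +kernel

theorem trioSextet_check2 : classOK cfgTrioBytes sextA 262139 sextetData (listInv cfgTrio)
    cfgTrioSextetRep2 cfgTrioSextetTree2 48 336 = true := by decide +kernel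

theorem trioSextet_check3 : classOK cfgTrioBytes sextA 262139 sextetData (listInv cfgTrio)
    cfgTrioSextetRep3 cfgTrioSextetTree3 44 1344 = true := by decide +kernel

theorem trioSextet_all : sextetData.all (fun l => [96, 64, 48, 44].contains ((listInv cfgTrio) l)) = true := by decide +kernel

theorem trioSextet_orbits {σ : Equiv.Perm GolayPt} (hσ : σ ∈ M24) {x : Finset (Finset GolayPt)}
    (hx : σ • (famSet cfgTrio) = x) :
    ∃ X0 ∈ sextets, ∃ X1 ∈ sextets, ∃ X2 ∈ sextets, ∃ X3 ∈ sextets,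
      (MulAction.orbit ↥(MulAction.stabilizer M24 x) X0).ncard = 7 ∧
      (MulAction.orbit ↥(MulAction.stabilizer M24 x) X1).ncard = 84 ∧
      (MulAction.orbit ↥(MulAction.stabilizer M24 x) X2).ncard = 336 ∧
      (MulAction.orbit ↥(MulAction.stabilizer M24 x) X3).ncard = 1344 ∧
      sextets = MulAction.orbit ↥(MulAction.stabilizer M24 x) X0 ∪ MulAction.orbit ↥(MulAction.stabilizer M24 x) X1 ∪ MulAction.orbit ↥(MulAction.stabilizer M24 x) X2 ∪ MulAction.orbit ↥(MulAction.stabilizer M24 x) X3 := by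
  obtain ⟨X0, hX0, c0, e0⟩ := orbit_class sextetListed (famInvar id) (famInvar_smul sextetListed) (famInvar_list sextetListed trio_gens.2.2.2.2.1 trio_gens.2.2.2.2.2)
    (gensOK_fam trio_gens.2.2.2.2.1 trio_gens.1 trio_gens.2.1 trio_gens.2.2.1 trio_gens.2.2.2.1) trioSextet_check0 hσ hx
  obtain ⟨X1, hX1, c1, e1⟩ := orbit_class sextetListed (famInvar id) (famInvar_smul sextetListed) (famInvar_list sextetListed trio_gens.2.2.2.2.1 trio_gens.2.2.2.2.2)
    (gensOK_fam trio_gens.2.2.2.2.1 trio_gens.1 trio_gens.2.1 trio_gens.2.2.1 trio_gens.2.2.2.1) trioSextet_check1 hσ hx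
  obtain ⟨X2, hX2, c2, e2⟩ := orbit_class sextetListed (famInvar id) (famInvar_smul sextetListed) (famInvar_list sextetListed trio_gens.2.2.2.2.1 trio_gens.2.2.2.2.2)
    (gensOK_fam trio_gens.2.2.2.2.1 trio_gens.1 trio_gens.2.1 trio_gens.2.2.1 trio_gens.2.2.2.1) trioSextet_check2 hσ hx
  obtain ⟨X3, hX3, c3, e3⟩ := orbit_class sextetListed (famInvar id) (famInvar_smul sextetListed) (famInvar_list sextetListed trio_gens.2.2.2.2.1 trio_gens.2.2.2.2.2)
    (gensOK_fam trio_gens.2.2.2.2.1 trio_gens.1 trio_gens.2.1 trio_gens.2.2.1 trio_gens.2.2.2.1) trioSextet_check3 hσ hx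
  exact ⟨X0, hX0, X1, hX1, X2, hX2, X3, hX3, c0, c1, c2, c3, union4 (fun b => famInvar id b x) e0 e1 e2 e3
    (class_cover sextetListed (famInvar id) (famInvar_smul sextetListed) (famInvar_list sextetListed trio_gens.2.2.2.2.1 trio_gens.2.2.2.2.2) trioSextet_all hσ hx)⟩

end CfsgLib.M24Classes
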