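import Cfsg.Agent.M24Classes.OrbitTree

/-! Orbit data for a configuration stabiliser. -/

set_option autoImplicit false
set_option maxRecDepth 20000

namespace CfsgLib.M24Classes

/-- The configuration. -/
def cfgTriple : List ℕ := [7]

/-- Tables of members of its stabiliser. -/
def cfgTripleTabs : List ℕ := [442899449835114600035351275912982910891664909184016711681,
  343761283632286790642855337423721247870331199034373440001]

/-- Their byte tables. -/
def cfgTripleBytes : List (List ℕ) := [[4597999995054627122879791176885890059245784567423580840949579589786831273769964999647639394926236589391051167750235248157598143265868666308405966094049096709058447433686466230169520407337942965817809487562605714909319034810102312613844908710338762037036358288406537958467425584089480296011182488561298654646385252930261285239700563203397328431083163813334690865351978945224714640547361028690428073817951262452233783857305205726536816310161300722649785674332097979931165894943502877544814341287819578986412065487130584040213630414753340631546821762491618489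544137399652163422019860326229314493336719435168219944573214193674103907779115771667349773455511248254072583996617998746925737283302009981362155136628935464142949657906770720909687829242791193080812678261185356852402068267107077434862376809178548681963188067609977526362968166261281990725795373639322703539156456673821840859491798597556920700262974160373271948566476546664611152157016952478937625125312772875772968761076714331610369835239795492035224385022505752766896741899337734129244481279456460108684792911550764268752670484665664881728187721694066438061278581019537669664058596050506980078576651423231010443198659070569386553541829884116651418216452731981057353773398766216750285926428950226667612105419499570468227402192233497463449319092807673514204351191833313531171197784737334120722086570407838660297115915277274778478429460940371488523551154163500420652969585940269080791125538019976793535905344694872974642202147597188027006985625664417273860881555681391060101120041444018257381940562123412213248981968377120109198281285479310981169372516693839666373341391308136708118659674762717792383762813784297781200843603955777404607949754218383359925448365742418024840741006729227569202887756222998131213761429243540382149163368538581416554422751511311262514430075792738429238561137303224320,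 17945994533929792519146879457863614814823439805730897090277159274985349318761566099559546544124626339128813279426579085636634452056712954001554476626018091555805848345334498539022417756301852315499877598105503554119166793380725556354737016525422976154310841203314450636456487196940346362506973405709558102236973451275916617793672965827150904751018578489212271492014540887485499859970410345260219305935907648697045262727684226287514364249348628238208968862491525994111429866631519050967861455874713018704275573541223202873772833534367633728416728915971890656235936280737444437168226799773262919902819270606974032007694873829265327182494042083892185715489098420134952679520036559619817186294131171905723111354980618448610813123923779819584805771433868099003403135074656085747106541911900734740832000405489163143805423592931950347801159302014191786946658786843457537303132645497864903257399072307697746304346100129719998550740379127328122089552365716131701433926736138217441216330616445276725307090154956961899075336856826026937661085613574952472248816638422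946788411988896358221478570466416070525547461434244012120217744130956921976827174043094703168180304417086853192629592644851766799236201849104962891693008340478746379879238840203707210593486209929195865365726390898285937995723216966117777432166760961483555770794517134095343293026268903279402043721059052307826882392983359791223892506419137037868696814560824511686917503555168338760424542611648324924287376779270639939338759624100676496963480795321738061770629428217823441259525449865274527162962891364101373642526293074389865774633960077787859564835258540377242777072793066744339257487513913557839428412865094103762650713541567827156344040849970844980255479251989987058897758703669562612657740636949547891972179199004368726167224567769555926024126861320088014241707977907920012957763587392143360, 1120752628657248562047050316189443319212957826921115860400829999786591447992345560050187572756825568121820822635418493354266380946968285550733088606885833593485445971249198709412131801500162725506209095120165158174863402520091430628638751777452252245934544754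477485445789626589476924148685235895342800006400638248733098551332049310991271362884199899953827491900375510125830086498453697531382401967173304125930599898641347067411773599162950394352163878310883589882607734743670177497698377177170883064381600960708199881343379588316678656353411057481548973514875540262291201924700148977055133004716918911072277429841059088002121683579710404158404788849451244738806392941543765331913549778676295841200879037875491297349783738663555148224415244222522180950107661417929177844244398576414594522304233095669794621307079445510288070777546060219019310864446608765147987861206479033667090530812949900555934646723922457730862019194907897325107641481212793391734525410723237182001407459888298971056028107951839510887526379992561680090188085692162376102092270776786211645043043942360311154988114550153232638493010150515569605967169213180772183742928077396949217764315413910613018061606721207115854799556659464653943005217577494157010840415167545504415915990517647082382863072988410361620187531704978209209307300356900568097759195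3634153024091896242500228223703219705802437206793382096922367348282392494142604416993715698248904336760004422951493720729426611364385846134124534704520367889641275465721811192743784036757427075579634560882095990542993450561280846155264999846598391411048756606787155728512999984973063948283593512021275491871566510460917080293878952253554297079274845811537253488125421709989637438921791925267215718065642873570141059178018734581924991080173811941911833844509326804459514531692791342108589699379995758401440219068588736197691788775915520],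
  [52984261295189360663050512882696677006575556075475748644611761524047787404555146334314757590286831565062448734765460928099846244527850535087876587367766629121659250637879716070046253062756876176200789003096426965399318002993149642760229450006213151626570485210068366684520445618663950262497298933504169943555626274276563131112832314587070624115944101900291983606919067439426534375220391736811635082584976625299318227712563358451012233559595076999309486816525671311199204436689107280992215092195998775187356921751606821045816312224982290031729962307665154281745151730341992539777361044317838071485234076913240184913068412500335937912316985237988474495727369868667719607100521551689990477961926526989970463542759820687112956926293581850995434951453365311399473571009752935890245756103902729178437850811590914882476532462649122941287920136246536173097577143640775509794412347154619569893321618903858116968554123505201218949153150507730800389052677621483208670869166639982059059125932096833159619300197028285945122197727947463182054887215799783290524836249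57415049841128928299238635189807330901581207278816232168408636257893021354834092688280272627885889226673548528054383329233286476329212759968784657552535853500783815393184957971700701677868481713493281327517486574636035543234645028173415155308044090162622021792839222796122897987643663639038682959047772208033403583180451513828251751458687661646603940619130826794573129306311840210783969227919134665809799366568997826903843081257684809093806721004585548173524091062247065514230241710277973701707026859842053017139129075892587706735046177441830472918950181958871020881362444491105773772809206724252476245705329451027655070230624925373038424298963499365812827832731375201117203758032033425942694111674409555624054440455584914361588852993423134035426681695208936766609509715227739098510059919212806144, 11406544452033675672494629646790789447124101458482013005437587676817540148250575229759591556906761487389406060591102503373819202032983408140698926627278722488350290962568920605983745534206022805562496450715644331400352475972962726231489184527834119361889979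106777396280004871802660787206682115892887092684444417277147370011422065845250101654370941169070163308854342297208387547529638381024764245093727528479308307546317412981849391527771699607991153244778384795128026228121281266851989042933747533210432592075564723643212921920788855173018139669215688873298399788081000300003159995484098540055159352785423716150123468461283615951948197789207419551493223052626224506729449220724304306777666578900696159051222170987346324737355527088137783261708306381696132957343562111701565172616213585291016138251348419783690489241613294465307815496746971828084230001972916791792300874655393015291469767475581276723057247795397908062578802502744474921152441915710358201898729865056877914663467503704346636674134748221766594993279581668867960849641680353732217682268570490897523626383005838633737192945927306107645504746870949562530386495233763668550514714123686663159012835492171716763304982973210306552155696556157066444043587285935563809948980425257295385775763496139644783728159278896902133686878595423819967901634820458518454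796867172521077083106623123634201219340897279888481099323780895548168970513381772207072655684112458000783657990993922991802188297677329228721824956236120761872021310486083137393935379345902770051703377148744927949617780903482151354495968784503522586888023841023815569203754597768410734633279904592955818623479714239746296749586028664195121344948553166790454975988432783417876579772133709723174027297927348691056282892510288303579289221951191248265351726598811087248212717229783772017481717090725869483887844298668619645379988275838582784, 1704655023401005642851979813897833111163254364819535728105309496669393118701934377921178739245419998674358083541297004461965976916509983974943578578120122395143797636575169009476246478102289543416803199891104877781438468786088166555941656264264131573407825141162114868951375521263378185767698940278234002395241320762320826483109041092151620994535384010006365229060435773002973671032121291254329891572806708791422620467016616565132501887685594732089000140643552940881949313087644793352863443050121356002891041478494390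0508724011546525446190528959433629459768374475232330776131347014773154027255502335514409839503496618504525763412543169929676411540421487289408738313719574776249313104814043872695141779749421123655800577156816553815029212523457823271989094514140318839075216444122043650593344294783092307821375538767058872273946491335887598362906879049378837786547432389481647385564647088245751840805421074588299286417529801974140234076812996083594184280440028665917521551119925503398636951799365906947306225449696108426905441233515402226132874998698318861132165556400067884188696892657265616381363042453233834948567428476912947020824092672811297740506105604741545214115005780607462659229397611111046368203671368791783934296557162292175898943786755212739758322320328446299700862772591475504810318924868131886260786154479998967500231933709928785221973862700894270658830656379354896212877088604082673862940427872974102239299447169647776612498219224053264180817438057651591436832506804684411578355482678458376111162233536668702449565613940498524177330192731390348806670928233486361462938637581824764637171828949558258589163793814698377212320988409140713566877125828085132430965852423612702257758279389428566448316470335685996080531356066124575321560956458156495120173838796713128925908790847740564951316405360446508695299148078657854625378634815443566592]]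

/-- Root of class 0. -/
def cfgTripleSextetRep0 : List ℕ := [8388615, 147496, 268544, 1082880, 2621632, 4268048]

/-- Spanning tree of class 0. -/
def cfgTripleSextetTree0 : OTree :=
  .node 0 (.node 0 (.node 1 (.node 0 (.node 0 (.node 1 .nil .nil) (.node 1 (.node 0 .nil (.node
  1 .nil .nil)) .nil)) .nil) .nil) .nil) (.node 1 (.node 0 (.node 0 (.node 0 (.node 0 .nil
  (.node 1 (.node 1 .nil .nil) .nil)) (.node 1 (.node 1 .nil .nil) .nil)) (.node 1 .nil .nil))
  (.node 1 .nil .nil)) .nil)

/-- Root of class 1. -/
def cfgTripleSextetRep1 : List ℕ := [8388619, 9536, 147492, 328320, 1574928, 6328320]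

/-- Spanning tree of class 1. -/
def cfgTripleSextetTree1 : OTree :=
  .node 0 (.node 0 (.node 0 (.node 0 (.node 0 (.node 1 (.node 0 (.node 1 (.node 0 (.node 0 .nil
  (.node 1 (.node 1 .nil .nil) .nil)) (.node 1 .nil .nil)) .nil) .nil) .nil) (.node 1 (.node 0
  (.node 0 (.node 0 (.node 0 (.node 0 .nil .nil) (.node 1 (.node 0 .nil .nil) .nil)) (.node 1
  (.node 0 (.node 1 .nil .nil) .nil) .nil)) (.node 1 (.node 0 (.node 0 (.node 0 .nil (.node 1
  .nil .nil)) (.node 1 (.node 0 .nil (.node 1 .nil .nil)) .nil)) (.node 1 .nil .nil)) .nil))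
  (.node 1 (.node 0 (.node 0 (.node 0 (.node 0 (.node 0 .nil .nil) (.node 1 .nil .nil)) (.node 1
  (.node 0 .nil (.node 1 .nil .nil)) .nil)) (.node 1 (.node 0 .nil (.node 1 .nil .nil)) .nil))
  (.node 1 (.node 0 (.node 0 (.node 1 .nil .nil) .nil) (.node 1 (.node 0 .nil (.node 1 .nil
  .nil)) .nil)) .nil)) .nil)) .nil)) (.node 1 (.node 0 (.node 0 (.node 0 (.node 1 (.node 0 .nil
  (.node 1 .nil .nil)) .nil) (.node 1 .nil .nil)) (.node 1 (.node 0 (.node 0 (.node 0 .nil
  (.node 1 .nil .nil)) (.node 1 (.node 1 (.node 0 .nil .nil) .nil) .nil)) (.node 1 (.node 0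
  (.node 0 (.node 1 (.node 0 .nil .nil) .nil) .nil) (.node 1 (.node 0 (.node 0 (.node 1 .nil
  .nil) .nil) .nil) .nil)) .nil)) .nil)) (.node 1 (.node 0 (.node 0 (.node 0 (.node 0 .nil
  (.node 1 (.node 0 .nil .nil) .nil)) (.node 1 (.node 0 .nil (.node 1 (.node 1 .nil .nil) .nil))
  .nil)) (.node 1 (.node 1 .nil .nil) .nil)) (.node 1 (.node 0 (.node 0 .nil .nil) (.node 1
  (.node 0 (.node 0 .nil .nil) (.node 1 .nil .nil)) .nil)) .nil)) .nil)) .nil)) (.node 1 (.node
  0 (.node 0 (.node 0 (.node 0 (.node 0 (.node 1 .nil .nil) (.node 1 (.node 0 .nil (.node 1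
  (.node 0 .nil .nil) .nil)) .nil)) .nil) (.node 1 (.node 0 (.node 0 (.node 0 .nil .nil) (.node
  1 (.node 0 (.node 0 .nil .nil) (.node 1 .nil .nil)) .nil)) (.node 1 (.node 0 (.node 0 (.node 0
  .nil .nil) (.node 1 (.node 1 .nil .nil) .nil)) (.node 1 (.node 1 (.node 0 .nil .nil) .nil)
  .nil)) .nil)) .nil)) (.node 1 (.node 0 (.node 1 (.node 0 (.node 0 (.node 0 (.node 0 .nil .nil)
  (.node 1 (.node 0 .nil .nil) .nil)) .nil) (.node 1 (.node 1 (.node 0 .nil .nil) .nil) .nil))
  .nil) (.node 1 (.node 0 (.node 0 (.node 0 (.node 1 .nil .nil) (.node 1 (.node 0 (.node 0 .nil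
  (.node 1 (.node 0 .nil .nil) .nil)) .nil) .nil)) (.node 1 (.node 0 .nil .nil) .nil)) (.node 1
  (.node 0 (.node 0 (.node 1 (.node 0 .nil .nil) .nil) .nil) .nil) .nil)) .nil)) .nil)) (.node 1
  (.node 0 (.node 0 (.node 0 (.node 0 (.node 0 .nil .nil) (.node 1 (.node 1 (.node 0 .nil .nil)
  .nil) .nil)) (.node 1 (.node 1 (.node 0 (.node 0 .nil .nil) (.node 1 (.node 0 .nil .nil)
  .nil)) .nil) .nil)) (.node 1 (.node 0 (.node 0 (.node 1 (.node 1 .nil .nil) .nil) .nil) (.node
  1 (.node 0 (.node 0 .nil (.node 1 .nil .nil)) (.node 1 .nil .nil)) .nil)) .nil)) (.node 1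
  (.node 0 (.node 0 (.node 0 (.node 0 (.node 1 (.node 1 .nil .nil) .nil) (.node 1 .nil .nil))
  (.node 1 (.node 0 (.node 1 .nil .nil) (.node 1 .nil .nil)) .nil)) .nil) (.node 1 (.node 0
  (.node 0 (.node 0 .nil (.node 1 (.node 0 (.node 0 .nil .nil) (.node 1 .nil .nil)) .nil))
  (.node 1 .nil .nil)) (.node 1 (.node 0 (.node 0 (.node 0 .nil (.node 1 .nil .nil)) .nil) .nil)
  .nil)) .nil)) .nil)) .nil)) .nil)) (.node 1 (.node 0 (.node 0 (.node 0 (.node 0 (.node 0
  (.node 1 (.node 0 (.node 1 .nil .nil) (.node 1 (.node 1 .nil .nil) .nil)) .nil) (.node 1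
  (.node 0 (.node 1 .nil .nil) .nil) .nil)) (.node 1 (.node 0 (.node 0 .nil (.node 1 (.node 1
  .nil .nil) .nil)) (.node 1 (.node 0 (.node 1 (.node 0 .nil .nil) .nil) (.node 1 .nil .nil))
  .nil)) .nil)) (.node 1 (.node 0 (.node 1 (.node 0 (.node 0 .nil (.node 1 (.node 0 .nil .nil)
  .nil)) .nil) .nil) (.node 1 (.node 0 (.node 0 .nil (.node 1 (.node 0 .nil .nil) .nil)) (.node
  1 (.node 0 (.node 1 (.node 1 (.node 1 .nil .nil) .nil) .nil) .nil) .nil)) .nil)) .nil)) (.node
  1 (.node 0 (.node 0 (.node 0 (.node 0 (.node 1 (.node 0 (.node 0 .nil .nil) .nil) .nil) (.node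
  1 .nil .nil)) .nil) (.node 1 (.node 0 (.node 0 .nil .nil) (.node 1 (.node 0 (.node 0 (.node 0
  .nil (.node 1 (.node 1 .nil .nil) .nil)) (.node 1 (.node 0 .nil (.node 1 (.node 0 .nil .nil)
  .nil)) .nil)) (.node 1 (.node 0 .nil (.node 1 (.node 0 (.node 1 .nil .nil) .nil) .nil)) .nil))
  .nil)) .nil)) (.node 1 (.node 0 (.node 0 (.node 0 (.node 1 (.node 1 .nil .nil) .nil) (.node 1
  (.node 0 .nil .nil) .nil)) .nil) (.node 1 (.node 0 (.node 0 .nil .nil) (.node 1 (.node 0
  (.node 0 (.node 1 .nil .nil) (.node 1 (.node 0 (.node 1 .nil .nil) (.node 1 .nil .nil)) .nil))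
  (.node 1 (.node 0 (.node 1 .nil .nil) (.node 1 (.node 1 .nil .nil) .nil)) .nil)) .nil)) .nil))
  .nil)) .nil)) (.node 1 (.node 0 (.node 0 (.node 0 (.node 0 (.node 0 (.node 1 (.node 1 .nil
  .nil) .nil) .nil) .nil) .nil) (.node 1 (.node 0 (.node 1 (.node 0 (.node 1 (.node 1 .nil .nil)
  .nil) .nil) .nil) (.node 1 (.node 0 (.node 0 (.node 0 .nil .nil) (.node 1 (.node 0 .nil (.node
  1 .nil .nil)) .nil)) (.node 1 .nil .nil)) .nil)) .nil)) (.node 1 (.node 0 (.node 0 (.node 0
  (.node 1 (.node 1 .nil .nil) .nil) (.node 1 (.node 0 .nil (.node 1 (.node 0 (.node 0 .nil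
  .nil) (.node 1 (.node 0 .nil .nil) .nil)) .nil)) .nil)) .nil) (.node 1 (.node 0 .nil (.node 1
  (.node 1 (.node 0 .nil (.node 1 .nil .nil)) .nil) .nil)) .nil)) .nil)) .nil)) .nil)) (.node 1
  (.node 0 (.node 0 (.node 0 (.node 0 (.node 0 (.node 1 (.node 0 (.node 0 .nil (.node 1 (.node 0
  .nil (.node 1 .nil .nil)) .nil)) .nil) .nil) (.node 1 (.node 0 (.node 1 .nil .nil) (.node 1
  (.node 1 (.node 1 (.node 0 .nil .nil) .nil) .nil) .nil)) .nil)) (.node 1 (.node 0 (.node 0
  (.node 0 (.node 1 (.node 0 .nil .nil) .nil) (.node 1 (.node 0 .nil (.node 1 .nil .nil)) .nil))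
  (.node 1 (.node 0 (.node 1 (.node 1 .nil .nil) .nil) (.node 1 (.node 0 (.node 1 .nil .nil)
  (.node 1 (.node 1 (.node 0 .nil .nil) .nil) .nil)) .nil)) .nil)) (.node 1 (.node 0 (.node 0
  (.node 0 (.node 0 .nil (.node 1 .nil .nil)) (.node 1 (.node 0 .nil (.node 1 .nil .nil)) .nil))
  (.node 1 .nil .nil)) (.node 1 (.node 1 (.node 0 .nil (.node 1 .nil .nil)) .nil) .nil)) .nil))
  .nil)) (.node 1 (.node 0 (.node 0 (.node 0 (.node 0 (.node 0 .nil .nil) (.node 1 (.node 0
  (.node 1 .nil .nil) (.node 1 .nil .nil)) .nil)) (.node 1 (.node 0 .nil (.node 1 (.node 0 .nil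
  .nil) .nil)) .nil)) (.node 1 (.node 0 (.node 0 (.node 0 (.node 0 .nil .nil) .nil) (.node 1
  .nil .nil)) .nil) .nil)) (.node 1 (.node 0 (.node 0 (.node 0 (.node 0 (.node 0 .nil .nil)
  (.node 1 .nil .nil)) (.node 1 (.node 0 (.node 0 (.node 0 .nil .nil) (.node 1 (.node 1 .nil
  .nil) .nil)) (.node 1 .nil .nil)) .nil)) (.node 1 (.node 0 .nil .nil) .nil)) (.node 1 (.node 0
  (.node 0 (.node 0 .nil (.node 1 (.node 0 (.node 1 .nil .nil) (.node 1 .nil .nil)) .nil)) .nil)
  (.node 1 (.node 1 (.node 1 .nil .nil) .nil) .nil)) .nil)) .nil)) .nil)) (.node 1 (.node 0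
  (.node 0 (.node 0 (.node 0 (.node 0 (.node 1 .nil .nil) (.node 1 (.node 0 (.node 0 .nil .nil)
  .nil) .nil)) (.node 1 (.node 1 (.node 0 (.node 0 .nil .nil) .nil) .nil) .nil)) (.node 1 (.node
  0 (.node 0 (.node 0 .nil (.node 1 .nil .nil)) (.node 1 (.node 0 .nil (.node 1 .nil .nil))
  .nil)) .nil) .nil)) (.node 1 (.node 0 (.node 0 .nil (.node 1 (.node 0 (.node 0 (.node 0 .nil
  .nil) (.node 1 .nil .nil)) .nil) .nil)) (.node 1 (.node 0 (.node 0 (.node 1 (.node 0 .nil
  .nil) .nil) (.node 1 (.node 0 .nil (.node 1 .nil .nil)) .nil)) (.node 1 (.node 0 (.node 0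
  (.node 1 .nil .nil) .nil) (.node 1 (.node 0 .nil .nil) .nil)) .nil)) .nil)) .nil)) (.node 1
  (.node 0 (.node 0 (.node 0 (.node 1 (.node 0 (.node 0 .nil .nil) .nil) .nil) (.node 1 (.node 0
  .nil .nil) .nil)) (.node 1 (.node 0 (.node 0 (.node 0 (.node 0 .nil (.node 1 .nil .nil)) .nil)
  (.node 1 (.node 0 (.node 1 (.node 0 .nil .nil) .nil) .nil) .nil)) (.node 1 .nil .nil)) .nil))
  (.node 1 (.node 0 (.node 0 (.node 1 .nil .nil) .nil) (.node 1 (.node 1 (.node 0 (.node 0 .nil
  .nil) .nil) .nil) .nil)) .nil)) .nil)) .nil)) (.node 1 (.node 0 (.node 0 (.node 0 (.node 0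
  (.node 0 (.node 1 (.node 1 .nil .nil) .nil) (.node 1 (.node 1 .nil .nil) .nil)) (.node 1
  (.node 0 (.node 0 .nil (.node 1 .nil .nil)) (.node 1 (.node 0 .nil (.node 1 (.node 1 (.node 0
  (.node 0 .nil .nil) .nil) .nil) .nil)) .nil)) .nil)) (.node 1 (.node 0 (.node 0 (.node 1
  (.node 1 .nil .nil) .nil) (.node 1 (.node 0 (.node 1 (.node 0 (.node 1 .nil .nil) .nil) .nil)
  .nil) .nil)) (.node 1 (.node 0 (.node 1 .nil .nil) (.node 1 (.node 0 .nil (.node 1 .nil .nil))
  .nil)) .nil)) .nil)) (.node 1 (.node 0 (.node 0 (.node 0 (.node 0 .nil (.node 1 (.node 0 .nil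
  (.node 1 .nil .nil)) .nil)) (.node 1 (.node 0 .nil .nil) .nil)) .nil) (.node 1 (.node 0 (.node
  0 (.node 0 .nil (.node 1 .nil .nil)) .nil) (.node 1 (.node 0 (.node 0 (.node 1 (.node 0 .nil
  (.node 1 .nil .nil)) .nil) (.node 1 (.node 0 .nil .nil) .nil)) (.node 1 (.node 0 .nil .nil)
  .nil)) .nil)) .nil)) .nil)) (.node 1 (.node 0 (.node 0 (.node 0 (.node 0 (.node 0 (.node 1
  .nil .nil) (.node 1 (.node 0 .nil .nil) .nil)) (.node 1 (.node 0 (.node 0 .nil (.node 1 .nil
  .nil)) (.node 1 .nil .nil)) .nil)) (.node 1 (.node 0 (.node 1 (.node 0 .nil (.node 1 .nil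
  .nil)) .nil) (.node 1 (.node 0 (.node 0 .nil (.node 1 .nil .nil)) (.node 1 (.node 1 .nil .nil)
  .nil)) .nil)) .nil)) .nil) (.node 1 (.node 0 (.node 0 (.node 0 (.node 0 (.node 0 (.node 1 .nil
  .nil) (.node 1 .nil .nil)) (.node 1 .nil .nil)) .nil) (.node 1 (.node 0 (.node 0 (.node 0 .nil
  (.node 1 .nil .nil)) (.node 1 (.node 0 .nil .nil) .nil)) (.node 1 (.node 1 (.node 0 (.node 0
  .nil .nil) .nil) .nil) .nil)) .nil)) (.node 1 (.node 0 (.node 1 .nil .nil) (.node 1 (.node 0
  (.node 0 (.node 0 .nil .nil) .nil) (.node 1 (.node 0 (.node 0 (.node 1 .nil .nil) (.node 1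
  (.node 0 .nil .nil) .nil)) .nil) .nil)) .nil)) .nil)) .nil)) .nil)) .nil)) .nil)

/-- Root of class 2. -/
def cfgTripleSextetRep2 : List ℕ := [8388633, 230400, 274464, 1574914, 2097924, 4210880]

/-- Spanning tree of class 2. -/
def cfgTripleSextetTree2 : OTree :=
  .node 0 (.node 0 (.node 0 (.node 0 (.node 0 (.node 1 (.node 0 (.node 0 (.node 0 (.node 0
  (.node 1 .nil .nil) .nil) (.node 1 (.node 1 (.node 0 .nil .nil) .nil) .nil)) (.node 1 (.node 0
  (.node 0 (.node 0 .nil (.node 1 (.node 0 (.node 0 .nil .nil) .nil) .nil)) (.node 1 .nil .nil))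
  (.node 1 (.node 0 (.node 0 .nil .nil) (.node 1 (.node 1 .nil .nil) .nil)) .nil)) .nil)) (.node
  1 (.node 0 (.node 0 (.node 1 (.node 0 (.node 1 .nil .nil) .nil) .nil) (.node 1 (.node 0 .nil
  (.node 1 (.node 0 (.node 0 .nil .nil) (.node 1 (.node 1 .nil .nil) .nil)) .nil)) .nil)) (.node
  1 (.node 0 .nil (.node 1 (.node 0 (.node 0 (.node 0 .nil (.node 1 .nil .nil)) .nil) .nil)
  .nil)) .nil)) .nil)) .nil) (.node 1 (.node 0 (.node 0 (.node 0 (.node 0 (.node 0 .nil (.node 1
  (.node 0 .nil .nil) .nil)) (.node 1 (.node 0 .nil (.node 1 .nil .nil)) .nil)) (.node 1 (.node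
  0 .nil .nil) .nil)) (.node 1 (.node 0 (.node 1 (.node 0 (.node 1 .nil .nil) (.node 1 .nil
  .nil)) .nil) (.node 1 (.node 0 (.node 0 (.node 0 (.node 0 .nil .nil) .nil) (.node 1 (.node 1
  .nil .nil) .nil)) (.node 1 .nil .nil)) .nil)) .nil)) (.node 1 (.node 0 (.node 0 (.node 0 .nil
  (.node 1 (.node 1 (.node 0 .nil .nil) .nil) .nil)) (.node 1 (.node 0 (.node 0 .nil .nil)
  (.node 1 .nil .nil)) .nil)) (.node 1 (.node 0 (.node 0 (.node 1 .nil .nil) .nil) (.node 1
  (.node 0 (.node 0 (.node 0 (.node 1 .nil .nil) .nil) (.node 1 .nil .nil)) .nil) .nil)) .nil))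
  .nil)) .nil)) (.node 1 (.node 0 (.node 0 (.node 0 (.node 1 .nil .nil) (.node 1 (.node 0 (.node
  0 (.node 0 .nil (.node 1 (.node 0 .nil (.node 1 .nil .nil)) .nil)) (.node 1 (.node 0 (.node 0
  .nil (.node 1 .nil .nil)) .nil) .nil)) (.node 1 (.node 0 .nil (.node 1 (.node 0 .nil (.node 1
  (.node 0 (.node 0 .nil .nil) (.node 1 .nil .nil)) .nil)) .nil)) .nil)) .nil)) (.node 1 (.node
  1 (.node 0 (.node 0 (.node 1 .nil .nil) (.node 1 (.node 0 .nil (.node 1 (.node 0 .nil (.node 1
  (.node 1 .nil .nil) .nil)) .nil)) .nil)) (.node 1 (.node 0 .nil (.node 1 (.node 0 (.node 0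
  .nil .nil) (.node 1 .nil .nil)) .nil)) .nil)) .nil) .nil)) (.node 1 (.node 0 (.node 0 .nil
  (.node 1 (.node 0 (.node 0 (.node 0 (.node 0 .nil (.node 1 .nil .nil)) (.node 1 (.node 0 .nil
  .nil) .nil)) .nil) (.node 1 (.node 0 (.node 1 (.node 1 (.node 0 .nil .nil) .nil) .nil) .nil)
  .nil)) .nil)) (.node 1 (.node 0 (.node 0 .nil (.node 1 (.node 0 (.node 0 (.node 0 .nil .nil)
  .nil) (.node 1 (.node 0 .nil (.node 1 (.node 0 .nil .nil) .nil)) .nil)) .nil)) (.node 1 (.node
  0 (.node 1 (.node 0 (.node 1 .nil .nil) .nil) .nil) (.node 1 (.node 1 .nil .nil) .nil)) .nil))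
  .nil)) .nil)) .nil)) (.node 1 (.node 0 (.node 0 (.node 0 (.node 0 (.node 0 .nil (.node 1
  (.node 0 (.node 1 (.node 1 .nil .nil) .nil) (.node 1 (.node 1 .nil .nil) .nil)) .nil)) (.node
  1 (.node 0 (.node 0 (.node 0 (.node 1 (.node 0 .nil (.node 1 .nil .nil)) .nil) (.node 1 (.node
  0 .nil .nil) .nil)) (.node 1 (.node 1 (.node 0 .nil .nil) .nil) .nil)) (.node 1 (.node 0 .nil
  .nil) .nil)) .nil)) (.node 1 (.node 0 (.node 1 (.node 0 .nil (.node 1 (.node 0 .nil .nil)
  .nil)) .nil) (.node 1 (.node 1 (.node 1 (.node 1 (.node 1 .nil .nil) .nil) .nil) .nil) .nil))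
  .nil)) (.node 1 (.node 1 (.node 0 (.node 0 (.node 0 (.node 1 (.node 1 .nil .nil) .nil) .nil)
  (.node 1 (.node 0 (.node 0 .nil .nil) (.node 1 (.node 0 (.node 1 (.node 1 .nil .nil) .nil)
  (.node 1 (.node 0 .nil .nil) .nil)) .nil)) .nil)) (.node 1 (.node 0 (.node 0 (.node 0 (.node 0
  .nil .nil) .nil) .nil) (.node 1 (.node 1 .nil .nil) .nil)) .nil)) .nil) .nil)) (.node 1 (.node
  0 (.node 0 (.node 0 (.node 0 (.node 1 (.node 0 (.node 0 .nil .nil) .nil) .nil) (.node 1 (.node
  0 (.node 0 .nil (.node 1 (.node 0 .nil (.node 1 (.node 0 .nil .nil) .nil)) .nil)) (.node 1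
  (.node 0 .nil (.node 1 .nil .nil)) .nil)) .nil)) (.node 1 (.node 0 (.node 0 (.node 0 (.node 1
  .nil .nil) (.node 1 .nil .nil)) (.node 1 (.node 0 .nil (.node 1 .nil .nil)) .nil)) (.node 1
  (.node 1 (.node 0 (.node 0 .nil (.node 1 (.node 0 .nil .nil) .nil)) (.node 1 (.node 1 (.node 1
  .nil .nil) .nil) .nil)) .nil) .nil)) .nil)) (.node 1 (.node 0 (.node 0 (.node 0 (.node 0 .nil
  .nil) .nil) .nil) (.node 1 (.node 0 (.node 0 (.node 0 .nil .nil) (.node 1 (.node 0 .nil .nil)
  .nil)) .nil) .nil)) .nil)) (.node 1 (.node 0 (.node 0 (.node 0 (.node 0 (.node 0 .nil .nil)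
  (.node 1 (.node 1 .nil .nil) .nil)) (.node 1 (.node 0 (.node 0 .nil .nil) (.node 1 (.node 0
  .nil (.node 1 (.node 0 (.node 0 .nil .nil) .nil) .nil)) .nil)) .nil)) (.node 1 (.node 0 (.node
  1 (.node 1 .nil .nil) .nil) .nil) .nil)) (.node 1 (.node 0 (.node 0 (.node 0 (.node 0 .nil
  (.node 1 (.node 0 .nil .nil) .nil)) (.node 1 (.node 0 (.node 1 (.node 0 .nil .nil) .nil) .nil)
  .nil)) (.node 1 (.node 0 (.node 1 .nil .nil) (.node 1 (.node 0 .nil (.node 1 (.node 1 .nil
  .nil) .nil)) .nil)) .nil)) (.node 1 (.node 0 (.node 1 .nil .nil) (.node 1 (.node 0 (.node 0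
  (.node 0 .nil (.node 1 .nil .nil)) (.node 1 (.node 0 (.node 1 .nil .nil) (.node 1 .nil .nil))
  .nil)) (.node 1 (.node 0 .nil (.node 1 .nil .nil)) .nil)) .nil)) .nil)) .nil)) .nil)) .nil))
  .nil)) (.node 1 (.node 0 (.node 0 (.node 0 (.node 0 (.node 0 (.node 1 .nil .nil) (.node 1
  (.node 0 .nil (.node 1 (.node 0 (.node 0 .nil (.node 1 .nil .nil)) .nil) .nil)) .nil)) (.node
  1 (.node 0 (.node 0 (.node 0 (.node 0 (.node 1 (.node 0 .nil .nil) .nil) (.node 1 .nil .nil))
  (.node 1 (.node 1 (.node 0 (.node 0 .nil (.node 1 .nil .nil)) (.node 1 .nil .nil)) .nil)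
  .nil)) (.node 1 (.node 0 (.node 0 (.node 1 .nil .nil) (.node 1 .nil .nil)) .nil) .nil)) (.node
  1 (.node 0 (.node 0 (.node 1 .nil .nil) (.node 1 (.node 0 .nil .nil) .nil)) (.node 1 (.node 0
  (.node 0 (.node 1 .nil .nil) .nil) (.node 1 (.node 0 .nil (.node 1 (.node 1 .nil .nil) .nil))
  .nil)) .nil)) .nil)) .nil)) (.node 1 (.node 0 (.node 1 (.node 0 (.node 0 (.node 0 (.node 0
  (.node 0 .nil .nil) (.node 1 .nil .nil)) (.node 1 .nil .nil)) .nil) (.node 1 (.node 0 (.node 0
  (.node 1 .nil .nil) .nil) .nil) .nil)) .nil) (.node 1 (.node 0 (.node 0 (.node 1 .nil .nil)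
  .nil) (.node 1 (.node 1 (.node 0 (.node 0 (.node 0 .nil .nil) (.node 1 .nil .nil)) (.node 1
  (.node 0 .nil .nil) .nil)) .nil) .nil)) .nil)) .nil)) (.node 1 (.node 0 (.node 0 (.node 0
  (.node 0 (.node 0 (.node 1 .nil .nil) .nil) (.node 1 (.node 0 (.node 1 (.node 0 (.node 0 .nil
  .nil) (.node 1 (.node 1 .nil .nil) .nil)) .nil) (.node 1 (.node 0 .nil .nil) .nil)) .nil))
  (.node 1 (.node 0 (.node 0 (.node 0 (.node 0 .nil .nil) (.node 1 .nil .nil)) (.node 1 .nil
  .nil)) .nil) .nil)) (.node 1 (.node 0 (.node 0 (.node 1 .nil .nil) (.node 1 (.node 0 .nil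
  .nil) .nil)) (.node 1 (.node 1 (.node 1 (.node 0 (.node 0 (.node 1 .nil .nil) .nil) .nil)
  .nil) .nil) .nil)) .nil)) (.node 1 (.node 0 (.node 0 (.node 0 (.node 1 (.node 1 (.node 1 .nil
  .nil) .nil) .nil) .nil) (.node 1 (.node 0 (.node 0 (.node 0 (.node 0 (.node 0 .nil (.node 1
  .nil .nil)) (.node 1 .nil .nil)) (.node 1 (.node 0 (.node 0 .nil .nil) .nil) .nil)) (.node 1
  (.node 0 (.node 1 .nil .nil) .nil) .nil)) (.node 1 (.node 0 (.node 0 .nil (.node 1 .nil .nil))
  (.node 1 (.node 0 .nil .nil) .nil)) .nil)) .nil)) (.node 1 (.node 0 (.node 0 (.node 1 .nil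
  .nil) (.node 1 (.node 0 (.node 1 .nil .nil) (.node 1 .nil .nil)) .nil)) (.node 1 (.node 0
  (.node 0 (.node 0 .nil (.node 1 .nil .nil)) (.node 1 .nil .nil)) (.node 1 .nil .nil)) .nil))
  .nil)) .nil)) .nil)) (.node 1 (.node 0 (.node 0 (.node 0 (.node 0 (.node 1 (.node 0 (.node 0
  (.node 1 .nil .nil) (.node 1 (.node 0 .nil .nil) .nil)) (.node 1 (.node 0 (.node 1 .nil .nil)
  (.node 1 (.node 0 .nil .nil) .nil)) .nil)) .nil) (.node 1 (.node 1 (.node 0 (.node 0 (.node 1
  .nil .nil) .nil) (.node 1 .nil .nil)) .nil) .nil)) (.node 1 (.node 0 (.node 0 (.node 1 (.node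
  1 .nil .nil) .nil) .nil) (.node 1 (.node 0 (.node 0 .nil (.node 1 .nil .nil)) (.node 1 (.node
  1 (.node 1 .nil .nil) .nil) .nil)) .nil)) .nil)) (.node 1 (.node 1 (.node 0 (.node 0 (.node 0
  (.node 1 .nil .nil) .nil) (.node 1 (.node 0 (.node 0 (.node 0 .nil .nil) (.node 1 (.node 0
  (.node 1 .nil .nil) .nil) .nil)) (.node 1 (.node 1 (.node 1 .nil .nil) .nil) .nil)) .nil))
  (.node 1 (.node 0 (.node 0 (.node 0 .nil .nil) (.node 1 (.node 0 (.node 0 .nil .nil) (.node 1
  .nil .nil)) .nil)) .nil) .nil)) .nil) .nil)) (.node 1 (.node 0 (.node 0 (.node 0 (.node 0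
  (.node 0 .nil (.node 1 (.node 0 (.node 0 (.node 0 .nil .nil) (.node 1 (.node 1 .nil .nil)
  .nil)) .nil) .nil)) (.node 1 (.node 1 (.node 1 (.node 1 .nil .nil) .nil) .nil) .nil)) (.node 1
  (.node 1 (.node 1 (.node 1 (.node 1 (.node 0 .nil .nil) .nil) .nil) .nil) .nil) .nil)) (.node
  1 (.node 0 (.node 0 (.node 0 (.node 0 .nil (.node 1 (.node 0 .nil (.node 1 .nil .nil)) .nil))
  (.node 1 .nil .nil)) (.node 1 (.node 1 (.node 1 .nil .nil) .nil) .nil)) (.node 1 (.node 0 .nil
  (.node 1 (.node 0 (.node 0 (.node 1 .nil .nil) (.node 1 .nil .nil)) (.node 1 (.node 1 .nil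
  .nil) .nil)) .nil)) .nil)) .nil)) (.node 1 (.node 0 (.node 0 (.node 0 (.node 0 (.node 0 .nil
  (.node 1 (.node 1 .nil .nil) .nil)) .nil) (.node 1 (.node 1 (.node 0 (.node 0 .nil (.node 1
  .nil .nil)) (.node 1 (.node 1 .nil .nil) .nil)) .nil) .nil)) (.node 1 (.node 0 (.node 1 (.node
  0 .nil (.node 1 .nil .nil)) .nil) (.node 1 (.node 1 .nil .nil) .nil)) .nil)) (.node 1 (.node 0
  (.node 0 (.node 0 (.node 0 (.node 1 .nil .nil) (.node 1 .nil .nil)) (.node 1 (.node 0 (.node 0
  (.node 1 .nil .nil) (.node 1 (.node 0 .nil .nil) .nil)) (.node 1 .nil .nil)) .nil)) .nil)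
  (.node 1 (.node 1 (.node 1 (.node 1 .nil .nil) .nil) .nil) .nil)) .nil)) .nil)) .nil)) .nil))
  .nil)) (.node 1 (.node 0 (.node 0 (.node 0 (.node 0 (.node 0 (.node 1 (.node 0 (.node 0 (.node
  1 .nil .nil) (.node 1 (.node 1 .nil .nil) .nil)) .nil) .nil) (.node 1 (.node 0 (.node 0 (.node
  1 (.node 0 .nil .nil) .nil) (.node 1 (.node 0 (.node 0 .nil .nil) (.node 1 (.node 1 .nil .nil)
  .nil)) .nil)) (.node 1 .nil .nil)) .nil)) (.node 1 (.node 0 (.node 0 (.node 0 (.node 0 (.node
  0 .nil .nil) (.node 1 (.node 0 (.node 0 .nil .nil) .nil) .nil)) (.node 1 (.node 0 (.node 0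
  .nil (.node 1 (.node 0 .nil .nil) .nil)) .nil) .nil)) (.node 1 (.node 0 (.node 0 (.node 1 .nil
  .nil) (.node 1 (.node 0 .nil (.node 1 .nil .nil)) .nil)) (.node 1 (.node 0 (.node 0 (.node 0
  .nil .nil) .nil) .nil) .nil)) .nil)) (.node 1 (.node 1 (.node 0 (.node 1 (.node 1 (.node 0
  .nil (.node 1 .nil .nil)) .nil) .nil) (.node 1 (.node 0 (.node 1 (.node 0 .nil (.node 1 .nil
  .nil)) .nil) (.node 1 (.node 1 .nil .nil) .nil)) .nil)) .nil) .nil)) .nil)) (.node 1 (.node 0
  (.node 0 (.node 0 (.node 0 (.node 0 .nil (.node 1 (.node 1 .nil .nil) .nil)) (.node 1 (.node 0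
  (.node 0 (.node 0 .nil (.node 1 (.node 0 .nil .nil) .nil)) (.node 1 .nil .nil)) .nil) .nil))
  (.node 1 (.node 0 (.node 1 .nil .nil) (.node 1 (.node 0 (.node 0 .nil .nil) (.node 1 (.node 0
  .nil (.node 1 (.node 0 .nil .nil) .nil)) .nil)) .nil)) .nil)) (.node 1 (.node 0 (.node 0
  (.node 0 .nil (.node 1 (.node 0 .nil .nil) .nil)) (.node 1 (.node 0 (.node 1 (.node 0 .nil
  .nil) .nil) (.node 1 (.node 0 (.node 0 .nil .nil) .nil) .nil)) .nil)) (.node 1 (.node 0 (.node
  0 .nil (.node 1 (.node 0 (.node 0 .nil .nil) (.node 1 (.node 0 .nil .nil) .nil)) .nil)) (.node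
  1 (.node 0 (.node 0 .nil .nil) (.node 1 (.node 0 (.node 1 .nil .nil) .nil) .nil)) .nil))
  .nil)) .nil)) (.node 1 (.node 0 (.node 0 (.node 0 (.node 1 (.node 0 (.node 1 .nil .nil) .nil)
  .nil) (.node 1 (.node 0 (.node 0 .nil (.node 1 .nil .nil)) (.node 1 (.node 0 .nil .nil) .nil))
  .nil)) (.node 1 (.node 0 (.node 0 (.node 0 .nil (.node 1 .nil .nil)) (.node 1 (.node 0 .nil
  (.node 1 .nil .nil)) .nil)) (.node 1 (.node 0 (.node 0 .nil (.node 1 .nil .nil)) (.node 1 .nil
  .nil)) .nil)) .nil)) (.node 1 (.node 0 (.node 0 (.node 0 .nil (.node 1 (.node 1 (.node 0 .nil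
  .nil) .nil) .nil)) (.node 1 (.node 0 (.node 0 (.node 0 .nil .nil) .nil) (.node 1 .nil .nil))
  .nil)) (.node 1 (.node 0 (.node 0 (.node 0 .nil .nil) .nil) (.node 1 (.node 0 .nil (.node 1
  (.node 0 .nil .nil) .nil)) .nil)) .nil)) .nil)) .nil)) .nil)) (.node 1 (.node 0 (.node 0
  (.node 0 (.node 0 (.node 0 .nil (.node 1 (.node 0 .nil (.node 1 (.node 0 (.node 0 .nil .nil)
  (.node 1 (.node 0 (.node 0 .nil .nil) .nil) .nil)) .nil)) .nil)) .nil) (.node 1 (.node 1
  (.node 0 (.node 0 (.node 0 .nil (.node 1 (.node 0 (.node 0 .nil .nil) .nil) .nil)) (.node 1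
  (.node 0 (.node 0 (.node 0 .nil .nil) .nil) (.node 1 (.node 0 .nil .nil) .nil)) .nil)) (.node
  1 .nil .nil)) .nil) .nil)) (.node 1 (.node 0 .nil (.node 1 (.node 1 (.node 0 (.node 0 (.node 0
  .nil (.node 1 .nil .nil)) (.node 1 .nil .nil)) (.node 1 (.node 0 (.node 1 .nil .nil) (.node 1
  (.node 1 (.node 1 .nil .nil) .nil) .nil)) .nil)) .nil) .nil)) .nil)) (.node 1 (.node 0 (.node
  0 (.node 0 (.node 0 (.node 1 (.node 0 .nil .nil) .nil) (.node 1 (.node 1 (.node 1 .nil .nil)
  .nil) .nil)) (.node 1 (.node 0 (.node 0 .nil .nil) .nil) .nil)) (.node 1 (.node 0 (.node 0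
  (.node 1 .nil .nil) (.node 1 (.node 1 (.node 0 (.node 0 .nil .nil) (.node 1 .nil .nil)) .nil)
  .nil)) (.node 1 (.node 0 (.node 1 .nil .nil) (.node 1 (.node 0 (.node 1 .nil .nil) (.node 1
  (.node 0 (.node 0 .nil .nil) (.node 1 .nil .nil)) .nil)) .nil)) .nil)) .nil)) (.node 1 (.node
  0 (.node 0 (.node 1 (.node 0 (.node 0 (.node 1 .nil .nil) .nil) (.node 1 .nil .nil)) .nil)
  (.node 1 (.node 0 (.node 0 .nil (.node 1 (.node 0 .nil .nil) .nil)) (.node 1 (.node 0 .nil
  .nil) .nil)) .nil)) (.node 1 (.node 0 (.node 0 (.node 1 .nil .nil) (.node 1 (.node 0 (.node 0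
  (.node 1 .nil .nil) (.node 1 .nil .nil)) .nil) .nil)) (.node 1 (.node 0 (.node 0 .nil .nil)
  .nil) .nil)) .nil)) .nil)) .nil)) .nil)) (.node 1 (.node 0 (.node 0 (.node 0 (.node 0 (.node 0
  (.node 1 (.node 1 (.node 0 .nil (.node 1 (.node 1 .nil .nil) .nil)) .nil) .nil) (.node 1
  (.node 0 (.node 0 (.node 1 .nil .nil) .nil) (.node 1 .nil .nil)) .nil)) (.node 1 (.node 0
  (.node 0 (.node 0 (.node 0 .nil .nil) (.node 1 (.node 1 (.node 0 .nil .nil) .nil) .nil))
  (.node 1 (.node 0 .nil (.node 1 .nil .nil)) .nil)) (.node 1 (.node 0 (.node 0 .nil .nil)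
  (.node 1 (.node 0 (.node 0 .nil (.node 1 .nil .nil)) .nil) .nil)) .nil)) .nil)) (.node 1
  (.node 0 (.node 0 (.node 0 (.node 0 (.node 0 .nil (.node 1 .nil .nil)) (.node 1 (.node 0
  (.node 0 .nil .nil) .nil) .nil)) (.node 1 (.node 0 (.node 0 .nil .nil) (.node 1 .nil .nil))
  .nil)) (.node 1 (.node 0 .nil (.node 1 .nil .nil)) .nil)) (.node 1 (.node 0 (.node 0 (.node 0
  (.node 0 .nil (.node 1 (.node 1 .nil .nil) .nil)) .nil) (.node 1 (.node 1 (.node 0 (.node 0
  .nil (.node 1 .nil .nil)) (.node 1 .nil .nil)) .nil) .nil)) (.node 1 (.node 0 (.node 1 (.node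
  0 (.node 0 .nil (.node 1 .nil .nil)) .nil) .nil) (.node 1 (.node 0 .nil (.node 1 (.node 1
  (.node 0 (.node 1 .nil .nil) .nil) .nil) .nil)) .nil)) .nil)) .nil)) .nil)) (.node 1 (.node 0
  (.node 0 (.node 0 (.node 1 .nil .nil) (.node 1 (.node 0 (.node 0 (.node 1 (.node 0 .nil .nil)
  .nil) (.node 1 (.node 1 .nil .nil) .nil)) .nil) .nil)) (.node 1 (.node 0 (.node 0 (.node 0
  (.node 0 (.node 0 .nil .nil) (.node 1 (.node 0 (.node 0 .nil .nil) .nil) .nil)) (.node 1 .nil
  .nil)) (.node 1 (.node 1 .nil .nil) .nil)) (.node 1 (.node 0 (.node 0 (.node 1 (.node 0 .nil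
  .nil) .nil) .nil) (.node 1 (.node 0 .nil .nil) .nil)) .nil)) .nil)) (.node 1 (.node 0 (.node 0
  (.node 0 .nil .nil) (.node 1 (.node 1 (.node 0 (.node 0 .nil (.node 1 .nil .nil)) .nil) .nil)
  .nil)) (.node 1 (.node 0 (.node 0 (.node 1 (.node 0 .nil .nil) .nil) (.node 1 (.node 0 (.node
  0 .nil .nil) (.node 1 (.node 0 (.node 0 .nil .nil) (.node 1 .nil .nil)) .nil)) .nil)) (.node 1
  (.node 0 (.node 0 (.node 0 .nil (.node 1 .nil .nil)) (.node 1 (.node 0 .nil (.node 1 .nil
  .nil)) .nil)) .nil) .nil)) .nil)) .nil)) .nil)) (.node 1 (.node 0 (.node 0 (.node 0 (.node 0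
  (.node 0 .nil (.node 1 (.node 0 (.node 0 .nil (.node 1 .nil .nil)) (.node 1 (.node 0 (.node 0
  .nil .nil) (.node 1 (.node 1 .nil .nil) .nil)) .nil)) .nil)) (.node 1 (.node 0 (.node 1 (.node
  1 .nil .nil) .nil) .nil) .nil)) (.node 1 (.node 0 (.node 0 (.node 0 (.node 0 .nil .nil) (.node
  1 (.node 0 .nil (.node 1 .nil .nil)) .nil)) (.node 1 (.node 0 .nil .nil) .nil)) .nil) .nil))
  (.node 1 (.node 0 (.node 0 (.node 0 .nil (.node 1 (.node 0 (.node 0 (.node 0 .nil (.node 1
  .nil .nil)) .nil) (.node 1 (.node 0 .nil .nil) .nil)) .nil)) (.node 1 (.node 1 (.node 0 (.node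
  0 .nil (.node 1 .nil .nil)) (.node 1 .nil .nil)) .nil) .nil)) (.node 1 (.node 0 (.node 0 .nil
  .nil) .nil) .nil)) .nil)) (.node 1 (.node 0 (.node 0 (.node 0 (.node 0 (.node 0 (.node 1 .nil
  .nil) .nil) .nil) .nil) (.node 1 (.node 0 (.node 0 (.node 1 (.node 0 (.node 1 .nil .nil) .nil)
  .nil) .nil) (.node 1 (.node 0 (.node 0 .nil (.node 1 .nil .nil)) (.node 1 (.node 0 .nil (.node
  1 (.node 1 (.node 1 .nil .nil) .nil) .nil)) .nil)) .nil)) .nil)) (.node 1 (.node 0 (.node 0
  (.node 0 (.node 1 .nil .nil) .nil) (.node 1 (.node 0 (.node 0 .nil (.node 1 (.node 0 .nil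
  .nil) .nil)) (.node 1 (.node 0 .nil (.node 1 (.node 1 .nil .nil) .nil)) .nil)) .nil)) (.node 1
  (.node 0 (.node 0 (.node 0 (.node 1 .nil .nil) (.node 1 (.node 0 (.node 0 .nil .nil) (.node 1
  .nil .nil)) .nil)) (.node 1 (.node 0 (.node 0 (.node 0 .nil .nil) (.node 1 .nil .nil)) (.node
  1 .nil .nil)) .nil)) .nil) .nil)) .nil)) .nil)) .nil)) .nil)) .nil)

end CfsgLib.M24Classes
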