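import Cfsg.Agent.M24Classes.OrbitHelpers
import Cfsg.Agent.M24Classes.AtTriple

/-!
Certified orbits for this configuration.
-/

set_option autoImplicit false

namespace CfsgLib.M24Classes

open Cfsg CfsgLib.Mathieu
open scoped Pointwise

theorem triple_gens : cfgTripleTabs.all isM24Tab = true ∧
    (cfgTripleTabs.zip cfgTripleBytes).all (fun p => bytesOK p.1 p.2) = true ∧ cfgTripleTabs.length = cfgTripleBytes.length ∧
    cfgTripleTabs.all (fun t => push t 24 (cfgTriple.headD 0) == cfgTriple.headD 0) = true ∧ cfgTriple.headD 0 < 2 ^ 24 := by decide +kernel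

theorem tripleSextet_check0 : classOK cfgTripleBytes sextA 262139 sextetData (listInv [cfgTriple.headD 0])
    cfgTripleSextetRep0 cfgTripleSextetTree0 9 21 = true := by decide +kernel

theorem tripleSextet_check1 : classOK cfgTripleBytes sextA 262139 sextetData (listInv [cfgTriple.headD 0])
    cfgTripleSextetRep1 cfgTripleSextetTree1 5 630 = true := by decide +kernel

theorem tripleSextet_check2 : classOK cfgTripleBytes sextA 262139 sextetData (listInv [cfgTriple.headD 0])
    cfgTripleSextetRep2 cfgTripleSextetTree2 3 1120 = true := by decide +kernel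

theorem tripleSextet_all : sextetData.all (fun l => [9, 5, 3].contains ((listInv [cfgTriple.headD 0]) l)) = true := by decide +kernel

theorem tripleSextet_orbits {σ : Equiv.Perm GolayPt} (hσ : σ ∈ M24) {x : Finset GolayPt}
    (hx : σ • (setOf24 (cfgTriple.headD 0)) = x) :
    ∃ X0 ∈ sextets, ∃ X1 ∈ sextets, ∃ X2 ∈ sextets,
      (MulAction.orbit ↥(MulAction.stabilizer M24 x) X0).ncard = 21 ∧
      (MulAction.orbit ↥(MulAction.stabilizer M24 x) X1).ncard = 630 ∧
      (MulAction.orbit ↥(MulAction.stabilizer M24 x) X2).ncard = 1120 ∧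
      sextets = MulAction.orbit ↥(MulAction.stabilizer M24 x) X0 ∪ MulAction.orbit ↥(MulAction.stabilizer M24 x) X1 ∪ MulAction.orbit ↥(MulAction.stabilizer M24 x) X2 := by
  obtain ⟨X0, hX0, c0, e0⟩ := orbit_class sextetListed (setInvar id) (setInvar_smul sextetListed) (setInvar_list sextetListed triple_gens.2.2.2.2)
    (gensOK_set triple_gens.2.2.2.2 triple_gens.1 triple_gens.2.1 triple_gens.2.2.1 triple_gens.2.2.2.1) tripleSextet_check0 hσ hx
  obtain ⟨X1, hX1, c1, e1⟩ := orbit_class sextetListed (setInvar id) (setInvar_smul sextetListed) (setInvar_list sextetListed triple_gens.2.2.2.2)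
    (gensOK_set triple_gens.2.2.2.2 triple_gens.1 triple_gens.2.1 triple_gens.2.2.1 triple_gens.2.2.2.1) tripleSextet_check1 hσ hx
  obtain ⟨X2, hX2, c2, e2⟩ := orbit_class sextetListed (setInvar id) (setInvar_smul sextetListed) (setInvar_list sextetListed triple_gens.2.2.2.2)
    (gensOK_set triple_gens.2.2.2.2 triple_gens.1 triple_gens.2.1 triple_gens.2.2.1 triple_gens.2.2.2.1) tripleSextet_check2 hσ hx
  exact ⟨X0, hX0, X1, hX1, X2, hX2, c0, c1, c2, union3 (fun b => setInvar id b x) e0 e1 e2
    (class_cover sextetListed (setInvar id) (setInvar_smul sextetListed) (setInvar_list sextetListed triple_gens.2.2.2.2) tripleSextet_all hσ hx)⟩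

end CfsgLib.M24Classes
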