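import Cfsg.Agent.Mathieu.General
import Cfsg.Agent.Mathieu.Code
import Cfsg.Agent.M24Classes.Configs

/-!
The stabiliser of a dodecad and a hexad; the two kinds of point stabilisers in a dodecad stabiliser.
-/

set_option autoImplicit false

namespace CfsgLib.M24Classes

open Cfsg CfsgLib.Mathieu
open scoped Pointwise

theorem exists_five {s : Finset GolayPt} (h : 5 ≤ s.card) :
    ∃ v : Fin 5 → GolayPt, Function.Injective v ∧ ∀ i, v i ∈ s := by
  obtain ⟨e⟩ : Nonempty (Fin 5 ↪ ↥s) :=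
    Function.Embedding.nonempty_of_card_le (by rwa [Fintype.card_coe, Fintype.card_fin])
  exact ⟨fun i => (e i).1, fun a b hab => e.injective (Subtype.ext hab), fun i => (e i).2⟩

theorem dodecad_eq_one_of_fix {d s : Finset GolayPt} (hd : d ∈ dodecads) (hs : 5 ≤ s.card) (hsd : s ⊆ d)
    {g : ↥M24} (hg : g • d = d) (hfix : ∀ p ∈ s, (g : Equiv.Perm GolayPt) p = p) : g = 1 := by
  obtain ⟨v, hv, hvs⟩ := exists_five hs
  obtain ⟨u, -, huniq⟩ := dodecad_sharp_five hd v v hv hv (fun i => hsd (hvs i)) (fun i => hsd (hvs i))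
  exact congrArg Subtype.val ((huniq ⟨g, hg⟩ fun i => hfix _ (hvs i)).trans (huniq 1 fun i => rfl).symm)

theorem dodecad_hexad_stab {d C : Finset GolayPt} (hd : d ∈ dodecads) (hC : C ∈ hexadsOn d) :
    Nonempty (↥(MulAction.stabilizer M24 d ⊓ MulAction.stabilizer M24 C) ≃* Equiv.Perm (Fin 6)) ∧
    (∀ g ∈ MulAction.stabilizer M24 d ⊓ MulAction.stabilizer M24 C,
      (∀ p ∈ C, ((g : ↥M24) : Equiv.Perm GolayPt) p = p) → g = 1) ∧
    ∀ g ∈ MulAction.stabilizer M24 d ⊓ MulAction.stabilizer M24 C,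
      (∀ p ∈ d \ C, ((g : ↥M24) : Equiv.Perm GolayPt) p = p) → g = 1 := by
  obtain ⟨hC6, o, ho, hoC⟩ := hC
  have hCd : C ⊆ d := hoC ▸ Finset.inter_subset_right
  have hCo : C ⊆ o := hoC ▸ Finset.inter_subset_left
  have hd12 : d.card = 12 := hd.2
  have hC1 : ∀ g ∈ MulAction.stabilizer M24 d ⊓ MulAction.stabilizer M24 C,
      (∀ p ∈ C, ((g : ↥M24) : Equiv.Perm GolayPt) p = p) → g = 1 := fun g hg h =>
    dodecad_eq_one_of_fix hd (by omega) hCd hg.1 h
  refine ⟨?_, hC1, fun g hg h => dodecad_eq_one_of_fix hd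
    (by rw [Finset.card_sdiff, Finset.inter_eq_left.mpr hCd]; omega) Finset.sdiff_subset hg.1 h⟩
  set K := MulAction.stabilizer M24 d ⊓ MulAction.stabilizer M24 C
  have hinv : ∀ g : ↥K, ∀ x, (g.1.1 : Equiv.Perm GolayPt) x ∈ C ↔ x ∈ C := fun g x => by
    conv_lhs => rw [← (show (g.1.1 : Equiv.Perm GolayPt) • C = C from g.2.2)]
    exact Finset.smul_mem_smul_finset_iff (g.1.1 : Equiv.Perm GolayPt)
  let φ : ↥K →* Equiv.Perm ↥C :=
    { toFun := fun g => (g.1.1 : Equiv.Perm GolayPt).subtypePerm (hinv g)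
      map_one' := by ext x; rfl
      map_mul' := fun g g' => by ext x; rfl }
  have hinj : Function.Injective φ := by
    rw [injective_iff_map_eq_one]
    intro g hg
    exact Subtype.ext (hC1 g.1 g.2 fun p hp => congrArg Subtype.val (Equiv.Perm.ext_iff.mp hg ⟨p, hp⟩))
  have hsurj : Function.Surjective φ := by
    intro σ
    let e := (Finset.equivFinOfCardEq hC6).symm
    let x : Fin 5 → GolayPt := fun i => (e i.castSucc).1
    let y : Fin 5 → GolayPt := fun i => (σ (e i.castSucc)).1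
    have hx : Function.Injective x := fun a b h => Fin.castSucc_injective 5 (e.injective (Subtype.ext h))
    have hy : Function.Injective y := fun a b h =>
      Fin.castSucc_injective 5 (e.injective (σ.injective (Subtype.ext h)))
    obtain ⟨⟨g, hgd⟩, hgi, -⟩ := dodecad_sharp_five hd x y hx hy (fun i => hCd (e _).2) (fun i => hCd (σ _).2)
    change ∀ i, (g : Equiv.Perm GolayPt) (x i) = y i at hgi
    have hgd' : (g : Equiv.Perm GolayPt) • d = d := hgd
    have hgo : (g : Equiv.Perm GolayPt) • o = o := by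
      have hs : (Finset.univ.image y).card = 5 := by
        rw [Finset.card_image_of_injective _ hy, Finset.card_univ, Fintype.card_fin]
      refine (octads_isSteinerSystem.2 _ hs).unique ⟨octad_image g.2 ho, ?_⟩ ⟨ho, ?_⟩
      · rw [Finset.image_subset_iff]
        intro i _
        rw [← hgi i]
        exact Finset.smul_mem_smul_finset (hCo (e _).2)
      · rw [Finset.image_subset_iff]
        exact fun i _ => hCo (σ _).2
    have hgC : (g : Equiv.Perm GolayPt) • C = C := by
      rw [← hoC, Finset.smul_finset_inter, hgo, hgd']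
    refine ⟨⟨g, hgd, hgC⟩, Equiv.ext fun p => ?_⟩
    obtain ⟨i, rfl⟩ := e.surjective p
    set τ := φ ⟨g, hgd, hgC⟩
    have h5 : ∀ j : Fin 5, τ (e j.castSucc) = σ (e j.castSucc) := fun j => Subtype.ext (hgi j)
    induction i using Fin.lastCases with
    | cast j => exact h5 j
    | last =>
      set ρ := σ⁻¹ * τ with hρ
      have hfix : ∀ j : Fin 5, ρ (e j.castSucc) = e j.castSucc := fun j => by
        rw [hρ, Equiv.Perm.mul_apply, h5, perm_inv_apply]
      have hlast : ρ (e (Fin.last 5)) = e (Fin.last 5) := by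
        obtain ⟨j, hj⟩ := e.surjective (ρ (e (Fin.last 5)))
        induction j using Fin.lastCases with
        | last => exact hj.symm
        | cast j => exact absurd (e.injective (ρ.injective ((hfix j).trans hj))) (Fin.castSucc_ne_last j)
      rwa [hρ, Equiv.Perm.mul_apply, Equiv.Perm.inv_eq_iff_eq] at hlast
  exact ⟨(MulEquiv.ofBijective φ ⟨hinj, hsurj⟩).trans (Finset.equivFinOfCardEq hC6).permCongrHom⟩

theorem mem_conj_M11 (g x : Equiv.Perm GolayPt) : x ∈ MulAut.conj g • Spor.M11 ↔ g⁻¹ * x * g ∈ Spor.M11 := by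
  rw [Subgroup.mem_pointwise_smul_iff_inv_smul_mem, MulAut.smul_def, MulAut.inv_apply,
    MulAut.conj_symm_apply]

theorem squareDodecad_compl : Finset.univ \ Spor.squareDodecad ∈ dodecads ∧
    (none : GolayPt) ∈ Finset.univ \ Spor.squareDodecad := by
  have h : Finset.univ \ Spor.squareDodecad = setOf24 ((2 ^ 24 - 1) ^^^ m12Dodecad) ∧
      (none : GolayPt) ∈ Finset.univ \ Spor.squareDodecad ∧
      isCode ((2 ^ 24 - 1) ^^^ m12Dodecad) = true ∧ wt ((2 ^ 24 - 1) ^^^ m12Dodecad) = 12 := by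
    rw [squareDodecad_eq]
    decide +kernel
  exact ⟨h.1 ▸ setOf24_mem_wordsOfWeight h.2.2.1 h.2.2.2, h.2.1⟩

theorem exists_swap_dodecad : ∃ g ∈ M24, g • Spor.squareDodecad = Finset.univ \ Spor.squareDodecad ∧
    MulAut.conj g • Spor.M11 = Spor.M12 ⊓ MulAction.stabilizer (Equiv.Perm GolayPt) (none : GolayPt) := by
  obtain ⟨hd, hn⟩ := squareDodecad_compl
  obtain ⟨g, hg, hgd, hg0⟩ := exists_M24_dodecad_point hd hn
  change g • Spor.squareDodecad = _ at hgd
  refine ⟨g, hg, hgd, Subgroup.ext fun x => ?_⟩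
  rw [mem_conj_M11]
  show g⁻¹ * x * g ∈ M24 ⊓ MulAction.stabilizer (Equiv.Perm GolayPt) Spor.squareDodecad ⊓
      MulAction.stabilizer (Equiv.Perm GolayPt) (some 0 : GolayPt) ↔
    x ∈ M24 ⊓ MulAction.stabilizer (Equiv.Perm GolayPt) Spor.squareDodecad ⊓
      MulAction.stabilizer (Equiv.Perm GolayPt) (none : GolayPt)
  simp only [Subgroup.mem_inf, MulAction.mem_stabilizer_iff]
  refine and_congr (and_congr ?_ ?_) ?_
  · refine ⟨fun hx => ?_, fun hx => mul_mem (mul_mem (inv_mem hg) hx) hg⟩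
    have := mul_mem (mul_mem hg hx) (inv_mem hg)
    simpa [mul_assoc] using this
  · rw [mul_smul, mul_smul, hgd, inv_smul_eq_iff, hgd]
    rw [← Finset.compl_eq_univ_sdiff, smul_set_eq_image, smul_set_eq_image,
      show (Spor.squareDodecadᶜ).image x = (Spor.squareDodecad.image x)ᶜ from
        by ext p; obtain ⟨q, rfl⟩ := x.surjective p; simp [x.injective.eq_iff], compl_inj_iff]
  · rw [Equiv.Perm.smul_def, Equiv.Perm.smul_def, Equiv.Perm.mul_apply, Equiv.Perm.mul_apply, hg0,
      Equiv.Perm.inv_eq_iff_eq, hg0]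

theorem SporM11_no_fixed_out : ¬ ∃ k ∈ Spor.M12, MulAut.conj k • Spor.M11 =
    Spor.M12 ⊓ MulAction.stabilizer (Equiv.Perm GolayPt) (none : GolayPt) := by
  rintro ⟨k, hk, heq⟩
  have hn : (none : GolayPt) ∉ setOf24 m12Dodecad := by decide +kernel
  set q := k⁻¹ none
  have hq : q ∉ setOf24 m12Dodecad := SporM12_preserves_compl (inv_mem hk) hn
  obtain ⟨e⟩ : Nonempty (Fin 3 ↪ ↥((setOf24 m12Dodecad)ᶜ.erase q)) :=
    Function.Embedding.nonempty_of_card_le (by
      rw [Fintype.card_coe, Fintype.card_fin, Finset.card_erase_of_mem (Finset.mem_compl.mpr hq)]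
      decide +kernel)
  let y : Fin 3 → GolayPt := fun i => (e i).1
  have hy : Function.Injective y := fun a b h => e.injective (Subtype.ext h)
  have hyd : ∀ i, y i ∉ setOf24 m12Dodecad := fun i => Finset.mem_compl.mp (Finset.mem_of_mem_erase (e i).2)
  have hyq : ∀ i, y i ≠ q := fun i => Finset.ne_of_mem_erase (e i).2
  have hx : Function.Injective ![q, y 1, y 2] := by
    intro a b hab
    have h1 := hy.ne (a₁ := (1 : Fin 3)) (a₂ := 2) (by decide)
    fin_cases a <;> fin_cases b <;> first | rfl | (simp at hab; exact absurd hab (by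
      first | exact hyq _ | exact (hyq _).symm | exact h1 | exact h1.symm))
  obtain ⟨m, hm, hmy⟩ := SporM11_map_three_out ![q, y 1, y 2] y hx hy
    (fun i => by fin_cases i <;> [exact hq; exact hyd 1; exact hyd 2]) hyd
  have hmem : k * m * k⁻¹ ∈ MulAut.conj k • Spor.M11 := by
    rw [mem_conj_M11]
    convert hm using 1
    group
  rw [heq] at hmem
  have h0 : k (m q) = none := hmem.2
  have : m q = q := by rw [← Equiv.Perm.inv_eq_iff_eq.mpr h0.symm]
  exact hyq 0 ((hmy 0).symm.trans this)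

theorem M11_two_kinds : Nonempty (↥(Spor.M12 ⊓ MulAction.stabilizer (Equiv.Perm GolayPt) (none : GolayPt)) ≃* ↥Spor.M11) ∧
    (¬ ∃ k ∈ Spor.M12, MulAut.conj k • Spor.M11 =
      Spor.M12 ⊓ MulAction.stabilizer (Equiv.Perm GolayPt) (none : GolayPt)) ∧
    ∃ g ∈ M24, g • Spor.squareDodecad = Finset.univ \ Spor.squareDodecad ∧
      MulAut.conj g • Spor.M11 = Spor.M12 ⊓ MulAction.stabilizer (Equiv.Perm GolayPt) (none : GolayPt) := by
  obtain ⟨g, hg, h1, h2⟩ := exists_swap_dodecad
  exact ⟨⟨((MulEquiv.subgroupCongr h2.symm).trans (Subgroup.equivSMul (MulAut.conj g) Spor.M11).symm)⟩,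
    SporM11_no_fixed_out, g, hg, h1, h2⟩

end CfsgLib.M24Classes
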