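import Cfsg.Agent.M24Classes.Classes
import Cfsg.Agent.M24Classes.Configs

/-!
The number of octads, dodecads, trios and sextets fixed by the elements of order 2 and 3 of `Cfsg.M24`.
-/

set_option autoImplicit false

namespace CfsgLib.M24Classes

open Cfsg CfsgLib.Mathieu
open scoped Pointwise

/-- Entry `b` of a push table. -/
def byteImg (E b : ℕ) : ℕ := Nat.land (E >>> (24 * b)) 16777215

/-- Push of a 24-bit mask by three byte tables. -/
def fastPush : List ℕ → ℕ → ℕ
  | [E0, E1, E2], M =>
    byteImg E0 (M % 256) ||| byteImg E1 (M / 256 % 256) ||| byteImg E2 (M / 65536 % 256)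
  | _, _ => 0

/-- The byte tables agree with the table. -/
def bytesOK (t : ℕ) : List ℕ → Bool
  | [E0, E1, E2] => allBelow 256 fun b => byteImg E0 b == push t 24 b && byteImg E1 b == push t 24 (b <<< 8) &&
      byteImg E2 b == push t 24 (b <<< 16)
  | _ => false

theorem push_or (t a b : ℕ) : push t 24 (a ||| b) = push t 24 a ||| push t 24 b := by
  refine Nat.eq_of_testBit_eq fun j => Bool.eq_iff_iff.mpr ?_
  simp only [Nat.testBit_or, Bool.or_eq_true, testBit_push]
  constructor
  · rintro ⟨i, hi, h | h, he⟩
    · exact Or.inl ⟨i, hi, h, he⟩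
    · exact Or.inr ⟨i, hi, h, he⟩
  · rintro (⟨i, hi, h, he⟩ | ⟨i, hi, h, he⟩)
    · exact ⟨i, hi, Or.inl h, he⟩
    · exact ⟨i, hi, Or.inr h, he⟩

theorem split_bytes {M : ℕ} (h : M < 2 ^ 24) :
    M = (M % 256 ||| (M / 256 % 256) <<< 8) ||| (M / 65536 % 256) <<< 16 := by
  refine Nat.eq_of_testBit_eq fun i => ?_
  simp only [Nat.testBit_or, Nat.testBit_shiftLeft,
    show (256 : ℕ) = 2 ^ 8 from rfl, show (65536 : ℕ) = 2 ^ 16 from rfl, Nat.testBit_mod_two_pow,
    Nat.testBit_div_two_pow]
  by_cases h1 : i < 8
  · simp [h1, show ¬ i ≥ 8 by omega, show ¬ i ≥ 16 by omega]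
  · by_cases h2 : i < 16
    · simp [h1, show i ≥ 8 by omega, show ¬ i ≥ 16 by omega, show i - 8 < 8 by omega,
        show i - 8 + 8 = i by omega]
    · by_cases h3 : i < 24
      · simp [h1, show i ≥ 16 by omega, show i - 16 < 8 by omega, show ¬ i - 8 < 8 by omega,
          show i - 16 + 16 = i by omega]
      · have : M.testBit i = false := Nat.testBit_lt_two_pow
          (lt_of_lt_of_le h (Nat.pow_le_pow_right (by norm_num) (by omega)))
        simp [h1, this, show ¬ i - 16 < 8 by omega, show ¬ i - 8 < 8 by omega]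

theorem fastPush_eq {t : ℕ} {E : List ℕ} (hE : bytesOK t E = true) {M : ℕ} (h : M < 2 ^ 24) :
    push t 24 M = fastPush E M := by
  match E, hE with
  | [E0, E1, E2], hE =>
    simp only [bytesOK, allBelow_iff, Bool.and_eq_true, beq_iff_eq] at hE
    rw [fastPush, ((hE _ (Nat.mod_lt M (by norm_num))).1).1, ((hE _ (Nat.mod_lt (M / 256) (by norm_num))).1).2,
      (hE _ (Nat.mod_lt (M / 65536) (by norm_num))).2, ← push_or, ← push_or, ← split_bytes h]

/-- Number of masks fixed. -/
def countMasks (E : List ℕ) (L : List ℕ) : ℕ := (L.filter fun M => fastPush E M == M).length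

/-- Number of families fixed. -/
def countFams (E : List ℕ) (L : List (List ℕ)) : ℕ :=
  (L.filter fun l => l.all fun M => l.contains (fastPush E M)).length

theorem length_filter_masks {t : ℕ} {E : List ℕ} (hE : bytesOK t E = true) {L : List ℕ}
    (hL : ∀ M ∈ L, M < 2 ^ 24) :
    (L.filter fun M => push t 24 M == M).length = countMasks E L := by
  rw [countMasks, List.filter_congr (fun M hM => by rw [fastPush_eq hE (hL M hM)])]

theorem length_filter_fams {t : ℕ} {E : List ℕ} (hE : bytesOK t E = true) {L : List (List ℕ)}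
    (hL : ∀ l ∈ L, ∀ M ∈ l, M < 2 ^ 24) : (L.filter (fixesFam t)).length = countFams E L := by
  rw [countFams, List.filter_congr (p := fixesFam t)
    (q := fun l => l.all fun M => l.contains (fastPush E M)) (fun l hl => ?_)]
  simp only [fixesFam]
  rw [Bool.eq_iff_iff, List.all_eq_true, List.all_eq_true]
  exact forall_congr' fun M => forall_congr' fun hM => by rw [fastPush_eq hE (hL l hl M hM)]

/-- The configurations fixed by a permutation. -/
def fixedOctads (g : Equiv.Perm GolayPt) : Set (Finset GolayPt) := {o | o ∈ octads ∧ g • o = o}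

/-- The dodecads fixed by a permutation. -/
def fixedDodecads (g : Equiv.Perm GolayPt) : Set (Finset GolayPt) := {o | o ∈ dodecads ∧ g • o = o}

/-- The trios fixed by a permutation. -/
def fixedTrios (g : Equiv.Perm GolayPt) : Set (Finset (Finset GolayPt)) := {T | T ∈ trios ∧ g • T = T}

/-- The sextets fixed by a permutation. -/
def fixedSextets (g : Equiv.Perm GolayPt) : Set (Finset (Finset GolayPt)) := {S | S ∈ sextets ∧ g • S = S}

theorem octList_lt : ∀ M ∈ octList, M < 2 ^ 24 := fun _ hM => isCode_lt (mem_octList.mp hM).1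

theorem fixed_counts {g : Equiv.Perm GolayPt} {t : ℕ} (h : Rep enc g t) {E : List ℕ}
    (hE : bytesOK t E = true) :
    (fixedOctads g).ncard = countMasks E octList ∧
      (fixedDodecads g).ncard = countMasks E (codeOfWeight 12) ∧
      (fixedTrios g).ncard = countFams E trioList ∧
      (fixedSextets g).ncard = countFams E sextetData := by
  refine ⟨?_, ?_, ?_, ?_⟩
  · exact ((ncard_fixed_words h 8).trans (by rw [codeOfWeight_eight])).trans
      (length_filter_masks hE octList_lt)
  · exact (ncard_fixed_words h 12).trans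
      (length_filter_masks hE fun M hM => isCode_lt (mem_codeOfWeight.mp hM).1)
  · exact (ncard_fixed_trios h).trans (length_filter_fams hE trioList_lt)
  · exact (ncard_fixed_sextets h).trans (length_filter_fams hE sextetData_lt)

theorem counts_conj (g : Equiv.Perm GolayPt) {h : Equiv.Perm GolayPt} (hh : h ∈ M24) :
    (fixedOctads (h * g * h⁻¹)).ncard = (fixedOctads g).ncard ∧
      (fixedDodecads (h * g * h⁻¹)).ncard = (fixedDodecads g).ncard ∧
      (fixedTrios (h * g * h⁻¹)).ncard = (fixedTrios g).ncard ∧
      (fixedSextets (h * g * h⁻¹)).ncard = (fixedSextets g).ncard :=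
  ⟨ncard_fixed_conj (fun _ hg _ hs => smul_mem_wordsOfWeight hg hs) g hh,
    ncard_fixed_conj (fun _ hg _ hs => smul_mem_wordsOfWeight hg hs) g hh,
    ncard_fixed_conj (fun _ hg _ hs => smul_mem_trios hg hs) g hh,
    ncard_fixed_conj (fun _ hg _ hs => smul_mem_sextets hg hs) g hh⟩

theorem bytes_ok : bytesOK tab2Free bytes2Free = true ∧ bytesOK tab2Oct bytes2Oct = true ∧
    bytesOK tab3Free bytes3Free = true ∧ bytesOK tab3Six bytes3Six = true := by decide +kernel

theorem counts2Free : countMasks bytes2Free octList = 15 ∧ countFams bytes2Free trioList = 75 ∧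
    countFams bytes2Free sextetData = 51 := by decide +kernel

theorem counts2Oct : countMasks bytes2Oct octList = 71 ∧ countFams bytes2Oct trioList = 99 ∧
    countFams bytes2Oct sextetData = 91 := by decide +kernel

theorem counts3Free : countFams bytes3Free trioList = 15 ∧ countFams bytes3Free sextetData = 7 := by
  decide +kernel

theorem counts3Six : countMasks bytes3Six octList = 21 ∧ countMasks bytes3Six (codeOfWeight 12) = 20 ∧
    countFams bytes3Six trioList = 15 ∧ countFams bytes3Six sextetData = 16 := by decide +kernel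

end CfsgLib.M24Classes
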