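import Cfsg.Agent.M24Classes.CentData
import Cfsg.Agent.M24Classes.Classes
import Cfsg.Agent.M24Classes.Configs

/-!
The normaliser and centraliser of a subgroup of order seven.
-/

set_option autoImplicit false

namespace CfsgLib.M24Classes

open Cfsg CfsgLib.Mathieu CfsgLib.SporadicOut
open scoped Pointwise

/-- The table sends `tab7` to its `k`th power. -/
def twistTab (k t : ℕ) : Bool := allBelow 24 fun i => app t (app tab7 i) == appIter tab7 k (app t i)

theorem twistTab_sound {σ : Equiv.Perm GolayPt} {t k : ℕ} (r : Rep enc σ t) (h : twistTab k t = true) :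
    σ * ord7 = ord7 ^ k * σ := by
  rw [twistTab, allBelow_iff] at h
  refine Equiv.ext fun p => enc.injective (Fin.ext ?_)
  have := beq_iff_eq.mp (h (enc p).val (enc p).isLt)
  rw [ord7_rep p, r (ord7 p), r p, appIter_eq ord7_rep] at this
  exact this

theorem norm7_static :
    levelsOK [] tab7 norm7Levels 0 = true ∧ norm7Tabs.length = 6 ∧
    allBelow 6 (fun i => (norm7Tabs.getD i []).all fun t => isM24Tab t && twistTab (i + 1) t &&
      fixesFam t norm7Trio && (pack (app t) 24 == t)) = true ∧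
    norm7Tabs.flatten.Nodup ∧ norm7Tabs.flatten.length = 126 ∧ (norm7Tabs.getD 0 []).length = 42 ∧
    trioList.contains norm7Trio = true ∧
    (norm7Tabs.getD 0 []).contains norm7Pair.1 = true ∧ (norm7Tabs.getD 0 []).contains norm7Pair.2 = true ∧
    allBelow 24 (fun i => app norm7Pair.1 (app norm7Pair.2 i) == app norm7Pair.2 (app norm7Pair.1 i)) = false := by
  decide +kernel

theorem norm7_search : allBelow 6 (fun i => search tab7 (i + 1) (norm7Tabs.getD i []) norm7Levels []) = true := by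
  decide +kernel

theorem norm7_complete {c : Equiv.Perm GolayPt} (hc : c ∈ M24) {k : ℕ} (hk : k < 6)
    (h : c * ord7 = ord7 ^ (k + 1) * c) : ∃ t ∈ norm7Tabs.getD k [], Rep enc c t := by
  have hs := norm7_search
  rw [allBelow_iff] at hs
  exact search_sound ord7_rep h hc _ [] (by simp) norm7Levels [] (by simp [Agrees]) norm7_static.1 (hs k hk)

theorem norm7_member {k t : ℕ} (hk : k < 6) (ht : t ∈ norm7Tabs.getD k []) :
    ∃ c ∈ M24, Rep enc c t ∧ c * ord7 = ord7 ^ (k + 1) * c ∧ c • famSet norm7Trio = famSet norm7Trio := by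
  have h := norm7_static.2.2.1
  rw [allBelow_iff] at h
  have h' := List.all_eq_true.mp (h k hk) t ht
  simp only [Bool.and_eq_true] at h'
  obtain ⟨c, hc, r⟩ := inGroup_of_isM24Tab h'.1.1.1
  exact ⟨c, hc, r, twistTab_sound r h'.1.1.2,
    (smul_famSet_iff r (trioList_lt _ (List.contains_iff_mem.mp norm7_static.2.2.2.2.2.2.1))).mpr h'.1.2⟩

theorem norm7_mem_getD {t : ℕ} (ht : t ∈ norm7Tabs.flatten) : ∃ k < 6, t ∈ norm7Tabs.getD k [] := by
  obtain ⟨L, hL, htL⟩ := List.mem_flatten.mp ht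
  obtain ⟨k, hk, rfl⟩ := List.getElem_of_mem hL
  refine ⟨k, norm7_static.2.1 ▸ hk, ?_⟩
  rw [List.getD_eq_getElem _ _ hk]
  exact htL

theorem norm7_tab_ext {c c' : Equiv.Perm GolayPt} {t t' : ℕ} (r : Rep enc c t) (r' : Rep enc c' t') (e : c = c')
    (h : pack (app t) 24 = t) (h' : pack (app t') 24 = t') : t = t' := by
  rw [← h, ← h']
  have : ∀ n, n ≤ 24 → pack (app t) n = pack (app t') n := by
    intro n
    induction n with
    | zero => exact fun _ => rfl
    | succ n ih =>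
      intro hn
      simp only [pack]
      have h1 := r (enc.symm ⟨n, hn⟩)
      have h2 := r' (enc.symm ⟨n, hn⟩)
      rw [e] at h1
      rw [Equiv.apply_symm_apply] at h1 h2
      rw [ih (Nat.le_of_succ_le hn), h1, h2]
  exact this 24 le_rfl

theorem card_tabs {L : List ℕ} (hnd : L.Nodup) (hpack : ∀ t ∈ L, pack (app t) 24 = t) {P : Equiv.Perm GolayPt → Prop}
    (hfwd : ∀ c, P c → ∃ t ∈ L, Rep enc c t) (hbwd : ∀ t ∈ L, ∃ c, P c ∧ Rep enc c t) :
    Nat.card {c // P c} = L.length := by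
  choose f hf hfr using hfwd
  let F : {c // P c} → {t // t ∈ L.toFinset} := fun c => ⟨f c.1 c.2, List.mem_toFinset.mpr (hf _ _)⟩
  have hF : Function.Bijective F := by
    refine ⟨fun a b e => Subtype.ext ?_, fun t => ?_⟩
    · have := hfr b.1 b.2
      rw [← show f a.1 a.2 = f b.1 b.2 from congrArg Subtype.val e] at this
      exact rep_unique (hfr a.1 a.2) this
    · obtain ⟨c, hc, r⟩ := hbwd t.1 (List.mem_toFinset.mp t.2)
      exact ⟨⟨c, hc⟩, Subtype.ext (norm7_tab_ext (hfr c hc) r rfl (hpack _ (hf c hc))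
        (hpack _ (List.mem_toFinset.mp t.2)))⟩
  rw [Nat.card_eq_of_bijective F hF, Nat.card_eq_fintype_card, Fintype.card_coe, List.toFinset_card_of_nodup hnd]

theorem norm7_pack {k t : ℕ} (hk : k < 6) (ht : t ∈ norm7Tabs.getD k []) : pack (app t) 24 = t := by
  have h := norm7_static.2.2.1
  rw [allBelow_iff] at h
  exact beq_iff_eq.mp (Bool.and_eq_true_iff.mp (List.all_eq_true.mp (h k hk) t ht)).2

/-- `ord7` in the group. -/
noncomputable def seven : ↥M24 := ⟨ord7, ord7_mem⟩

theorem pow_of_power {j : ℕ} (hj : j < 7) {c : ↥M24} (h : c * seven * c⁻¹ = seven ^ j) : 0 < j := by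
  rcases Nat.eq_zero_or_pos j with rfl | hj0
  · exfalso
    rw [pow_zero, mul_inv_eq_one, mul_eq_left] at h
    have h7 := orderOf_reps.2.2.2.2
    rw [show ord7 = ((seven : ↥M24) : Equiv.Perm GolayPt) from rfl, h, Subgroup.coe_one, orderOf_one] at h7
    omega
  · exact hj0

theorem mem_normalizer_seven (c : ↥M24) : c ∈ Subgroup.normalizer (Subgroup.zpowers seven : Set ↥M24) ↔
    ∃ k < 6, (c : Equiv.Perm GolayPt) * ord7 = ord7 ^ (k + 1) * c := by
  have h7 : orderOf seven = 7 := by rw [← Subgroup.orderOf_coe]; exact orderOf_reps.2.2.2.2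
  constructor
  · intro hc
    have hm : c * seven * c⁻¹ ∈ Subgroup.zpowers seven :=
      ((Subgroup.mem_normalizer_iff.mp hc) seven).mp (Subgroup.mem_zpowers seven)
    obtain ⟨n, hn⟩ := Subgroup.mem_zpowers_iff.mp hm
    obtain ⟨j, hj7, hj⟩ : ∃ j < 7, c * seven * c⁻¹ = seven ^ j := by
      refine ⟨(n % 7).toNat, by omega, ?_⟩
      have hnn : 0 ≤ n % 7 := Int.emod_nonneg _ (by norm_num)
      rw [← hn, ← zpow_mod_orderOf seven n, h7, ← zpow_natCast, Int.toNat_of_nonneg (by exact_mod_cast hnn)]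
      rfl
    have hj0 := pow_of_power hj7 hj
    refine ⟨j - 1, by omega, ?_⟩
    have := congrArg Subtype.val (mul_inv_eq_iff_eq_mul.mp hj)
    rw [show j - 1 + 1 = j by omega]
    simpa [seven] using this
  · rintro ⟨k, hk, h⟩
    have hck : c * seven = seven ^ (k + 1) * c := Subtype.ext (by simpa [seven] using h)
    have hle : (Subgroup.zpowers seven).map (MulAut.conj c).toMonoidHom ≤ Subgroup.zpowers seven := by
      rw [MonoidHom.map_zpowers, Subgroup.zpowers_le]
      show c * seven * c⁻¹ ∈ _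
      rw [hck, mul_inv_cancel_right]
      exact Subgroup.npow_mem_zpowers seven _
    have heq := Subgroup.eq_of_le_of_card_ge hle (le_of_eq
      (Nat.card_congr (Subgroup.equivMapOfInjective _ _ (MulAut.conj c).injective).toEquiv))
    rw [Subgroup.mem_normalizer_iff]
    intro x
    conv_rhs => rw [← heq]
    exact (Subgroup.mem_map_iff_mem (f := (MulAut.conj c).toMonoidHom) (MulAut.conj c).injective).symm

theorem mem_centralizer_seven (c : ↥M24) : c ∈ Subgroup.centralizer (Subgroup.zpowers seven : Set ↥M24) ↔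
    (c : Equiv.Perm GolayPt) * ord7 = ord7 ^ (0 + 1) * c := by
  rw [Subgroup.zpowers_eq_closure, Subgroup.centralizer_closure,
    Subgroup.mem_centralizer_singleton_iff, zero_add, pow_one]
  exact ⟨fun h => congrArg Subtype.val h, fun h => Subtype.ext h⟩

theorem card_normalizer_seven : Nat.card ↥(Subgroup.normalizer (Subgroup.zpowers seven : Set ↥M24)) = 126 := by
  have hL : ∀ t ∈ norm7Tabs.flatten, pack (app t) 24 = t := fun t ht => by
    obtain ⟨k, hk, htk⟩ := norm7_mem_getD ht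
    exact norm7_pack hk htk
  have h := card_tabs norm7_static.2.2.2.1 hL (P := fun c => c ∈ M24 ∧ ∃ k < 6, c * ord7 = ord7 ^ (k + 1) * c)
    (fun c ⟨hc, k, hk, h⟩ => by
      obtain ⟨t, ht, r⟩ := norm7_complete hc hk h
      refine ⟨t, List.mem_flatten.mpr ⟨_, ?_, ht⟩, r⟩
      rw [List.getD_eq_getElem _ _ (norm7_static.2.1.symm ▸ hk)]
      exact List.getElem_mem _)
    (fun t ht => by
      obtain ⟨k, hk, htk⟩ := norm7_mem_getD ht
      obtain ⟨c, hc, r, h, -⟩ := norm7_member hk htk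
      exact ⟨c, ⟨hc, k, hk, h⟩, r⟩)
  rw [← norm7_static.2.2.2.2.1, ← h]
  exact Nat.card_congr
    { toFun := fun c => ⟨c.1.1, c.1.2, (mem_normalizer_seven c.1).mp c.2⟩
      invFun := fun c => ⟨⟨c.1, c.2.1⟩, (mem_normalizer_seven _).mpr c.2.2⟩
      left_inv := fun _ => rfl
      right_inv := fun _ => rfl }

theorem card_centralizer_seven : Nat.card ↥(Subgroup.centralizer (Subgroup.zpowers seven : Set ↥M24)) = 42 := by
  have hlen : 0 < norm7Tabs.length := by rw [norm7_static.2.1]; norm_num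
  have hnd : (norm7Tabs.getD 0 []).Nodup := by
    refine List.Nodup.sublist (List.sublist_flatten_of_mem ?_) norm7_static.2.2.2.1
    rw [List.getD_eq_getElem _ _ hlen]
    exact List.getElem_mem _
  have h := card_tabs hnd (fun t ht => norm7_pack (by norm_num) ht)
    (P := fun c => c ∈ M24 ∧ c * ord7 = ord7 ^ (0 + 1) * c)
    (fun c ⟨hc, h⟩ => norm7_complete hc (by norm_num) h)
    (fun t ht => by
      obtain ⟨c, hc, r, h, -⟩ := norm7_member (k := 0) (by norm_num) ht
      exact ⟨c, ⟨hc, h⟩, r⟩)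
  rw [← norm7_static.2.2.2.2.2.1, ← h]
  exact Nat.card_congr
    { toFun := fun c => ⟨c.1.1, c.1.2, (mem_centralizer_seven c.1).mp c.2⟩
      invFun := fun c => ⟨⟨c.1, c.2.1⟩, (mem_centralizer_seven _).mpr c.2.2⟩
      left_inv := fun _ => rfl
      right_inv := fun _ => rfl }

theorem seven_facts : (∃ x ∈ Subgroup.centralizer (Subgroup.zpowers seven : Set ↥M24),
      ∃ y ∈ Subgroup.centralizer (Subgroup.zpowers seven : Set ↥M24), x * y ≠ y * x) ∧
    ∃ T ∈ trios, ∀ n ∈ Subgroup.normalizer (Subgroup.zpowers seven : Set ↥M24),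
      ((n : ↥M24) : Equiv.Perm GolayPt) • T = T := by
  obtain ⟨-, -, -, -, -, -, hT, h1, h2, hne⟩ := norm7_static
  constructor
  · obtain ⟨x, hx, rx, hxc, -⟩ := norm7_member (k := 0) (by norm_num) (List.contains_iff_mem.mp h1)
    obtain ⟨y, hy, ry, hyc, -⟩ := norm7_member (k := 0) (by norm_num) (List.contains_iff_mem.mp h2)
    refine ⟨⟨x, hx⟩, (mem_centralizer_seven _).mpr hxc, ⟨y, hy⟩, (mem_centralizer_seven _).mpr hyc, fun e => ?_⟩
    rw [← Bool.not_eq_true, allBelow_iff] at hne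
    refine hne fun i hi => beq_iff_eq.mpr ?_
    have e' : x * y = y * x := congrArg Subtype.val e
    obtain ⟨p, rfl⟩ : ∃ p, (enc p).val = i := ⟨enc.symm ⟨i, hi⟩, by rw [Equiv.apply_symm_apply]⟩
    rw [ry p, rx (y p), rx p, ry (x p)]
    exact congrArg (fun g => (enc (g p)).val) e'
  · refine ⟨famSet norm7Trio, trios_eq_image ▸ ⟨_, List.contains_iff_mem.mp hT, rfl⟩, fun n hn => ?_⟩
    obtain ⟨k, hk, h⟩ := (mem_normalizer_seven n).mp hn
    obtain ⟨t, ht, r⟩ := norm7_complete n.2 hk h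
    obtain ⟨c, hc, rc, -, hfix⟩ := norm7_member hk ht
    rwa [rep_unique r rc]

theorem exists_conj_seven {S : Subgroup ↥M24} (hS : Nat.card S = 7) :
    ∃ h : ↥M24, S = (Subgroup.zpowers seven).map (MulAut.conj h).toMonoidHom := by
  have : Fact (Nat.Prime 7) := ⟨by norm_num⟩
  obtain ⟨⟨g, hgS⟩, hg⟩ := exists_prime_orderOf_dvd_card' (G := S) 7 (dvd_of_eq hS.symm)
  have hg' : orderOf g = 7 := by rw [← hg, ← Subgroup.orderOf_coe ⟨g, hgS⟩]
  have hgen : Subgroup.zpowers g = S :=
    Subgroup.eq_of_le_of_card_ge (Subgroup.zpowers_le.mpr hgS) (by rw [hS, Nat.card_zpowers, hg'])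
  rcases order7_classes g.2 (by rw [Subgroup.orderOf_coe]; exact hg') with ⟨h, hh, e⟩ | ⟨h, hh, e⟩
  · refine ⟨⟨h, hh⟩, ?_⟩
    rw [MonoidHom.map_zpowers, ← hgen]
    congr 1
    exact Subtype.ext e.symm
  · refine ⟨⟨h, hh⟩, ?_⟩
    rw [MonoidHom.map_zpowers, ← hgen, ← Subgroup.zpowers_inv]
    congr 1
    refine Subtype.ext ?_
    show (g : Equiv.Perm GolayPt)⁻¹ = h * ord7 * h⁻¹
    rw [← e]; group

theorem normalizer_order_seven {S : Subgroup ↥M24} (hS : Nat.card S = 7) :
    Nat.card ↥(Subgroup.normalizer (S : Set ↥M24)) = 126 ∧ Nat.card ↥(Subgroup.centralizer (S : Set ↥M24)) = 42 ∧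
    (∃ x ∈ Subgroup.centralizer (S : Set ↥M24), ∃ y ∈ Subgroup.centralizer (S : Set ↥M24), x * y ≠ y * x) ∧
    ∃ T ∈ trios, ∀ n ∈ Subgroup.normalizer (S : Set ↥M24), ((n : ↥M24) : Equiv.Perm GolayPt) • T = T := by
  obtain ⟨h, rfl⟩ := exists_conj_seven hS
  set Z := Subgroup.zpowers seven
  set e := MulAut.conj h
  have hn : ∀ x, x ∈ Subgroup.normalizer (Z : Set ↥M24) ↔
      e x ∈ Subgroup.normalizer ((Z.map e.toMonoidHom : Subgroup ↥M24) : Set ↥M24) := by
    intro x
    rw [← Subgroup.map_equiv_normalizer_eq Z e]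
    exact (Subgroup.mem_map_iff_mem (f := e.toMonoidHom) e.injective).symm
  have hc : ∀ x, x ∈ Subgroup.centralizer (Z : Set ↥M24) ↔
      e x ∈ Subgroup.centralizer ((Z.map e.toMonoidHom : Subgroup ↥M24) : Set ↥M24) := by
    intro x
    simp only [Subgroup.mem_centralizer_iff, SetLike.mem_coe, Subgroup.mem_map]
    constructor
    · rintro hx _ ⟨z, hz, rfl⟩
      show e z * e x = e x * e z
      rw [← map_mul, ← map_mul, hx z hz]
    · intro hx z hz
      apply e.injective
      rw [map_mul, map_mul]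
      exact hx (e z) ⟨z, hz, rfl⟩
  obtain ⟨⟨x, hx, y, hy, hxy⟩, T, hT, hfix⟩ := seven_facts
  refine ⟨?_, ?_, ⟨e x, (hc x).mp hx, e y, (hc y).mp hy, fun h => hxy (e.injective (by rw [map_mul, map_mul, h]))⟩,
    (h : Equiv.Perm GolayPt) • T, smul_mem_trios h.2 hT, fun n hnm => ?_⟩
  · rw [← card_normalizer_seven]
    exact (Nat.card_congr (e.toEquiv.subtypeEquiv hn)).symm
  · rw [← card_centralizer_seven]
    exact (Nat.card_congr (e.toEquiv.subtypeEquiv hc)).symm
  · obtain ⟨m, rfl⟩ := e.surjective n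
    have := hfix m ((hn m).mpr hnm)
    show ((h : Equiv.Perm GolayPt) * m * (h : Equiv.Perm GolayPt)⁻¹) • (h : Equiv.Perm GolayPt) • T = _
    rw [mul_smul, mul_smul, inv_smul_smul, this]

end CfsgLib.M24Classes
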