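import Cfsg.Agent.M24Classes.OrbitHelpers
import Cfsg.Agent.M24Classes.AtBaseOctad
import Cfsg.Agent.M24Classes.AtBaseOctadTrios
import Cfsg.Agent.M24Centralizer.Translations

/-!
The fifteen trios through an octad: double transitivity and the kernel.
-/

set_option autoImplicit false

namespace CfsgLib.M24Classes

open Cfsg CfsgLib.Mathieu
open scoped Pointwise

/-- Membership of a set in a family, as a number. -/
def memInd (T : Finset (Finset GolayPt)) (o : Finset GolayPt) : ℕ := if o ∈ T then 1 else 0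

/-- Membership, excluding one family. -/
def memIndOther (T : Finset (Finset GolayPt)) (x : Finset GolayPt × Finset (Finset GolayPt)) : ℕ :=
  if x.1 ∈ T ∧ T ≠ x.2 then 1 else 0

theorem memInd_smul : ∀ σ ∈ M24, ∀ T o, memInd (σ • T) (σ • o) = memInd T o := fun σ _ T o => by
  simp only [memInd, Finset.smul_mem_smul_finset_iff]

theorem memIndOther_smul : ∀ σ ∈ M24, ∀ T x, memIndOther (σ • T) (σ • x) = memIndOther T x := fun σ _ T x => by
  simp only [memIndOther, Prod.smul_fst, Prod.smul_snd, Finset.smul_mem_smul_finset_iff, ne_eq, smul_left_cancel_iff]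

theorem mem_famSet_mask {l : List ℕ} (hl : ∀ M ∈ l, M < 2 ^ 24) {O : ℕ} (hO : O < 2 ^ 24) :
    setOf24 O ∈ famSet l ↔ O ∈ l := by
  rw [mem_famSet]
  exact ⟨fun ⟨M, hM, e⟩ => setOf24_inj (hl M hM) hO e ▸ hM, fun h => ⟨O, h, rfl⟩⟩

theorem baseTrio_checks : (baseOctadTrioTabs.all isM24Tab = true ∧
    (baseOctadTrioTabs.zip baseOctadTrioBytes).all (fun p => bytesOK p.1 p.2) = true ∧
    baseOctadTrioTabs.length = baseOctadTrioBytes.length ∧
    baseOctadTrioTabs.all (fun t => push t 24 m24BaseOctad == m24BaseOctad && fixesFam t baseTrio) = true) ∧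
    (baseOctadTabs.all isM24Tab = true ∧
    (baseOctadTabs.zip baseOctadBytes).all (fun p => bytesOK p.1 p.2) = true ∧
    baseOctadTabs.length = baseOctadBytes.length ∧
    baseOctadTabs.all (fun t => push t 24 m24BaseOctad == m24BaseOctad) = true) ∧
    m24BaseOctad < 2 ^ 24 ∧ baseTrio.contains m24BaseOctad = true ∧ trioList.contains baseTrio = true ∧
    (isCode m24BaseOctad = true ∧ wt m24BaseOctad = 8) := by decide +kernel

theorem baseTrio_class_checks :
    classOK baseOctadBytes trioA 1048573 trioList (fun l => if l.contains m24BaseOctad then 1 else 0)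
      baseTrio baseTriosTree 1 15 = true ∧
    classOK baseOctadTrioBytes trioA 1048573 trioList
      (fun l => if l.contains m24BaseOctad && !(l == baseTrio) then 1 else 0)
      baseTrioOther baseTrioTree 1 14 = true := by decide +kernel

theorem exists_base_octad {o : Finset GolayPt} (ho : o ∈ octads) : ∃ a ∈ M24, a • setOf24 m24BaseOctad = o :=
  M24_octad_transitive (setOf24_mem_wordsOfWeight baseTrio_checks.2.2.2.2.2.1 baseTrio_checks.2.2.2.2.2.2) ho

theorem octad_trios_orbit {o : Finset GolayPt} (ho : o ∈ octads) {T : Finset (Finset GolayPt)}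
    (hT : T ∈ trios) (hoT : o ∈ T) :
    MulAction.orbit ↥(MulAction.stabilizer M24 o) T = {T' | T' ∈ trios ∧ o ∈ T'} ∧
      {T' : Finset (Finset GolayPt) | T' ∈ trios ∧ o ∈ T'}.ncard = 15 := by
  obtain ⟨a, ha, hao⟩ := exists_base_octad ho
  obtain ⟨-, ⟨h1, h2, h3, h4⟩, hlt, -, -, -⟩ := baseTrio_checks
  obtain ⟨X, -, hc, he⟩ := orbit_class trioListed memInd memInd_smul (x₀ := setOf24 m24BaseOctad)
    (IL := fun l => if l.contains m24BaseOctad then 1 else 0)
    (fun l hl b e => by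
      obtain rfl : b = famSet l := e
      simp only [memInd, List.contains_iff_mem, mem_famSet_mask (trioList_lt l hl) hlt])
    (gensOK_set hlt h1 h2 h3 h4) baseTrio_class_checks.1 ha hao
  have e : {b | b ∈ trios ∧ memInd b o = 1} = {T' | T' ∈ trios ∧ o ∈ T'} := by
    ext b; simp [memInd]
  rw [e] at he
  refine ⟨?_, by rw [← he, hc]⟩
  rw [MulAction.orbit_eq_iff.mpr (show T ∈ MulAction.orbit ↥(MulAction.stabilizer M24 o) X by
    rw [he]; exact ⟨hT, hoT⟩), he]

/-- An element taking the base octad and base trio to a given incident pair. -/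
theorem exists_base_pair {o : Finset GolayPt} (ho : o ∈ octads) {T : Finset (Finset GolayPt)}
    (hT : T ∈ trios) (hoT : o ∈ T) :
    ∃ σ ∈ M24, σ • setOf24 m24BaseOctad = o ∧ σ • famSet baseTrio = T := by
  obtain ⟨a, ha, hao⟩ := exists_base_octad ho
  obtain ⟨-, -, -, hc, hl, -⟩ := baseTrio_checks
  have hb : famSet baseTrio ∈ trios :=
    trios_eq_image ▸ ⟨baseTrio, List.contains_iff_mem.mp hl, rfl⟩
  have h0 : setOf24 m24BaseOctad ∈ famSet baseTrio := mem_famSet.mpr ⟨_, List.contains_iff_mem.mp hc, rfl⟩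
  have hoT0 : o ∈ a • famSet baseTrio := hao ▸ Finset.smul_mem_smul_finset h0
  obtain ⟨⟨⟨h, hh⟩, hho⟩, hhT⟩ : T ∈ MulAction.orbit ↥(MulAction.stabilizer M24 o) (a • famSet baseTrio) :=
    (octad_trios_orbit ho (smul_mem_trios ha hb) hoT0).1.symm ▸ ⟨hT, hoT⟩
  exact ⟨h * a, mul_mem hh ha, by rw [mul_smul, hao]; exact hho, by rw [mul_smul]; exact hhT⟩

theorem octad_trios_doubly {o : Finset GolayPt} (ho : o ∈ octads) {T₁ T₂ T₁' T₂' : Finset (Finset GolayPt)}
    (h₁ : T₁ ∈ trios) (h₂ : T₂ ∈ trios) (h₁' : T₁' ∈ trios) (h₂' : T₂' ∈ trios) (o₁ : o ∈ T₁) (o₂ : o ∈ T₂)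
    (o₁' : o ∈ T₁') (o₂' : o ∈ T₂') (hne : T₁ ≠ T₂) (hne' : T₁' ≠ T₂') :
    ∃ g ∈ M24, g • o = o ∧ g • T₁ = T₁' ∧ g • T₂ = T₂' := by
  obtain ⟨⟨⟨g₁, hg₁⟩, hg₁o⟩, hg₁T⟩ : T₁' ∈ MulAction.orbit ↥(MulAction.stabilizer M24 o) T₁ :=
    (octad_trios_orbit ho h₁ o₁).1.symm ▸ ⟨h₁', o₁'⟩
  change g₁ • o = o at hg₁o
  change g₁ • T₁ = T₁' at hg₁T
  obtain ⟨σ, hσ, hσo, hσT⟩ := exists_base_pair ho h₁' o₁'
  obtain ⟨⟨t1, t2, t3, t4⟩, -, hlt, -, hl, -⟩ := baseTrio_checks
  have hl' := List.contains_iff_mem.mp hl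
  have hgens : GensOK (M24 ⊓ MulAction.stabilizer (Equiv.Perm GolayPt)
      (setOf24 m24BaseOctad, famSet baseTrio)) baseOctadTrioBytes :=
    gensOK_inf _ baseOctadTrioTabs baseOctadTrioBytes t1 t2 t3 fun t ht τ hτ => by
      obtain ⟨e1, e2⟩ := Bool.and_eq_true_iff.mp (List.all_eq_true.mp t4 t ht)
      rw [Prod.smul_mk, smul_setOf24 hτ, beq_iff_eq.mp e1, (smul_famSet_iff hτ (trioList_lt _ hl')).mpr e2]
  obtain ⟨X, -, -, he⟩ := orbit_class trioListed memIndOther memIndOther_smul
    (x₀ := (setOf24 m24BaseOctad, famSet baseTrio))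
    (IL := fun l => if l.contains m24BaseOctad && !(l == baseTrio) then 1 else 0)
    (fun l hl b e => by
      obtain rfl : b = famSet l := e
      simp only [memIndOther, Bool.and_eq_true, List.contains_iff_mem, Bool.not_eq_true', beq_eq_false_iff_ne,
        mem_famSet_mask (trioList_lt l hl) hlt, ne_eq, (trioList_injOn.eq_iff hl hl')])
    hgens baseTrio_class_checks.2 hσ (x := (o, T₁')) (by rw [Prod.smul_mk, hσo, hσT])
  have mem : ∀ T, T ∈ trios → o ∈ T → T ≠ T₁' → T ∈ MulAction.orbit ↥(MulAction.stabilizer M24 (o, T₁')) X := by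
    intro T hT hoT hn
    rw [he]
    exact ⟨hT, if_pos ⟨hoT, hn⟩⟩
  have hn2 : g₁ • T₂ ≠ T₁' := fun e => hne (MulAction.injective g₁ (hg₁T.trans e.symm))
  have ho2 : o ∈ g₁ • T₂ := hg₁o ▸ Finset.smul_mem_smul_finset o₂
  have hA := MulAction.orbit_eq_iff.mpr (mem _ (smul_mem_trios hg₁ h₂) ho2 hn2)
  obtain ⟨⟨⟨k, hk⟩, hkx⟩, hkT⟩ : T₂' ∈ MulAction.orbit ↥(MulAction.stabilizer M24 (o, T₁')) (g₁ • T₂) :=
    hA ▸ mem _ h₂' o₂' (Ne.symm hne')
  change k • (o, T₁') = (o, T₁') at hkx
  change k • g₁ • T₂ = T₂' at hkT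
  rw [Prod.smul_mk, Prod.mk.injEq] at hkx
  exact ⟨k * g₁, mul_mem hk hg₁, by rw [mul_smul, hg₁o, hkx.1], by rw [mul_smul, hg₁T, hkx.2],
    by rw [mul_smul, hkT]⟩

/-! ### The kernel -/

/-- The trios through the base octad, as lists. -/
def baseTrios : List (List ℕ) := trioList.filter fun l => l.contains m24BaseOctad

theorem kernel_checks :
    (∀ v : Fin 16, baseTrios.all (fun l => fixesFam (M24Centralizer.tb v) l) = true) ∧
    baseTrios.all (fun l => (l.filter fun M => M.testBit (idx M24Centralizer.p0)).length == 1) = true ∧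
    allBelow 24 (fun q => m24BaseOctad.testBit q || allBelow 24 fun r => m24BaseOctad.testBit r || q == r ||
      baseTrios.any fun l => (l.filter fun M => M.testBit (idx M24Centralizer.p0)).any fun M =>
        M.testBit q != M.testBit r) = true := by decide +kernel

theorem base_kernel {g : Equiv.Perm GolayPt} (hg : g ∈ M24) (ho : g • setOf24 m24BaseOctad = setOf24 m24BaseOctad) :
    (∀ T ∈ trios, setOf24 m24BaseOctad ∈ T → g • T = T) ↔ ∀ p ∈ setOf24 m24BaseOctad, g p = p := by
  have hlt := baseTrio_checks.2.2.1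
  obtain ⟨hfix, hone, hsep⟩ := kernel_checks
  constructor
  · intro hT
    have hmemO : ∀ p, g p ∈ setOf24 m24BaseOctad ↔ p ∈ setOf24 m24BaseOctad := fun p => by
      conv_lhs => rw [← ho, smul_set_eq_image]
      exact g.injective.mem_finset_image
    obtain ⟨v, hv⟩ := M24Centralizer.exists_T (p := g M24Centralizer.p0)
      (fun h => M24Centralizer.p0_notMem ((hmemO _).mp h))
    set τ := M24Centralizer.T v
    have hτ := M24Centralizer.rep_T v
    set k := τ⁻¹ * g with hk
    have hkm : k ∈ M24 := mul_mem (inv_mem (M24Centralizer.T_mem v)) hg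
    have hk0 : k M24Centralizer.p0 = M24Centralizer.p0 := by
      rw [hk, Equiv.Perm.mul_apply, ← hv, perm_inv_apply]
    have hfixT : ∀ l ∈ baseTrios, ∀ M ∈ l, M.testBit (idx M24Centralizer.p0) = true →
        k • setOf24 M = setOf24 M := by
      intro l hl M hM hMp
      obtain ⟨hl', hlO⟩ := List.mem_filter.mp hl
      have hT' : famSet l ∈ trios := trios_eq_image ▸ ⟨l, hl', rfl⟩
      have hkl : k • famSet l = famSet l := by
        rw [hk, mul_smul, hT _ hT' (mem_famSet.mpr ⟨_, List.contains_iff_mem.mp hlO, rfl⟩), inv_smul_eq_iff,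
          (smul_famSet_iff hτ (trioList_lt l hl')).mpr (List.all_eq_true.mp (hfix v) l hl)]
      have : k • setOf24 M ∈ famSet l := hkl ▸ Finset.smul_mem_smul_finset (mem_famSet.mpr ⟨M, hM, rfl⟩)
      obtain ⟨N, hN, e⟩ := mem_famSet.mp this
      have hNp : N.testBit (idx M24Centralizer.p0) = true := by
        rw [← mem_setOf24, e, ← hk0, smul_set_eq_image]
        exact Finset.mem_image_of_mem k (mem_setOf24.mpr hMp)
      have hlen := List.all_eq_true.mp hone l hl
      rw [beq_iff_eq, List.length_eq_one_iff] at hlen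
      obtain ⟨A, hA⟩ := hlen
      have h1 : M ∈ [A] := hA ▸ List.mem_filter.mpr ⟨hM, hMp⟩
      have h2 : N ∈ [A] := hA ▸ List.mem_filter.mpr ⟨hN, hNp⟩
      rw [← e, List.mem_singleton.mp h1, List.mem_singleton.mp h2]
    have hkO : k • setOf24 m24BaseOctad = setOf24 m24BaseOctad := by
      rw [hk, mul_smul, ho, inv_smul_eq_iff, smul_set_eq_image]
      refine (Finset.image_congr fun p hp => M24Centralizer.T_fix_oct v hp).trans Finset.image_id |>.symm
    have hk1 : k = 1 := M24Centralizer.eq_one_of_fix_compl hkm fun p hp => by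
      have hq : k p ∉ setOf24 m24BaseOctad := fun h => hp (by
        rw [← hkO, smul_set_eq_image] at h
        exact k.injective.mem_finset_image.mp h)
      rw [allBelow_iff] at hsep
      have h1 := hsep (idx p) (idx_lt p)
      rw [Bool.or_eq_true, allBelow_iff] at h1
      rcases h1 with h1 | h1
      · exact absurd (mem_setOf24.mpr h1) hp
      have h2 := h1 (idx (k p)) (idx_lt _)
      simp only [Bool.or_eq_true, beq_iff_eq, List.any_eq_true, bne_iff_ne] at h2
      rcases h2 with (h2 | h2) | ⟨l, hl, M, hM, hne⟩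
      · exact absurd (mem_setOf24.mpr h2) hq
      · exact (idx_injective h2).symm
      · obtain ⟨hMl, hMp⟩ := List.mem_filter.mp hM
        refine absurd ?_ hne
        rw [Bool.eq_iff_iff, ← mem_setOf24, ← mem_setOf24]
        conv_rhs => rw [← hfixT l hl M hMl hMp, smul_set_eq_image]
        exact k.injective.mem_finset_image.symm
    intro p hp
    rw [show g = τ by rw [← mul_inv_cancel_left τ g, ← hk, hk1, mul_one]]
    exact M24Centralizer.T_fix_oct v hp
  · intro hp T hT hOT
    obtain ⟨v, rfl⟩ := M24Centralizer.eq_T_of_fix hg hp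
    obtain ⟨l, hl, rfl⟩ := trios_eq_image ▸ hT
    refine (smul_famSet_iff (M24Centralizer.rep_T v) (trioList_lt l hl)).mpr (List.all_eq_true.mp (hfix v) l ?_)
    exact List.mem_filter.mpr ⟨hl, List.contains_iff_mem.mpr ((mem_famSet_mask (trioList_lt l hl) hlt).mp hOT)⟩

theorem octad_trios_kernel {o : Finset GolayPt} (ho : o ∈ octads) {g : Equiv.Perm GolayPt} (hg : g ∈ M24)
    (hgo : g • o = o) : (∀ T ∈ trios, o ∈ T → g • T = T) ↔ ∀ p ∈ o, g p = p := by
  obtain ⟨a, ha, rfl⟩ := exists_base_octad ho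
  have key := base_kernel (g := a⁻¹ * g * a) (mul_mem (mul_mem (inv_mem ha) hg) ha)
    (by rw [mul_smul, mul_smul, hgo, inv_smul_smul])
  constructor
  · intro h p hp
    have h' := key.mp (fun T hT hOT => by
      rw [mul_smul, mul_smul, h _ (smul_mem_trios ha hT) (Finset.smul_mem_smul_finset hOT), inv_smul_smul])
    obtain ⟨q, hq, rfl⟩ := Finset.mem_smul_finset.mp hp
    have := h' q hq
    rwa [Equiv.Perm.mul_apply, Equiv.Perm.mul_apply, Equiv.Perm.inv_eq_iff_eq] at this
  · intro h T hT hoT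
    have h' := key.mpr (fun q hq => by
      rw [Equiv.Perm.mul_apply, Equiv.Perm.mul_apply, Equiv.Perm.inv_eq_iff_eq]
      exact h _ (Finset.smul_mem_smul_finset hq)) (a⁻¹ • T) (smul_mem_trios (inv_mem ha) hT) (by
      rw [← Finset.smul_mem_smul_finset_iff a, smul_inv_smul]; exact hoT)
    rw [mul_smul, mul_smul, smul_inv_smul] at h'
    exact MulAction.injective a⁻¹ h'

end CfsgLib.M24Classes
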