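import Cfsg.Agent.M24Classes.OrbitTree

/-!
Orbits of configuration stabilisers in `Cfsg.M24` as the classes of an invariant.
-/

set_option autoImplicit false

namespace CfsgLib.M24Classes

open Cfsg CfsgLib.Mathieu
open scoped Pointwise

/-- A set of configurations completely listed by families of masks. -/
structure Listed {β : Type} [MulAction (Equiv.Perm GolayPt) β] (S : Set β)
    (Ψ : β → Finset (Finset GolayPt)) (L : List (List ℕ)) (A P : ℕ) : Prop where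
  inj : Function.Injective Ψ
  equiv : ∀ (σ : Equiv.Perm GolayPt) (b : β), Ψ (σ • b) = σ • Ψ b
  eq_image : Ψ '' S = famSet '' {l | l ∈ L}
  closed : ∀ σ ∈ M24, ∀ b ∈ S, σ • b ∈ S
  lt : ∀ l ∈ L, ∀ M ∈ l, M < 2 ^ 24
  nodup : ∀ l ∈ L, l.Nodup
  fresh : freshKeys (famKey A P) L 0 = true
  distinct : L.Nodup

theorem InjOn_famSet_of_fresh {L : List (List ℕ)} {A P : ℕ} (h : freshKeys (famKey A P) L 0 = true)
    (hlt : ∀ l ∈ L, ∀ M ∈ l, M < 2 ^ 24) (hnd : ∀ l ∈ L, l.Nodup) :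
    Set.InjOn famSet {l | l ∈ L} := fun a ha b hb e =>
  (freshKeys_spec h).2 a ha b hb (famKey_eq_of_famSet (hlt a ha) (hlt b hb) (hnd a ha) (hnd b hb) e)

variable {α β : Type} [MulAction (Equiv.Perm GolayPt) α] [MulAction (Equiv.Perm GolayPt) β]

/-- Check for one class: the root is listed, has the value, all are reached, and there are `n`. -/
def classOK (gens : List (List ℕ)) (A P : ℕ) (L : List (List ℕ)) (IL : List ℕ → ℕ) (r : List ℕ)
    (t : OTree) (v n : ℕ) : Bool :=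
  L.contains r && IL r == v && coversClass (reached gens (famKey A P) r t) (famKey A P) (fun l => IL l == v) L &&
    (L.filter fun l => IL l == v).length == n

/-- The orbit of a class representative. -/
theorem orbit_class {S : Set β} {Ψ : β → Finset (Finset GolayPt)} {L : List (List ℕ)} {A P : ℕ}
    (hS : Listed S Ψ L A P) (I : β → α → ℕ)
    (hI : ∀ σ ∈ M24, ∀ b a, I (σ • b) (σ • a) = I b a) {x₀ : α} {IL : List ℕ → ℕ}
    (hIL : ∀ l ∈ L, ∀ b, Ψ b = famSet l → I b x₀ = IL l)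
    {gens : List (List ℕ)} (hg : GensOK (M24 ⊓ MulAction.stabilizer (Equiv.Perm GolayPt) x₀) gens)
    {r : List ℕ} {t : OTree} {v n : ℕ} (hc : classOK gens A P L IL r t v n = true)
    {σ : Equiv.Perm GolayPt} (hσ : σ ∈ M24) {x : α} (hx : σ • x₀ = x) :
    ∃ X ∈ S, (MulAction.orbit ↥(MulAction.stabilizer M24 x) X).ncard = n ∧
      MulAction.orbit ↥(MulAction.stabilizer M24 x) X = {b | b ∈ S ∧ I b x = v} := by
  simp only [classOK, Bool.and_eq_true, List.contains_iff_mem, beq_iff_eq] at hc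
  obtain ⟨⟨⟨hr, hrv⟩, hcov⟩, hn⟩ := hc
  have hmem : ∀ l ∈ L, ∃ b ∈ S, Ψ b = famSet l := fun l hl => by
    have : famSet l ∈ Ψ '' S := hS.eq_image ▸ ⟨l, hl, rfl⟩
    exact this
  have hlist : ∀ b ∈ S, ∃ l ∈ L, Ψ b = famSet l := fun b hb => by
    have : Ψ b ∈ famSet '' {l | l ∈ L} := hS.eq_image ▸ Set.mem_image_of_mem Ψ hb
    obtain ⟨l, hl, e⟩ := this
    exact ⟨l, hl, e.symm⟩
  obtain ⟨X₀, hX₀, hX₀e⟩ := hmem r hr
  refine ⟨σ • X₀, hS.closed σ hσ X₀ hX₀, ?_⟩
  have hclosed : ∀ τ ∈ M24 ⊓ MulAction.stabilizer (Equiv.Perm GolayPt) x₀, ∀ l ∈ L,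
      ∃ l' ∈ L, τ • famSet l = famSet l' := by
    intro τ hτ l hl
    obtain ⟨b, hb, e⟩ := hmem l hl
    obtain ⟨l', hl', e'⟩ := hlist _ (hS.closed τ hτ.1 b hb)
    exact ⟨l', hl', by rw [← e, ← hS.equiv, e']⟩
  have horb : MulAction.orbit ↥(MulAction.stabilizer M24 x) (σ • X₀) = {b | b ∈ S ∧ I b x = v} := by
    ext b
    constructor
    · rintro ⟨⟨⟨g, hg⟩, hgx⟩, rfl⟩
      have hgx' : g • x = x := hgx
      refine ⟨hS.closed g hg _ (hS.closed σ hσ X₀ hX₀), ?_⟩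
      show I (g • σ • X₀) x = v
      rw [← hgx', hI g hg, ← hx, hI σ hσ, hIL r hr X₀ hX₀e, hrv]
    · rintro ⟨hb, hbv⟩
      have hb' := hS.closed σ⁻¹ (inv_mem hσ) b hb
      obtain ⟨l, hl, hle⟩ := hlist _ hb'
      have hlv : IL l = v := by
        rw [← hIL l hl _ hle, ← hI σ hσ, smul_inv_smul, hx, hbv]
      obtain ⟨τ, hτ, hτe⟩ := moves_of_tree hg hS.lt hS.nodup hclosed (freshKeys_spec hS.fresh).2 hr t
        (pred := fun l => IL l == v) hcov l hl (by simpa using hlv)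
      have hτb : τ • X₀ = σ⁻¹ • b := hS.inj (by rw [hS.equiv, hX₀e, hτe, hle])
      refine ⟨⟨⟨σ * τ * σ⁻¹, mul_mem (mul_mem hσ hτ.1) (inv_mem hσ)⟩, ?_⟩, ?_⟩
      · show (σ * τ * σ⁻¹) • x = x
        rw [← hx, ← mul_smul, inv_mul_cancel_right, mul_smul, show τ • x₀ = x₀ from hτ.2]
      · show (σ * τ * σ⁻¹) • σ • X₀ = b
        rw [← mul_smul, inv_mul_cancel_right, mul_smul, hτb, smul_inv_smul]
  refine ⟨?_, horb⟩
  rw [horb]
  have hbij : {b | b ∈ S ∧ I b x = v} = (fun b => σ • b) '' {b | b ∈ S ∧ I b x₀ = v} := by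
    ext b
    simp only [Set.mem_image, Set.mem_ofPred_eq]
    constructor
    · rintro ⟨hb, hbv⟩
      refine ⟨σ⁻¹ • b, ⟨hS.closed _ (inv_mem hσ) b hb, ?_⟩, smul_inv_smul σ b⟩
      rw [← hI σ hσ, smul_inv_smul, hx, hbv]
    · rintro ⟨c, ⟨hc, hcv⟩, rfl⟩
      exact ⟨hS.closed σ hσ c hc, by rw [← hx, hI σ hσ, hcv]⟩
  rw [hbij, Set.ncard_image_of_injective _ (MulAction.injective σ), ← Set.ncard_image_of_injective _ hS.inj]
  have himg : Ψ '' {b | b ∈ S ∧ I b x₀ = v} = famSet '' {l | l ∈ L.filter fun l => IL l == v} := by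
    ext F
    simp only [Set.mem_image, Set.mem_ofPred_eq, List.mem_filter, beq_iff_eq]
    constructor
    · rintro ⟨b, ⟨hb, hbv⟩, rfl⟩
      obtain ⟨l, hl, e⟩ := hlist b hb
      exact ⟨l, ⟨hl, (hIL l hl b e).symm.trans hbv⟩, e.symm⟩
    · rintro ⟨l, ⟨hl, hlv⟩, rfl⟩
      obtain ⟨b, hb, e⟩ := hmem l hl
      exact ⟨b, ⟨hb, (hIL l hl b e).trans hlv⟩, e⟩
  rw [himg, Set.InjOn.ncard_image (s := {l | l ∈ L.filter fun l => IL l == v}) (fun a ha b hb e =>
      InjOn_famSet_of_fresh hS.fresh hS.lt hS.nodup (List.mem_filter.mp ha).1 (List.mem_filter.mp hb).1 e),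
    show {l | l ∈ L.filter fun l => IL l == v} = ↑(L.filter fun l => IL l == v).toFinset from
      (List.coe_toFinset _).symm,
    Set.ncard_coe_finset, List.toFinset_card_of_nodup (hS.distinct.filter _), hn]

/-- Every member has one of the listed values. -/
theorem class_cover {S : Set β} {Ψ : β → Finset (Finset GolayPt)} {L : List (List ℕ)} {A P : ℕ}
    (hS : Listed S Ψ L A P) (I : β → α → ℕ)
    (hI : ∀ σ ∈ M24, ∀ b a, I (σ • b) (σ • a) = I b a) {x₀ : α} {IL : List ℕ → ℕ}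
    (hIL : ∀ l ∈ L, ∀ b, Ψ b = famSet l → I b x₀ = IL l) {vs : List ℕ}
    (hall : L.all (fun l => vs.contains (IL l)) = true)
    {σ : Equiv.Perm GolayPt} (hσ : σ ∈ M24) {x : α} (hx : σ • x₀ = x) :
    ∀ b ∈ S, I b x ∈ vs := by
  intro b hb
  have : Ψ (σ⁻¹ • b) ∈ famSet '' {l | l ∈ L} :=
    hS.eq_image ▸ Set.mem_image_of_mem Ψ (hS.closed _ (inv_mem hσ) b hb)
  obtain ⟨l, hl, e⟩ := this
  have h1 := List.contains_iff_mem.mp (List.all_eq_true.mp hall l hl)
  rwa [← hIL l hl _ e.symm, ← hI σ hσ, smul_inv_smul, hx] at h1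

theorem union3 {γ : Type} {S O₁ O₂ O₃ : Set γ} (I : γ → ℕ) {a b c : ℕ}
    (h1 : O₁ = {z | z ∈ S ∧ I z = a}) (h2 : O₂ = {z | z ∈ S ∧ I z = b})
    (h3 : O₃ = {z | z ∈ S ∧ I z = c}) (hall : ∀ z ∈ S, I z ∈ [a, b, c]) : S = O₁ ∪ O₂ ∪ O₃ := by
  subst h1 h2 h3
  ext z
  simp only [Set.mem_union, Set.mem_ofPred_eq]
  constructor
  · intro hz
    have := hall z hz
    simp only [List.mem_cons, List.not_mem_nil, or_false] at this
    rcases this with h | h | h
    · exact Or.inl (Or.inl ⟨hz, h⟩)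
    · exact Or.inl (Or.inr ⟨hz, h⟩)
    · exact Or.inr ⟨hz, h⟩
  · rintro ((h | h) | h) <;> exact h.1

theorem union4 {γ : Type} {S O₁ O₂ O₃ O₄ : Set γ} (I : γ → ℕ) {a b c d : ℕ}
    (h1 : O₁ = {z | z ∈ S ∧ I z = a}) (h2 : O₂ = {z | z ∈ S ∧ I z = b})
    (h3 : O₃ = {z | z ∈ S ∧ I z = c}) (h4 : O₄ = {z | z ∈ S ∧ I z = d})
    (hall : ∀ z ∈ S, I z ∈ [a, b, c, d]) : S = O₁ ∪ O₂ ∪ O₃ ∪ O₄ := by
  subst h1 h2 h3 h4
  ext z
  simp only [Set.mem_union, Set.mem_ofPred_eq]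
  constructor
  · intro hz
    have := hall z hz
    simp only [List.mem_cons, List.not_mem_nil, or_false] at this
    rcases this with h | h | h | h
    · exact Or.inl (Or.inl (Or.inl ⟨hz, h⟩))
    · exact Or.inl (Or.inl (Or.inr ⟨hz, h⟩))
    · exact Or.inl (Or.inr ⟨hz, h⟩)
    · exact Or.inr ⟨hz, h⟩
  · rintro (((h | h) | h) | h) <;> exact h.1

/-! ### The invariant from intersection sizes -/

/-- Sum of the squares of the intersection sizes. -/
def famInv (F G : Finset (Finset GolayPt)) : ℕ := ∑ s ∈ F, ∑ t ∈ G, (s ∩ t).card ^ 2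

theorem famInv_smul (σ : Equiv.Perm GolayPt) (F G : Finset (Finset GolayPt)) :
    famInv (σ • F) (σ • G) = famInv F G := by
  have hinj : Function.Injective fun s : Finset GolayPt => σ • s := MulAction.injective σ
  have e : ∀ H : Finset (Finset GolayPt), σ • H = H.image fun s => σ • s := fun _ => rfl
  simp only [famInv, e]
  rw [Finset.sum_image fun a _ b _ h => hinj h]
  refine Finset.sum_congr rfl fun s _ => ?_
  rw [Finset.sum_image fun a _ b _ h => hinj h]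
  refine Finset.sum_congr rfl fun t _ => ?_
  rw [smul_set_eq_image, smul_set_eq_image, ← Finset.image_inter _ _ σ.injective,
    Finset.card_image_of_injective _ σ.injective]

/-- `famInv` on lists of masks. -/
def listInv (x l : List ℕ) : ℕ :=
  (l.map fun M => (x.map fun N => fastWt (M &&& N) ^ 2).sum).sum

theorem famInv_famSet {x l : List ℕ} (hx : ∀ M ∈ x, M < 2 ^ 24) (nx : x.Nodup)
    (hl : ∀ M ∈ l, M < 2 ^ 24) (nl : l.Nodup) : famInv (famSet l) (famSet x) = listInv x l := by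
  have hm : ∀ {y : List ℕ}, (∀ M ∈ y, M < 2 ^ 24) → y.Nodup → (y.map setOf24).Nodup :=
    fun hy ny => ny.map_on fun a ha b hb e => setOf24_inj (hy a ha) (hy b hb) e
  rw [famInv, famSet, famSet, List.sum_toFinset _ (hm hl nl), List.map_map, listInv]
  refine congrArg List.sum (List.map_congr_left fun M _ => ?_)
  simp only [Function.comp_apply]
  rw [List.sum_toFinset _ (hm hx nx), List.map_map]
  refine congrArg List.sum (List.map_congr_left fun N _ => ?_)
  simp only [Function.comp_apply]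
  rw [← setOf24_and, card_setOf24, fastWt_eq]

theorem gensOK_inf {α : Type} [MulAction (Equiv.Perm GolayPt) α] (x : α) (tabs : List ℕ)
    (bytes : List (List ℕ)) (h : tabs.all isM24Tab = true)
    (hb : (tabs.zip bytes).all (fun p => bytesOK p.1 p.2) = true)
    (hlen : tabs.length = bytes.length)
    (hfix : ∀ t ∈ tabs, ∀ σ : Equiv.Perm GolayPt, Rep enc σ t → σ • x = x) :
    GensOK (M24 ⊓ MulAction.stabilizer (Equiv.Perm GolayPt) x) bytes := by
  intro E hE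
  obtain ⟨i, hi, rfl⟩ := List.getElem_of_mem hE
  have hi' : i < tabs.length := hlen ▸ hi
  have hz : (tabs[i], bytes[i]) ∈ tabs.zip bytes := by
    rw [List.mem_iff_getElem]
    exact ⟨i, by simp [hi, hi'], by simp⟩
  obtain ⟨σ, hσ, rσ⟩ := inGroup_of_isM24Tab (List.all_eq_true.mp h _ (List.getElem_mem hi'))
  exact ⟨tabs[i], ⟨σ, ⟨hσ, hfix _ (List.getElem_mem hi') σ rσ⟩, rσ⟩,
    List.all_eq_true.mp hb _ hz⟩

end CfsgLib.M24Classes
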