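import Cfsg.Agent.M24Classes.OrbitLists

/-!
Instances of the orbit-class machinery for configurations given by one set or one family.
-/

set_option autoImplicit false

namespace CfsgLib.M24Classes

open Cfsg CfsgLib.Mathieu
open scoped Pointwise

/-- The invariant of a configuration relative to one set. -/
def setInvar {β : Type} (Ψ : β → Finset (Finset GolayPt)) (b : β) (a : Finset GolayPt) : ℕ :=
  famInv (Ψ b) (single a)

/-- The invariant of a configuration relative to a family. -/
def famInvar {β : Type} (Ψ : β → Finset (Finset GolayPt)) (b : β) (a : Finset (Finset GolayPt)) : ℕ :=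
  famInv (Ψ b) a

theorem setInvar_smul {β : Type} [MulAction (Equiv.Perm GolayPt) β] {S : Set β}
    {Ψ : β → Finset (Finset GolayPt)} {L : List (List ℕ)} {A P : ℕ} (hS : Listed S Ψ L A P) :
    ∀ σ ∈ M24, ∀ b a, setInvar Ψ (σ • b) (σ • a) = setInvar Ψ b a := fun σ _ b a => by
  rw [setInvar, setInvar, hS.equiv, single_smul, famInv_smul]

theorem famInvar_smul {β : Type} [MulAction (Equiv.Perm GolayPt) β] {S : Set β}
    {Ψ : β → Finset (Finset GolayPt)} {L : List (List ℕ)} {A P : ℕ} (hS : Listed S Ψ L A P) :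
    ∀ σ ∈ M24, ∀ b a, famInvar Ψ (σ • b) (σ • a) = famInvar Ψ b a := fun σ _ b a => by
  rw [famInvar, famInvar, hS.equiv, famInv_smul]

theorem setInvar_list {β : Type} [MulAction (Equiv.Perm GolayPt) β] {S : Set β}
    {Ψ : β → Finset (Finset GolayPt)} {L : List (List ℕ)} {A P : ℕ} (hS : Listed S Ψ L A P)
    {o : ℕ} (ho : o < 2 ^ 24) :
    ∀ l ∈ L, ∀ b, Ψ b = famSet l → setInvar Ψ b (setOf24 o) = listInv [o] l := fun l hl b e => by
  rw [setInvar, e, ← famSet_singleton, famInv_famSet (by simpa using ho) (List.nodup_singleton o)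
    (hS.lt l hl) (hS.nodup l hl)]

theorem famInvar_list {β : Type} [MulAction (Equiv.Perm GolayPt) β] {S : Set β}
    {Ψ : β → Finset (Finset GolayPt)} {L : List (List ℕ)} {A P : ℕ} (hS : Listed S Ψ L A P)
    {x : List ℕ} (hx : ∀ M ∈ x, M < 2 ^ 24) (nx : x.Nodup) :
    ∀ l ∈ L, ∀ b, Ψ b = famSet l → famInvar Ψ b (famSet x) = listInv x l := fun l hl b e => by
  rw [famInvar, e, famInv_famSet hx nx (hS.lt l hl) (hS.nodup l hl)]

theorem gensOK_set {o : ℕ} (ho : o < 2 ^ 24) {tabs : List ℕ} {bytes : List (List ℕ)}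
    (h : tabs.all isM24Tab = true) (hb : (tabs.zip bytes).all (fun p => bytesOK p.1 p.2) = true)
    (hlen : tabs.length = bytes.length) (hfix : tabs.all (fun t => push t 24 o == o) = true) :
    GensOK (M24 ⊓ MulAction.stabilizer (Equiv.Perm GolayPt) (setOf24 o)) bytes :=
  gensOK_inf _ tabs bytes h hb hlen fun t ht σ hσ => by
    rw [smul_setOf24 hσ, beq_iff_eq.mp (List.all_eq_true.mp hfix t ht)]

theorem gensOK_fam {x : List ℕ} (hx : ∀ M ∈ x, M < 2 ^ 24) {tabs : List ℕ} {bytes : List (List ℕ)}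
    (h : tabs.all isM24Tab = true) (hb : (tabs.zip bytes).all (fun p => bytesOK p.1 p.2) = true)
    (hlen : tabs.length = bytes.length) (hfix : tabs.all (fun t => fixesFam t x) = true) :
    GensOK (M24 ⊓ MulAction.stabilizer (Equiv.Perm GolayPt) (famSet x)) bytes :=
  gensOK_inf _ tabs bytes h hb hlen fun t ht σ hσ =>
    (smul_famSet_iff hσ hx).mpr (List.all_eq_true.mp hfix t ht)

end CfsgLib.M24Classes
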