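import Cfsg.Agent.M24Classes.OrbitClasses

/-!
The complete lists of octads, trios and sextets as `Listed` configuration sets.
-/

set_option autoImplicit false

namespace CfsgLib.M24Classes

open Cfsg CfsgLib.Mathieu
open scoped Pointwise

/-- Hash constants for the octads. -/
def octA : ℕ := 1486623482873380664353984011142603554813359881543836184565306
/-- Hash constants for the trios. -/
def trioA : ℕ := 826263037523727043666722908561385835967652981616105136791358
/-- Hash constants for the sextets. -/
def sextA : ℕ := 580768932652554748189535469147931442027140805956828062224968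

/-- The octads as one-member families. -/
def octFams : List (List ℕ) := octList.map fun o => [o]

theorem octFresh : freshKeys (famKey octA 131071) octFams 0 = true := by decide +kernel

theorem trioFresh : freshKeys (famKey trioA 1048573) trioList 0 = true := by decide +kernel

theorem sextFresh : freshKeys (famKey sextA 262139) sextetData 0 = true := by decide +kernel

seal octList trioList trioData sextetData

theorem trioList_entry_nodup : ∀ l ∈ trioList, l.Nodup := by
  intro l hl
  match l, trioList_ok l hl with
  | [o, p, r], h =>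
    simp only [trioOK, Bool.and_eq_true, beq_iff_eq] at h
    obtain ⟨⟨⟨⟨⟨⟨⟨⟨⟨⟨⟨⟨-, ho⟩, -⟩, -⟩, hp⟩, -⟩, -⟩, hop⟩, hor⟩, hpr⟩, -⟩, -⟩, -⟩ := h
    have ne : ∀ a b : ℕ, wt a = 8 → a &&& b = 0 → a ≠ b := by
      intro a b ha hab e
      subst e
      rw [Nat.and_self] at hab
      subst hab
      exact absurd ha (by decide +kernel)
    simp [ne o p ho hop, ne o r ho hor, ne p r hp hpr]

theorem sextetData_entry_nodup : ∀ l ∈ sextetData, l.Nodup := by
  intro l hl
  have h := sextetData_ok l hl
  simp only [sextetOK, Bool.and_eq_true, beq_iff_eq, List.all_eq_true, Nat.blt_eq] at h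
  exact pairsAll_disjoint_nodup h.1.2 fun M hM => by rw [← fastWt_eq]; exact (h.1.1.2 M hM).2

/-- An octad as a family. -/
def single (o : Finset GolayPt) : Finset (Finset GolayPt) := {o}

theorem single_smul (σ : Equiv.Perm GolayPt) (o : Finset GolayPt) : single (σ • o) = σ • single o :=
  Finset.smul_finset_singleton (a := σ) (b := o) |>.symm

theorem famSet_singleton (o : ℕ) : famSet [o] = single (setOf24 o) := by simp [famSet, single]

theorem octListed : Listed octads single octFams octA 131071 where
  inj := fun _ _ h => Finset.singleton_injective h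
  equiv := single_smul
  eq_image := by
    rw [show octads = setOf24 '' {M | M ∈ codeOfWeight 8} from wordsOfWeight_eq_image 8, Set.image_image,
      codeOfWeight_eight]
    ext F
    simp only [Set.mem_image, Set.mem_ofPred_eq, octFams, List.mem_map]
    constructor
    · rintro ⟨o, ho, rfl⟩
      exact ⟨[o], ⟨o, ho, rfl⟩, famSet_singleton o⟩
    · rintro ⟨_, ⟨o, ho, rfl⟩, rfl⟩
      exact ⟨o, ho, (famSet_singleton o).symm⟩
  closed := fun _ hσ _ hb => smul_mem_wordsOfWeight hσ hb
  lt := by
    intro l hl M hM
    obtain ⟨o, ho, rfl⟩ := List.mem_map.mp hl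
    rw [List.mem_singleton.mp hM]
    exact octList_lt o ho
  nodup := by
    intro l hl
    obtain ⟨o, -, rfl⟩ := List.mem_map.mp hl
    exact List.nodup_singleton o
  fresh := octFresh
  distinct := by
    unfold octFams
    refine List.Nodup.map (fun a b h => by simpa using h) ?_
    rw [← codeOfWeight_eight]; exact nodup_codeOfWeight 8

theorem trioListed : Listed trios id trioList trioA 1048573 where
  inj := Function.injective_id
  equiv := fun _ _ => rfl
  eq_image := by rw [Set.image_id]; exact trios_eq_image
  closed := fun _ hσ _ hb => smul_mem_trios hσ hb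
  lt := trioList_lt
  nodup := trioList_entry_nodup
  fresh := trioFresh
  distinct := trioList_nodup

theorem sextetListed : Listed sextets id sextetData sextA 262139 where
  inj := Function.injective_id
  equiv := fun _ _ => rfl
  eq_image := by rw [Set.image_id]; exact sextets_eq_image
  closed := fun _ hσ _ hb => smul_mem_sextets hσ hb
  lt := sextetData_lt
  nodup := sextetData_entry_nodup
  fresh := sextFresh
  distinct := sextetData_nodup

/-! ### Sextets are permuted transitively -/

theorem sextet_eq_of_mem {S S' : Finset (Finset GolayPt)} (hS : S ∈ sextets) (hS' : S' ∈ sextets)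
    {t : Finset GolayPt} (ht : t ∈ S) (ht' : t ∈ S') : S = S' := by
  have cov : ∀ {R : Finset (Finset GolayPt)}, R ∈ sextets → R.biUnion id = Finset.univ := fun {R} hR => by
    apply Finset.eq_univ_of_card
    rw [Finset.card_biUnion (t := id) (fun u hu v hv hne => sextet_disjoint hR hu hv hne)]
    simp only [id_eq]
    rw [Finset.sum_congr rfl hR.2.1, Finset.sum_const, hR.1]
    simp [ZMod.card]
  refine Finset.eq_of_subset_of_card_le ?_ (by rw [hS.1, hS'.1])
  intro u hu
  by_cases hut : u = t
  · exact hut ▸ ht'
  obtain ⟨x, hx⟩ : u.Nonempty := Finset.card_pos.mp (by rw [hS.2.1 u hu]; norm_num)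
  have hxt : x ∉ t := Finset.disjoint_left.mp (sextet_disjoint hS hu ht hut) hx
  obtain ⟨v, hv, hxv⟩ := Finset.mem_biUnion.mp ((cov hS').symm ▸ Finset.mem_univ x)
  have hxv' : x ∈ v := hxv
  have hvt : v ≠ t := fun e => hxt (e ▸ hxv')
  have heq := octads_eq_of_five_le (hS.2.2 t ht u hu (Ne.symm hut)) (hS'.2.2 t ht' v hv (Ne.symm hvt))
    (le_trans (b := (insert x t).card) (by rw [Finset.card_insert_of_notMem hxt, hS.2.1 t ht])
      (Finset.card_le_card (by
        intro y hy
        simp only [Finset.mem_insert] at hy
        simp only [Finset.mem_inter, Finset.mem_union]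
        rcases hy with rfl | hy
        · exact ⟨Or.inr hx, Or.inr hxv'⟩
        · exact ⟨Or.inl hy, Or.inl hy⟩)))
  have d1 := Finset.disjoint_left.mp (sextet_disjoint hS hu ht hut)
  have d2 := Finset.disjoint_left.mp (sextet_disjoint hS' hv ht' hvt)
  have : u = v := by
    ext y
    have e := Finset.ext_iff.mp heq y
    simp only [Finset.mem_union] at e
    exact ⟨fun h => (e.mp (Or.inr h)).resolve_left (d1 h), fun h => (e.mpr (Or.inr h)).resolve_left (d2 h)⟩
  exact this ▸ hv

/-- Two sets of at most five points of the same size are conjugate. -/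
theorem exists_map_subset {k : ℕ} (hk : k ≤ 5) {s s' : Finset GolayPt} (hs : s.card = k) (hs' : s'.card = k) :
    ∃ g ∈ M24, g • s = s' := by
  have ext5 : ∀ u : Finset GolayPt, u.card = k → ∃ v : Fin 5 → GolayPt, Function.Injective v ∧
      Finset.image v (Finset.univ.filter fun i : Fin 5 => i.val < k) = u := by
    intro u hu
    obtain ⟨w, huw, -, hw⟩ := Finset.exists_subsuperset_card_eq (s := u) (t := Finset.univ) (n := 5)
      (Finset.subset_univ _) (by omega) (by simp [ZMod.card])
    have hwl : (u.toList ++ (w \ u).toList).length = 5 := by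
      rw [List.length_append, Finset.length_toList, Finset.length_toList, Finset.card_sdiff_of_subset huw]
      omega
    have hnd : (u.toList ++ (w \ u).toList).Nodup := by
      rw [List.nodup_append]
      exact ⟨Finset.nodup_toList u, Finset.nodup_toList _, fun a ha b hb e =>
        (Finset.mem_sdiff.mp (Finset.mem_toList.mp hb)).2 (e ▸ Finset.mem_toList.mp ha)⟩
    refine ⟨fun i => (u.toList ++ (w \ u).toList)[i.val]'(by omega), fun a b h => Fin.ext
      ((hnd.getElem_inj_iff).mp h), ?_⟩
    ext p
    simp only [Finset.mem_image, Finset.mem_filter, Finset.mem_univ, true_and]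
    constructor
    · rintro ⟨i, hi, rfl⟩
      rw [List.getElem_append_left (by rw [Finset.length_toList]; omega)]
      exact Finset.mem_toList.mp (List.getElem_mem _)
    · intro hp
      obtain ⟨i, hi, e⟩ := List.getElem_of_mem (Finset.mem_toList.mpr hp)
      have hi' : i < k := by rw [Finset.length_toList, hu] at hi; exact hi
      refine ⟨⟨i, by omega⟩, hi', ?_⟩
      rw [List.getElem_append_left hi]
      exact e
  obtain ⟨v, hv, hvs⟩ := ext5 s hs
  obtain ⟨v', hv', hvs'⟩ := ext5 s' hs'
  obtain ⟨g, hg, hgv⟩ := M24_map_five v v' hv hv'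
  refine ⟨g, hg, ?_⟩
  rw [← hvs, ← hvs', smul_set_eq_image, Finset.image_image]
  exact Finset.image_congr fun i _ => hgv i

theorem M24_sextet_transitive {S S' : Finset (Finset GolayPt)} (hS : S ∈ sextets) (hS' : S' ∈ sextets) :
    ∃ g ∈ M24, g • S = S' := by
  obtain ⟨t, ht⟩ : S.Nonempty := Finset.card_pos.mp (by rw [hS.1]; norm_num)
  obtain ⟨t', ht'⟩ : S'.Nonempty := Finset.card_pos.mp (by rw [hS'.1]; norm_num)
  obtain ⟨g, hg, rfl⟩ := exists_map_subset (by norm_num) (hS.2.1 t ht) (hS'.2.1 t' ht')
  exact ⟨g, hg, sextet_eq_of_mem (smul_mem_sextets hg hS) hS' (Finset.smul_mem_smul_finset ht) ht'⟩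

end CfsgLib.M24Classes
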