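import Cfsg.Agent.M24Classes.FixedCounts

/-!
Orbit certificates on complete lists of families of masks: a binary tree records a spanning tree of an
orbit, and reached families are remembered in a bit set indexed by a symmetric hash of their members.
-/

set_option autoImplicit false

namespace CfsgLib.M24Classes

open Cfsg CfsgLib.Mathieu
open scoped Pointwise

/-- A spanning tree, first child and next sibling. -/
inductive OTree where
  | nil
  | node (g : ℕ) (child sib : OTree)

/-- Symmetric hash of a family. -/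
def famKey (A P : ℕ) (l : List ℕ) : ℕ := ((l.map fun M => A % (M + 1000003)).sum) % P

/-- Bit set of the keys of the families met along the tree, starting from the parent `l`. -/
def visit (gens : List (List ℕ)) (key : List ℕ → ℕ) : List ℕ → OTree → ℕ → ℕ
  | _, .nil, bits => bits
  | l, .node g child sib, bits =>
    match gens[g]? with
    | some E => visit gens key l sib
        (visit gens key (l.map (fastPush E)) child (bits ||| 2 ^ key (l.map (fastPush E))))
    | none => bits

/-- Bit set of a spanning tree with root `r`. -/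
def reached (gens : List (List ℕ)) (key : List ℕ → ℕ) (r : List ℕ) (t : OTree) : ℕ :=
  visit gens key r t (2 ^ key r)

/-- All keys differ from each other and from the bits given. -/
def freshKeys (key : List ℕ → ℕ) : List (List ℕ) → ℕ → Bool
  | [], _ => true
  | l :: L, bits => !bits.testBit (key l) && freshKeys key L (bits ||| 2 ^ key l)

theorem freshKeys_spec {key : List ℕ → ℕ} : ∀ {L : List (List ℕ)} {bits : ℕ},
    freshKeys key L bits = true →
      (∀ l ∈ L, bits.testBit (key l) = false) ∧ ∀ a ∈ L, ∀ b ∈ L, key a = key b → a = b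
  | [], _, _ => ⟨fun l hl => absurd hl List.not_mem_nil, fun a ha => absurd ha List.not_mem_nil⟩
  | x :: L, bits, h => by
    simp only [freshKeys, Bool.and_eq_true, Bool.not_eq_true'] at h
    obtain ⟨hf, hi⟩ := freshKeys_spec h.2
    have hne : ∀ l ∈ L, key l ≠ key x := fun l hl e => by
      have := hf l hl
      rw [e, Nat.testBit_or, Nat.testBit_two_pow_self, Bool.or_true] at this
      exact absurd this (by simp)
    constructor
    · intro l hl
      rcases List.mem_cons.mp hl with e | hl
      · rw [e]; exact h.1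
      · have := hf l hl
        rw [Nat.testBit_or, Bool.or_eq_false_iff] at this
        exact this.1
    · intro a ha b hb e
      rcases List.mem_cons.mp ha with ea | ha' <;> rcases List.mem_cons.mp hb with eb | hb'
      · rw [ea, eb]
      · exact absurd (ea ▸ e.symm) (hne b hb')
      · exact absurd (eb ▸ e) (hne a ha')
      · exact hi a ha' b hb' e

/-- A list coding a member of the complete list `L`. -/
def IsCode' (L : List (List ℕ)) (y : List ℕ) : Prop :=
  (∀ M ∈ y, M < 2 ^ 24) ∧ y.Nodup ∧ ∃ l ∈ L, famSet y = famSet l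

theorem famKey_eq_of_famSet {A P : ℕ} {a b : List ℕ} (ha : ∀ M ∈ a, M < 2 ^ 24)
    (hb : ∀ M ∈ b, M < 2 ^ 24) (na : a.Nodup) (nb : b.Nodup) (e : famSet a = famSet b) :
    famKey A P a = famKey A P b := by
  have hp : a.Perm b := (List.perm_ext_iff_of_nodup na nb).mpr fun M =>
    ⟨famSet_mem_of_eq ha hb e, famSet_mem_of_eq hb ha e.symm⟩
  rw [famKey, famKey, (hp.map fun M => A % (M + 1000003)).sum_eq]

/-- Orbit data: tables of members of `H` with their byte tables. -/
def GensOK (H : Subgroup (Equiv.Perm GolayPt)) (gens : List (List ℕ)) : Prop :=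
  ∀ E ∈ gens, ∃ t : ℕ, InGroup enc H t ∧ bytesOK t E = true

theorem visit_sound {H : Subgroup (Equiv.Perm GolayPt)} {gens : List (List ℕ)} (hg : GensOK H gens)
    {L : List (List ℕ)} (hclosed : ∀ σ ∈ H, ∀ l ∈ L, ∃ l' ∈ L, σ • famSet l = famSet l')
    {key : List ℕ → ℕ} (x₀ : Finset (Finset GolayPt)) :
    ∀ (t : OTree) (l : List ℕ) (bits : ℕ), IsCode' L l → (∃ σ ∈ H, σ • x₀ = famSet l) →
      (∀ k, bits.testBit k = true → ∃ y, IsCode' L y ∧ (∃ σ ∈ H, σ • x₀ = famSet y) ∧ key y = k) →
      ∀ k, (visit gens key l t bits).testBit k = true →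
        ∃ y, IsCode' L y ∧ (∃ σ ∈ H, σ • x₀ = famSet y) ∧ key y = k
  | .nil, _, _, _, _, h => h
  | .node g child sib, l, bits, hl, hm, h => by
    simp only [visit]
    split
    · rename_i E hE
      obtain ⟨t, ⟨σ, hσ, rσ⟩, hb⟩ := hg E (List.mem_of_getElem? hE)
      obtain ⟨τ, hτ, hτx⟩ := hm
      obtain ⟨hlt, hnd, l₀, hl₀, he⟩ := hl
      have himg : l.map (fastPush E) = l.map (push t 24) :=
        List.map_congr_left fun M hM => (fastPush_eq hb (hlt M hM)).symm
      have hfam : famSet (l.map (fastPush E)) = σ • famSet l := by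
        rw [himg]
        ext s
        simp only [mem_famSet, List.mem_map, Finset.mem_smul_finset]
        constructor
        · rintro ⟨_, ⟨M, hM, rfl⟩, rfl⟩
          exact ⟨setOf24 M, ⟨M, hM, rfl⟩, image_setOf24 rσ M⟩
        · rintro ⟨_, ⟨M, hM, rfl⟩, rfl⟩
          exact ⟨_, ⟨M, hM, rfl⟩, (image_setOf24 rσ M).symm⟩
      have hcode : IsCode' L (l.map (fastPush E)) := by
        obtain ⟨l', hl', e'⟩ := hclosed σ hσ l₀ hl₀
        refine ⟨?_, ?_, l', hl', by rw [hfam, he, e']⟩
        · rw [himg]
          intro M hM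
          obtain ⟨N, -, rfl⟩ := List.mem_map.mp hM
          exact push_lt rσ N
        · rw [himg]
          refine hnd.map_on fun a ha b hb' e => setOf24_inj (hlt a ha) (hlt b hb') ?_
          apply Finset.image_injective σ.injective
          show (setOf24 a).image σ = (setOf24 b).image σ
          rw [image_setOf24 rσ, image_setOf24 rσ, e]
      have hmov : ∃ ρ ∈ H, ρ • x₀ = famSet (l.map (fastPush E)) :=
        ⟨σ * τ, mul_mem hσ hτ, by rw [mul_smul, hτx, hfam]⟩
      refine visit_sound hg hclosed x₀ sib l _ ⟨hlt, hnd, l₀, hl₀, he⟩ ⟨τ, hτ, hτx⟩ ?_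
      refine visit_sound hg hclosed x₀ child _ _ hcode hmov fun k hk => ?_
      rw [Nat.testBit_or, Bool.or_eq_true] at hk
      rcases hk with hk | hk
      · exact h k hk
      · rw [Nat.testBit_two_pow, decide_eq_true_eq] at hk
        exact ⟨_, hcode, hmov, hk⟩
    · exact h

/-- All the listed families passing the test are reached. -/
def coversClass (bits : ℕ) (key : List ℕ → ℕ) (pred : List ℕ → Bool) (L : List (List ℕ)) : Bool :=
  L.all fun l => !pred l || bits.testBit (key l)

theorem moves_of_tree {H : Subgroup (Equiv.Perm GolayPt)} {gens : List (List ℕ)} (hg : GensOK H gens)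
    {L : List (List ℕ)} (hlt : ∀ l ∈ L, ∀ M ∈ l, M < 2 ^ 24) (hnd : ∀ l ∈ L, l.Nodup)
    (hclosed : ∀ σ ∈ H, ∀ l ∈ L, ∃ l' ∈ L, σ • famSet l = famSet l')
    {A P : ℕ} (hinj : ∀ a ∈ L, ∀ b ∈ L, famKey A P a = famKey A P b → a = b)
    {r : List ℕ} (hr : r ∈ L) (t : OTree) {pred : List ℕ → Bool}
    (hcov : coversClass (reached gens (famKey A P) r t) (famKey A P) pred L = true) :
    ∀ l ∈ L, pred l = true → ∃ σ ∈ H, σ • famSet r = famSet l := by
  intro l hl hp
  have hb := List.all_eq_true.mp hcov l hl
  rw [hp, Bool.not_true, Bool.false_or] at hb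
  have hr' : IsCode' L r := ⟨hlt r hr, hnd r hr, r, hr, rfl⟩
  obtain ⟨y, ⟨ylt, ynd, l', hl', e⟩, ⟨σ, hσ, hσr⟩, hk⟩ := visit_sound hg hclosed (famSet r) t r _ hr'
    ⟨1, one_mem H, one_smul _ _⟩ (fun k hk => by
      rw [Nat.testBit_two_pow, decide_eq_true_eq] at hk
      exact ⟨r, hr', ⟨1, one_mem H, one_smul _ _⟩, hk⟩) _ hb
  have : l' = l := hinj l' hl' l hl (by
    rw [← famKey_eq_of_famSet ylt (hlt l' hl') ynd (hnd l' hl') e, hk])
  exact ⟨σ, hσ, by rw [hσr, e, this]⟩

end CfsgLib.M24Classes
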