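import Cfsg.Agent.M24Classes.Classes

/-!
The numbers of elements of each order in `Cfsg.M24`, by counting in two ways the pairs of an element
and a tuple of points which it moves in one of four patterns.
-/

set_option autoImplicit false
set_option linter.unusedSectionVars false

namespace CfsgLib.M24Classes

open Cfsg CfsgLib.Mathieu

section Periods

variable {α : Type*} [DecidableEq α]

/-- The period is at least five. -/
def per5 (f : α → α) (a : α) : Bool :=
  decide (f a ≠ a) && decide (f (f a) ≠ a) && decide (f (f (f a)) ≠ a) && decide (f (f (f (f a))) ≠ a)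

/-- The period is four. -/
def per4 (f : α → α) (a : α) : Bool :=
  decide (f a ≠ a) && decide (f (f a) ≠ a) && decide (f (f (f a)) ≠ a) && decide (f (f (f (f a))) = a)

/-- The period is three. -/
def per3 (f : α → α) (a : α) : Bool := decide (f a ≠ a) && decide (f (f (f a)) = a)

/-- The period is two. -/
def per2 (f : α → α) (a : α) : Bool := decide (f a ≠ a) && decide (f (f a) = a)

/-- The period is one. -/
def per1 (f : α → α) (a : α) : Bool := decide (f a = a)

variable {β : Type*} [DecidableEq β] {e : α → β} {f : α → α} {f' : β → β}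

theorem per_natural (he : Function.Injective e) (h : ∀ a, f' (e a) = e (f a)) (a : α) :
    per5 f' (e a) = per5 f a ∧ per4 f' (e a) = per4 f a ∧ per3 f' (e a) = per3 f a ∧
      per2 f' (e a) = per2 f a ∧ per1 f' (e a) = per1 f a := by
  simp [per5, per4, per3, per2, per1, h, he.eq_iff, he.ne_iff]

end Periods

/-- An order and the numbers of points of period at least five, four, three, two and one. -/
abbrev Prof : Type := ℕ × ℕ × ℕ × ℕ × ℕ × ℕ

/-- The profile of a permutation. -/
noncomputable def prof (g : Equiv.Perm GolayPt) : Prof :=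
  (orderOf g, (Finset.univ.filter fun a => per5 g a).card, (Finset.univ.filter fun a => per4 g a).card,
    (Finset.univ.filter fun a => per3 g a).card, (Finset.univ.filter fun a => per2 g a).card,
    (Finset.univ.filter fun a => per1 g a).card)

/-- The table to the power `k` fixes all points. -/
def fixedAll (t k : ℕ) : Bool := allBelow 24 fun i => appIter t k i == i

/-- The order of a table, up to 24. -/
def ordT (t : ℕ) : ℕ := (((List.range 24).map (· + 1)).find? (fixedAll t)).getD 0

/-- The profile of a table. -/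
def profT (t : ℕ) : Prof :=
  (ordT t, (List.range 24).countP (per5 (app t)), (List.range 24).countP (per4 (app t)),
    (List.range 24).countP (per3 (app t)), (List.range 24).countP (per2 (app t)),
    (List.range 24).countP (per1 (app t)))

theorem fixedAll_iff {σ : Equiv.Perm GolayPt} {t : ℕ} (h : Rep enc σ t) (k : ℕ) :
    fixedAll t k = true ↔ σ ^ k = 1 := by
  rw [fixedAll, allBelow_iff]
  refine ⟨fun hall => Equiv.ext fun p => ?_, fun he i hi => ?_⟩
  · have := hall _ (enc p).isLt
    rw [beq_iff_eq, appIter_eq h] at this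
    exact enc.injective (Fin.ext this)
  · have := appIter_eq h k (enc.symm ⟨i, hi⟩)
    rw [he, Equiv.Perm.one_apply, Equiv.apply_symm_apply] at this
    rw [beq_iff_eq]; exact this

theorem orderOf_eq_ordT {σ : Equiv.Perm GolayPt} {t : ℕ} (h : Rep enc σ t) (h0 : ordT t ≠ 0) :
    orderOf σ = ordT t := by
  unfold ordT at h0 ⊢
  cases hf : ((List.range 24).map (· + 1)).find? (fixedAll t) with
  | none => rw [hf] at h0; exact absurd rfl h0
  | some n =>
    rw [hf] at h0
    simp only [Option.getD_some] at h0 ⊢
    obtain ⟨hn, as, bs, hlist, has⟩ := List.find?_eq_some_iff_append.1 hf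
    refine (orderOf_eq_iff (Nat.pos_of_ne_zero h0)).2 ⟨(fixedAll_iff h n).1 hn, fun m hm hm0 he => ?_⟩
    have hn24 : n ≤ 24 := by
      have := List.mem_of_find?_eq_some hf
      simp only [List.mem_map, List.mem_range] at this
      omega
    have hmem : m ∈ (List.range 24).map (· + 1) := List.mem_map.2
      ⟨m - 1, List.mem_range.2 (by omega), by omega⟩
    have hpair : ((List.range 24).map (· + 1)).Pairwise (· < ·) := by decide
    rw [hlist] at hmem hpair
    rcases List.mem_append.1 hmem with h1 | h1
    · have := has m h1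
      rw [(fixedAll_iff h m).2 he] at this
      simp at this
    · rcases List.mem_cons.1 h1 with h2 | h2
      · omega
      · have := (List.pairwise_cons.1 (List.pairwise_append.1 hpair).2.1).1 m h2
        omega

theorem card_filter_eq_countP (P : GolayPt → Bool) (Q : ℕ → Bool)
    (h : ∀ a, Q (idx a) = P a) :
    (Finset.univ.filter fun a => P a = true).card = (List.range 24).countP Q := by
  have h1 : (List.range 24).countP Q = ((Finset.range 24).filter fun i => Q i = true).card := by
    rw [List.countP_eq_length_filter, ← List.toFinset_card_of_nodup (List.nodup_range.filter _)]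
    congr 1
    ext i
    simp
  rw [h1]
  refine Finset.card_bij (fun a _ => idx a) (fun a ha => ?_) (fun a _ b _ e => ?_) fun i hi => ?_
  · exact Finset.mem_filter.2 ⟨Finset.mem_range.2 (idx_lt a), by
      rw [h]; exact (Finset.mem_filter.1 ha).2⟩
  · exact enc.injective (Fin.ext e)
  · obtain ⟨hi24, hQ⟩ := Finset.mem_filter.1 hi
    refine ⟨enc.symm ⟨i, Finset.mem_range.1 hi24⟩, Finset.mem_filter.2 ⟨Finset.mem_univ _, ?_⟩, ?_⟩
    · rw [← h]
      rwa [show idx (enc.symm ⟨i, Finset.mem_range.1 hi24⟩) = i from
        congrArg Fin.val (enc.apply_symm_apply ⟨i, Finset.mem_range.1 hi24⟩)]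
    · exact congrArg Fin.val (enc.apply_symm_apply ⟨i, Finset.mem_range.1 hi24⟩)

theorem prof_eq {σ : Equiv.Perm GolayPt} {t : ℕ} (h : Rep enc σ t) (h0 : ordT t ≠ 0) :
    prof σ = profT t := by
  have hn := fun a => per_natural (e := idx) (f := σ) (f' := app t)
    (fun a b e => enc.injective (Fin.ext e)) (fun b => h b) a
  simp only [prof, profT, orderOf_eq_ordT h h0,
    card_filter_eq_countP (per5 σ) (per5 (app t)) (fun a => (hn a).1),
    card_filter_eq_countP (per4 σ) (per4 (app t)) (fun a => (hn a).2.1),
    card_filter_eq_countP (per3 σ) (per3 (app t)) (fun a => (hn a).2.2.1),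
    card_filter_eq_countP (per2 σ) (per2 (app t)) (fun a => (hn a).2.2.2.1),
    card_filter_eq_countP (per1 σ) (per1 (app t)) (fun a => (hn a).2.2.2.2)]

theorem prof_conj (g h : Equiv.Perm GolayPt) : prof (h * g * h⁻¹) = prof g := by
  have hn := fun a => per_natural (e := h) (f := g) (f' := ⇑(h * g * h⁻¹)) h.injective
    (fun b => by simp) a
  have hc : ∀ P Q : GolayPt → Bool, (∀ a, Q (h a) = P a) →
      (Finset.univ.filter fun a => Q a = true).card = (Finset.univ.filter fun a => P a = true).card :=
    fun P Q he => (Finset.card_equiv h fun a => by simp [he]).symm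
  simp only [prof, show orderOf (h * g * h⁻¹) = orderOf g from (MulAut.conj h).orderOf_eq g,
    hc (per5 g) _ fun a => (hn a).1, hc (per4 g) _ fun a => (hn a).2.1,
    hc (per3 g) _ fun a => (hn a).2.2.1, hc (per2 g) _ fun a => (hn a).2.2.2.1,
    hc (per1 g) _ fun a => (hn a).2.2.2.2]

/-- The valid tuples of a pattern. -/
def validTuples {m : ℕ} (hm : 4 ≤ m) (f : Fin 4 → Fin m) (g : Equiv.Perm GolayPt) :
    Finset (Fin m → GolayPt) :=
  Finset.univ.filter fun v => Function.Injective v ∧ ∀ i : Fin 4, g (v (Fin.castLE hm i)) = v (f i)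

/-- The normal form of a table. -/
def normT (t : ℕ) : ℕ := pack (app t) 24

theorem normT_eq {σ : Equiv.Perm GolayPt} {t t' : ℕ} (h : Rep enc σ t) (h' : Rep enc σ t') :
    normT t = normT t' := by
  have key : ∀ n, n ≤ 24 → pack (app t) n = pack (app t') n := by
    intro n
    induction n with
    | zero => intro; rfl
    | succ n ih =>
      intro hn
      have h1 : app t n = app t' n := by
        have e1 := h (enc.symm ⟨n, hn⟩)
        have e2 := h' (enc.symm ⟨n, hn⟩)
        rw [Equiv.apply_symm_apply] at e1 e2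
        exact e1.trans e2.symm
      simp only [pack, h1, ih (Nat.le_of_succ_le hn)]
  exact key 24 le_rfl

theorem stab4_nodup : (stab4.map normT).Nodup := by decide +kernel

theorem stab4_fix : ∀ t ∈ stab4, ∀ x ∈ m24Base.take 4, app t (idx x) = idx x := by decide +kernel

theorem stab4_inGroup {t : ℕ} (ht : t ∈ stab4) : InGroup enc M24 t := by
  simp only [stab4, List.mem_flatMap, List.mem_map] at ht
  obtain ⟨a, ha, b, hb, d, hd, rfl⟩ := ht
  obtain ⟨α, hα, rα⟩ := trans_inGroup a (by simp [ha])
  obtain ⟨β, hβ, rβ⟩ := trans_inGroup b (by simp [hb])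
  obtain ⟨δ, hδ, rδ⟩ := trans_inGroup d (by simp [hd])
  exact ⟨α * (β * δ), mul_mem hα (mul_mem hβ hδ), rep_comp rα (rep_comp rβ rδ)⟩

theorem injective_base {m : ℕ} (hm : m ≤ 5) :
    Function.Injective fun i : Fin m => m24Base.getD i.val none := by
  intro i j h
  have key : ∀ a < 5, ∀ b < 5, m24Base.getD a none = m24Base.getD b none → a = b := by decide +kernel
  exact Fin.ext (key _ (by omega) _ (by omega) h)

/-- Four distinct points, or five, can be moved to the first base points. -/
theorem exists_to_base_le {m : ℕ} (h4 : 4 ≤ m) (h5 : m ≤ 5) {v : Fin m → GolayPt}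
    (hv : Function.Injective v) : ∃ h ∈ M24, ∀ i : Fin m, h (v i) = m24Base.getD i.val none := by
  classical
  obtain rfl | rfl : m = 4 ∨ m = 5 := by omega
  · obtain ⟨x, -, hx⟩ := Finset.exists_mem_notMem_of_card_lt_card (s := Finset.univ.image v)
      (t := (Finset.univ : Finset GolayPt)) (Finset.card_image_le.trans_lt (by
        rw [Finset.card_univ, Finset.card_univ, card_golayPt]; simp))
    obtain ⟨h, hh, hhv⟩ := exists_to_base (Fin.snoc v x)
      (Fin.snoc_injective_iff.2 ⟨hv, fun ⟨i, hi⟩ => hx (Finset.mem_image.2 ⟨i, Finset.mem_univ _, hi⟩)⟩)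
    exact ⟨h, hh, fun i => by simpa using hhv i.castSucc⟩
  · exact exists_to_base v hv

/-- The count in two ways. -/
theorem count_pattern [Fintype M24] {m : ℕ} (h4 : 4 ≤ m) (h5 : m ≤ 5) (f : Fin 4 → Fin m) {c : ℕ}
    (hc : isM24Tab c = true)
    (hcf : ∀ i : Fin 4, app c (idx (m24Base.getD i.val none)) = idx (m24Base.getD (f i).val none))
    (hord : ∀ t ∈ stab4, ordT (comp c t) ≠ 0) (k : Prof) (w : ℕ)
    (hw : ∀ g : M24, prof g = k → (validTuples h4 f (g : Equiv.Perm GolayPt)).card = w) :
    (Finset.univ.filter fun g : M24 => prof g = k).card * w =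
      Nat.descFactorial 24 m * stab4.countP fun t => profT (comp c t) == k := by
  classical
  set A := Finset.univ.filter fun g : M24 => prof g = k with hA
  set b : Fin m → GolayPt := fun i => m24Base.getD i.val none with hbdef
  set B := A.filter fun g : M24 => ∀ i : Fin 4, (g : Equiv.Perm GolayPt) (b (Fin.castLE h4 i)) = b (f i)
    with hB
  have hbase : ∀ v : Fin m → GolayPt, Function.Injective v →
      (A.filter fun g : M24 => ∀ i : Fin 4, (g : Equiv.Perm GolayPt) (v (Fin.castLE h4 i)) = v (f i)).card =
        B.card := by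
    intro v hv
    obtain ⟨h, hh, hhv⟩ := exists_to_base_le h4 h5 hv
    refine Finset.card_equiv (MulAut.conj (⟨h, hh⟩ : M24)).toEquiv fun g => ?_
    simp only [hB, hA, Finset.mem_filter, Finset.mem_univ, true_and, MulEquiv.toEquiv_eq_coe,
      EquivLike.coe_coe, MulAut.conj_apply, Subgroup.coe_mul, InvMemClass.coe_inv, prof_conj]
    refine and_congr_right fun _ => forall_congr' fun i => ?_
    rw [show b (Fin.castLE h4 i) = h (v (Fin.castLE h4 i)) from (hhv _).symm,
      show b (f i) = h (v (f i)) from (hhv _).symm]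
    simp
  have hB' : B.card = stab4.countP fun t => profT (comp c t) == k := by
    obtain ⟨γ, hγ, rγ⟩ := inGroup_of_isM24Tab hc
    have hgam : ∀ x ∈ m24Base.take 4, ∀ g : Equiv.Perm GolayPt,
        (∀ i : Fin 4, g (b (Fin.castLE h4 i)) = b (f i)) → g x = γ x := by
      intro x hx g hg
      obtain ⟨j, hj, rfl⟩ := List.getElem_of_mem hx
      have hj4 : j < 4 := by simp [m24Base] at hj; omega
      rw [List.getElem_take, ← List.getD_eq_getElem _ none]
      refine (hg ⟨j, hj4⟩).trans ?_
      refine enc.injective (Fin.ext ?_)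
      exact (hcf ⟨j, hj4⟩).symm.trans (rγ _)
    rw [List.countP_eq_length_filter]
    set D := stab4.filter fun t => profT (comp c t) == k with hD
    have hnd : (D.map normT).Nodup :=
      List.Nodup.sublist (List.filter_sublist.map _) stab4_nodup
    have hDn : D.Nodup := hnd.of_map _
    rw [← List.toFinset_card_of_nodup hDn]
    symm
    choose σ hσ rσ using fun (t : {t // t ∈ stab4}) => stab4_inGroup t.2
    refine Finset.card_bij
      (fun t ht => (⟨γ * σ ⟨t, (List.mem_filter.1 (List.mem_toFinset.1 ht)).1⟩,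
        mul_mem hγ (hσ _)⟩ : M24)) (fun t ht => ?_) (fun t ht t' ht' e => ?_) fun g hg => ?_
    · obtain ⟨hts, htk⟩ := List.mem_filter.1 (List.mem_toFinset.1 ht)
      refine Finset.mem_filter.2 ⟨Finset.mem_filter.2 ⟨Finset.mem_univ _, ?_⟩, fun i => ?_⟩
      · show prof (γ * σ ⟨t, hts⟩) = k
        rw [prof_eq (rep_comp rγ (rσ ⟨t, hts⟩)) (hord t hts)]
        exact beq_iff_eq.1 htk
      · show γ (σ ⟨t, hts⟩ (b (Fin.castLE h4 i))) = b (f i)
        have hx : b (Fin.castLE h4 i) ∈ m24Base.take 4 := by
          have key : ∀ j < 4, m24Base.getD j none ∈ m24Base.take 4 := by decide +kernel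
          exact key i.val i.isLt
        have h1 : σ ⟨t, hts⟩ (b (Fin.castLE h4 i)) = b (Fin.castLE h4 i) :=
          (rσ ⟨t, hts⟩).apply_eq enc (stab4_fix t hts _ hx)
        rw [h1]
        exact rγ.apply_eq enc (hcf i)
    · obtain ⟨hts, -⟩ := List.mem_filter.1 (List.mem_toFinset.1 ht)
      obtain ⟨hts', -⟩ := List.mem_filter.1 (List.mem_toFinset.1 ht')
      have e' : σ ⟨t, hts⟩ = σ ⟨t', hts'⟩ := mul_left_cancel (congrArg Subtype.val e)
      have r := rσ ⟨t', hts'⟩
      rw [← e'] at r
      exact List.inj_on_of_nodup_map hnd (List.mem_toFinset.1 ht) (List.mem_toFinset.1 ht')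
        (normT_eq (rσ ⟨t, hts⟩) r)
    · obtain ⟨hgA, hgb⟩ := Finset.mem_filter.1 hg
      obtain ⟨t, hts, rt⟩ := mem_stab4 (mul_mem (inv_mem hγ) g.2) (fun x hx => by
        rw [Equiv.Perm.mul_apply, Equiv.Perm.inv_eq_iff_eq]
        exact hgam x hx _ hgb)
      have hrep : Rep enc (g : Equiv.Perm GolayPt) (comp c t) := by
        have := rep_comp rγ rt
        rwa [mul_inv_cancel_left] at this
      refine ⟨t, List.mem_toFinset.2 (List.mem_filter.2 ⟨hts, ?_⟩), Subtype.ext ?_⟩
      · rw [beq_iff_eq, ← prof_eq hrep (hord t hts)]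
        exact (Finset.mem_filter.1 hgA).2
      · show γ * σ ⟨t, hts⟩ = (g : Equiv.Perm GolayPt)
        rw [rep_unique (rσ ⟨t, hts⟩) rt, mul_inv_cancel_left]
  have hswap : A.card * w = ((Finset.univ : Finset (Fin m → GolayPt)).filter fun v =>
      Function.Injective v).card * B.card := by
    rw [← smul_eq_mul, ← Finset.sum_const, ← smul_eq_mul (_ : ℕ) B.card, ← Finset.sum_const]
    rw [Finset.sum_congr rfl (s₁ := A) (g := fun g : M24 => ∑ v ∈ Finset.univ.filter
        (fun v : Fin m → GolayPt => Function.Injective v),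
        if ∀ i : Fin 4, (g : Equiv.Perm GolayPt) (v (Fin.castLE h4 i)) = v (f i) then 1 else 0) fun g hg => by
      rw [← hw g (Finset.mem_filter.1 hg).2, validTuples, ← Finset.card_filter, Finset.filter_filter],
      Finset.sum_comm]
    refine Finset.sum_congr rfl fun v hv => ?_
    rw [← Finset.card_filter, hbase v (Finset.mem_filter.1 hv).2]
  rw [hswap, hB']
  congr 1
  rw [← Fintype.card_subtype, Fintype.card_congr (Equiv.subtypeInjectiveEquivEmbedding (Fin m) GolayPt),
    Fintype.card_embedding_eq, Fintype.card_fin, card_golayPt]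

/-- The cycle pattern of length five. -/
def fFiveCycle : Fin 4 → Fin 5 := ![1, 2, 3, 4]

/-- The cycle pattern of length four. -/
def fFourCycle : Fin 4 → Fin 4 := ![1, 2, 3, 0]

/-- The cycle pattern of length three and one more moved point. -/
def fThreeCycle : Fin 4 → Fin 5 := ![1, 2, 0, 4]

/-- The pattern of two cycles of length two. -/
def fTwoCycles : Fin 4 → Fin 4 := ![1, 0, 3, 2]

variable (g : Equiv.Perm GolayPt)

theorem valid_five : (validTuples (le_of_lt (by norm_num : 4 < 5)) fFiveCycle g).card =
    (Finset.univ.filter fun a => per5 g a).card := by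
  refine Finset.card_bij' (fun v _ => v 0) (fun a _ => ![a, g a, g (g a), g (g (g a)), g (g (g (g a)))])
    (fun v hv => ?_) (fun a ha => ?_) (fun v hv => ?_) fun a _ => rfl
  · obtain ⟨hinj, hval⟩ := (Finset.mem_filter.1 hv).2
    have e0 : g (v 0) = v 1 := hval 0
    have e1 : g (v 1) = v 2 := hval 1
    have e2 : g (v 2) = v 3 := hval 2
    have e3 : g (v 3) = v 4 := hval 3
    simp [per5, e0, e1, e2, e3, hinj.eq_iff]
  · simp only [Finset.mem_filter, Finset.mem_univ, true_and, per5, Bool.and_eq_true,
      decide_eq_true_eq] at ha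
    obtain ⟨⟨⟨h1, h2⟩, h3⟩, h4⟩ := ha
    refine Finset.mem_filter.2 ⟨Finset.mem_univ _, ?_, fun i => by fin_cases i <;> rfl⟩
    intro i j hij
    fin_cases i <;> fin_cases j <;> first | rfl | (simp at hij; grind)
  · obtain ⟨hinj, hval⟩ := (Finset.mem_filter.1 hv).2
    have e0 : g (v 0) = v 1 := hval 0
    have e1 : g (v 1) = v 2 := hval 1
    have e2 : g (v 2) = v 3 := hval 2
    have e3 : g (v 3) = v 4 := hval 3
    funext i
    fin_cases i <;> simp [e0, e1, e2, e3]

theorem valid_four : (validTuples le_rfl fFourCycle g).card =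
    (Finset.univ.filter fun a => per4 g a).card := by
  refine Finset.card_bij' (fun v _ => v 0) (fun a _ => ![a, g a, g (g a), g (g (g a))])
    (fun v hv => ?_) (fun a ha => ?_) (fun v hv => ?_) fun a _ => rfl
  · obtain ⟨hinj, hval⟩ := (Finset.mem_filter.1 hv).2
    have e0 : g (v 0) = v 1 := hval 0
    have e1 : g (v 1) = v 2 := hval 1
    have e2 : g (v 2) = v 3 := hval 2
    have e3 : g (v 3) = v 0 := hval 3
    simp [per4, e0, e1, e2, e3, hinj.eq_iff]
  · simp only [Finset.mem_filter, Finset.mem_univ, true_and, per4, Bool.and_eq_true,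
      decide_eq_true_eq] at ha
    obtain ⟨⟨⟨h1, h2⟩, h3⟩, h4⟩ := ha
    refine Finset.mem_filter.2 ⟨Finset.mem_univ _, ?_, fun i => by fin_cases i <;> first | rfl | exact h4⟩
    intro i j hij
    fin_cases i <;> fin_cases j <;> first | rfl | (simp at hij; grind)
  · obtain ⟨hinj, hval⟩ := (Finset.mem_filter.1 hv).2
    have e0 : g (v 0) = v 1 := hval 0
    have e1 : g (v 1) = v 2 := hval 1
    have e2 : g (v 2) = v 3 := hval 2
    funext i
    fin_cases i <;> simp [e0, e1, e2]

theorem card_moved_add :
    (Finset.univ.filter fun a => ¬ g a = a).card + (Finset.univ.filter fun a => per1 g a).card = 24 := by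
  rw [add_comm, show (Finset.univ.filter fun a => per1 g a) = Finset.univ.filter (fun a => g a = a) from
    Finset.filter_congr fun a _ => by simp [per1]]
  rw [Finset.card_filter_add_card_filter_not, Finset.card_univ, card_golayPt]

theorem valid_three : (validTuples (le_of_lt (by norm_num : 4 < 5)) fThreeCycle g).card =
    (Finset.univ.filter fun a => per3 g a).card *
      (24 - (Finset.univ.filter fun a => per1 g a).card - 3) := by
  have hT : ((Finset.univ.filter fun a => per3 g a).sigma fun a =>
      (Finset.univ.filter fun b => ¬ g b = b) \ {a, g a, g (g a)}).card =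
      (Finset.univ.filter fun a => per3 g a).card *
        (24 - (Finset.univ.filter fun a => per1 g a).card - 3) := by
    rw [Finset.card_sigma, Finset.sum_congr rfl (g := fun _ =>
      24 - (Finset.univ.filter fun a => per1 g a).card - 3) fun a ha => ?_, Finset.sum_const,
      smul_eq_mul]
    simp only [Finset.mem_filter, Finset.mem_univ, true_and, per3, Bool.and_eq_true,
      decide_eq_true_eq] at ha
    obtain ⟨h1, h3⟩ := ha
    have hc : ({a, g a, g (g a)} : Finset GolayPt).card = 3 := by
      rw [Finset.card_eq_three]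
      exact ⟨a, g a, g (g a), Ne.symm h1, fun e => h1 (by conv_rhs => rw [← h3, ← e]),
        fun e => h1 (g.injective e).symm, rfl⟩
    rw [Finset.card_sdiff_of_subset, hc]
    · have := card_moved_add g; omega
    · intro x hx
      simp only [Finset.mem_insert, Finset.mem_singleton] at hx
      refine Finset.mem_filter.2 ⟨Finset.mem_univ _, ?_⟩
      rcases hx with rfl | rfl | rfl
      · exact h1
      · exact fun e => h1 (g.injective e)
      · exact fun e => h1 (g.injective (g.injective e))
  rw [← hT]
  refine Finset.card_bij' (fun v _ => ⟨v 0, v 3⟩) (fun p _ => ![p.1, g p.1, g (g p.1), p.2, g p.2])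
    (fun v hv => ?_) (fun p hp => ?_) (fun v hv => ?_) fun p _ => rfl
  · obtain ⟨hinj, hval⟩ := (Finset.mem_filter.1 hv).2
    have e0 : g (v 0) = v 1 := hval 0
    have e1 : g (v 1) = v 2 := hval 1
    have e2 : g (v 2) = v 0 := hval 2
    have e3 : g (v 3) = v 4 := hval 3
    simp [per3, e0, e1, e2, e3, hinj.eq_iff]
  · simp only [Finset.mem_sigma, Finset.mem_filter, Finset.mem_univ, true_and, per3, Bool.and_eq_true,
      decide_eq_true_eq, Finset.mem_sdiff, Finset.mem_insert, Finset.mem_singleton, not_or] at hp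
    obtain ⟨⟨h1, h3⟩, hb, hb1, hb2, hb3⟩ := hp
    have n2 : g (g p.1) ≠ p.1 := fun e => h1 (by conv_rhs => rw [← h3, e])
    have n3 : g (g p.1) ≠ g p.1 := fun e => h1 (g.injective e)
    have n4 : g p.2 ≠ p.1 := fun e => hb3 (g.injective (e.trans h3.symm))
    have n5 : g p.2 ≠ g p.1 := fun e => hb1 (g.injective e)
    have n6 : g p.2 ≠ g (g p.1) := fun e => hb2 (g.injective e)
    refine Finset.mem_filter.2 ⟨Finset.mem_univ _, ?_, fun i => by fin_cases i <;> first | rfl | exact h3⟩
    intro i j hij
    fin_cases i <;> fin_cases j <;> first | rfl | (simp at hij; grind)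
  · obtain ⟨hinj, hval⟩ := (Finset.mem_filter.1 hv).2
    have e0 : g (v 0) = v 1 := hval 0
    have e1 : g (v 1) = v 2 := hval 1
    have e3 : g (v 3) = v 4 := hval 3
    funext i
    fin_cases i <;> simp [e0, e1, e3]

theorem valid_two : (validTuples le_rfl fTwoCycles g).card =
    (Finset.univ.filter fun a => per2 g a).card *
      ((Finset.univ.filter fun a => per2 g a).card - 2) := by
  set S := Finset.univ.filter fun a => per2 g a with hS
  have hmem : ∀ a, a ∈ S ↔ g a ≠ a ∧ g (g a) = a := fun a => by simp [hS, per2]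
  have hT : (S.sigma fun a => S \ {a, g a}).card = S.card * (S.card - 2) := by
    rw [Finset.card_sigma, Finset.sum_congr rfl (g := fun _ => S.card - 2) fun a ha => ?_,
      Finset.sum_const, smul_eq_mul]
    obtain ⟨h1, h2⟩ := (hmem a).1 ha
    rw [Finset.card_sdiff_of_subset, Finset.card_pair (Ne.symm h1)]
    intro x hx
    simp only [Finset.mem_insert, Finset.mem_singleton] at hx
    rcases hx with rfl | rfl
    · exact ha
    · exact (hmem _).2 ⟨fun e => h1 (g.injective e), by rw [h2]⟩
  rw [← hT]
  refine Finset.card_bij' (fun v _ => ⟨v 0, v 2⟩) (fun p _ => ![p.1, g p.1, p.2, g p.2])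
    (fun v hv => ?_) (fun p hp => ?_) (fun v hv => ?_) fun p _ => rfl
  · obtain ⟨hinj, hval⟩ := (Finset.mem_filter.1 hv).2
    have e0 : g (v 0) = v 1 := hval 0
    have e1 : g (v 1) = v 0 := hval 1
    have e2 : g (v 2) = v 3 := hval 2
    have e3 : g (v 3) = v 2 := hval 3
    simp [hmem, e0, e1, e2, e3, hinj.eq_iff]
  · simp only [Finset.mem_sigma, Finset.mem_sdiff, Finset.mem_insert, Finset.mem_singleton, not_or,
      hmem] at hp
    obtain ⟨⟨h1, h2⟩, ⟨h3, h4⟩, h5, h6⟩ := hp
    refine Finset.mem_filter.2 ⟨Finset.mem_univ _, ?_,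
      fun i => by fin_cases i <;> first | rfl | exact h2 | exact h4⟩
    intro i j hij
    fin_cases i <;> fin_cases j <;> first | rfl | (simp at hij; grind)
  · obtain ⟨hinj, hval⟩ := (Finset.mem_filter.1 hv).2
    have e0 : g (v 0) = v 1 := hval 0
    have e2 : g (v 2) = v 3 := hval 2
    funext i
    fin_cases i <;> simp [e0, e2]

end CfsgLib.M24Classes
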