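import Cfsg.Agent.M24Classes.OrderCounts

/-!
The profiles found on the coset lists of the four patterns.
-/

set_option autoImplicit false

namespace CfsgLib.M24Classes

open Cfsg CfsgLib.Mathieu

/-- An element moving four base points in a four-cycle. -/
def pattern4 : ℕ := 1921617554533834983643154176320365575881379539049710081

/-- The profiles of the elements other than 1, with their numbers. -/
def profCounts : List (Prof × ℕ) :=
  [((5, 20, 0, 0, 0, 4), 4080384), ((6, 12, 0, 6, 4, 2), 10200960),
   ((6, 24, 0, 0, 0, 0), 10200960), ((7, 21, 0, 0, 0, 3), 11658240),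
   ((8, 16, 4, 0, 2, 2), 15301440), ((10, 20, 0, 0, 4, 0), 12241152),
   ((11, 22, 0, 0, 0, 2), 22256640), ((12, 18, 4, 0, 2, 0), 20401920),
   ((12, 24, 0, 0, 0, 0), 20401920), ((14, 21, 0, 0, 2, 1), 34974720),
   ((15, 20, 0, 3, 0, 1), 32643072), ((21, 21, 0, 3, 0, 0), 23316480),
   ((23, 23, 0, 0, 0, 1), 21288960), ((4, 0, 16, 0, 4, 4), 1912680),
   ((4, 0, 16, 0, 8, 0), 637560), ((4, 0, 24, 0, 0, 0), 2550240),
   ((3, 0, 0, 18, 0, 6), 226688), ((3, 0, 0, 24, 0, 0), 485760),
   ((2, 0, 0, 0, 16, 8), 11385), ((2, 0, 0, 0, 24, 0), 31878)]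

/-- The stage of a profile: the first pattern that applies. -/
def stage : Prof → ℕ
  | (_, a5, a4, a3, a2, a1) =>
    if a5 ≠ 0 then 0 else if a4 ≠ 0 then 1 else if a3 * (24 - a1 - 3) ≠ 0 then 2
      else if a2 * (a2 - 2) ≠ 0 then 3 else 4

/-- The weight of a profile for a stage. -/
def weight : ℕ → Prof → ℕ
  | 0, (_, a5, _, _, _, _) => a5
  | 1, (_, _, a4, _, _, _) => a4
  | 2, (_, _, _, a3, _, a1) => a3 * (24 - a1 - 3)
  | _, (_, _, _, _, a2, _) => a2 * (a2 - 2)

/-- A pattern with its stage: every profile of that stage is listed with the right number. -/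
def stageOk (S : List ℕ) (i m c : ℕ) : Bool :=
  let L := S.map fun t => profT (comp c t)
  (L.all fun k => k.1 != 0) &&
    (L.all fun k => stage k != i || (profCounts.map Prod.fst).contains k) &&
    profCounts.all fun kv => stage kv.1 != i ||
      kv.2 * weight i kv.1 == Nat.descFactorial 24 m * L.countP (· == kv.1)

theorem stage_five_ok : stageOk stab4 0 5 pattern7 = true := by decide +kernel

theorem stage_four_ok : stageOk stab4 1 4 pattern4 = true := by decide +kernel

theorem stage_three_ok : stageOk stab4 2 5 pattern3 = true := by decide +kernel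

theorem stage_two_ok : stageOk stab4 3 4 pattern2 = true := by decide +kernel

theorem stage_one_ok :
    (stab5.all fun t => ordT t != 0 && (stage (profT t) != 4 || ordT t == 1)) = true := by
  decide +kernel

theorem patterns_ok : isM24Tab pattern7 = true ∧ isM24Tab pattern4 = true ∧ isM24Tab pattern3 = true ∧
    isM24Tab pattern2 = true ∧
    (∀ i : Fin 4, app pattern7 (idx (m24Base.getD i.val none)) = idx (m24Base.getD (fFiveCycle i).val none)) ∧
    (∀ i : Fin 4, app pattern4 (idx (m24Base.getD i.val none)) = idx (m24Base.getD (fFourCycle i).val none)) ∧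
    (∀ i : Fin 4, app pattern3 (idx (m24Base.getD i.val none)) = idx (m24Base.getD (fThreeCycle i).val none)) ∧
    (∀ i : Fin 4, app pattern2 (idx (m24Base.getD i.val none)) = idx (m24Base.getD (fTwoCycles i).val none)) := by
  decide +kernel

end CfsgLib.M24Classes
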