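import Cfsg.Agent.M24Classes.OrderCountsCheck

/-!
The numbers of elements of each order in `Cfsg.M24`.
-/

set_option autoImplicit false
set_option linter.unusedSectionVars false

namespace CfsgLib.M24Classes

open Cfsg CfsgLib.Mathieu

theorem listOk_spec {α : Type} (g : α → Prof) (S : List α) (st : Prof → ℕ) (wt : Prof → ℕ)
    (P : ℕ) (i : ℕ) (K : List (Prof × ℕ))
    (h : ((((S.map g).all fun k => k.1 != 0) && ((S.map g).all fun k => st k != i || (K.map Prod.fst).contains k)) &&
      K.all fun kv => st kv.1 != i || kv.2 * wt kv.1 == P * (S.map g).countP (· == kv.1)) = true) :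
    (∀ t ∈ S, (g t).1 ≠ 0) ∧ (∀ t ∈ S, st (g t) = i → g t ∈ K.map Prod.fst) ∧
      ∀ kv ∈ K, st kv.1 = i → kv.2 * wt kv.1 = P * S.countP fun t => g t == kv.1 := by
  simp only [Bool.and_eq_true, List.all_eq_true] at h
  obtain ⟨⟨h1, h2⟩, h3⟩ := h
  refine ⟨fun t ht => ?_, fun t ht he => ?_, fun kv hkv he => ?_⟩
  · simpa using h1 _ (List.mem_map.2 ⟨t, ht, rfl⟩)
  · have h' := h2 _ (List.mem_map.2 ⟨t, ht, rfl⟩)
    rw [Bool.or_eq_true, bne_iff_ne, List.contains_iff_mem] at h'
    exact h'.resolve_left fun hne => hne he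
  · have h' := h3 kv hkv
    rw [Bool.or_eq_true, bne_iff_ne, beq_iff_eq, List.countP_map] at h'
    exact h'.resolve_left fun hne => hne he

theorem stageOk_spec {S : List ℕ} {i m c : ℕ} (h : stageOk S i m c = true) :
    (∀ t ∈ S, ordT (comp c t) ≠ 0) ∧
    (∀ t ∈ S, stage (profT (comp c t)) = i → profT (comp c t) ∈ profCounts.map Prod.fst) ∧
    ∀ kv ∈ profCounts, stage kv.1 = i →
      kv.2 * weight i kv.1 = Nat.descFactorial 24 m * S.countP fun t => profT (comp c t) == kv.1 :=
  by
  unfold stageOk at h
  obtain ⟨h1, h2, h3⟩ := listOk_spec (fun t => profT (comp c t)) S stage (weight i)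
    (Nat.descFactorial 24 m) i profCounts h
  refine ⟨fun t ht => ?_, h2, h3⟩
  have h' := h1 t ht
  simp only [profT] at h'
  exact h'

theorem stage_four {o a5 a4 a3 a2 a1 : ℕ} (h : stage (o, a5, a4, a3, a2, a1) = 4) :
    a5 = 0 ∧ a4 = 0 ∧ a3 * (24 - a1 - 3) = 0 ∧ a2 * (a2 - 2) = 0 := by
  unfold stage at h
  simp only [ne_eq, ite_not] at h
  split_ifs at h <;> simp_all

theorem weight_pos {i : ℕ} (hi : i < 4) (k : Prof) (hk : stage k = i) : weight i k ≠ 0 := by
  obtain ⟨o, a5, a4, a3, a2, a1⟩ := k
  unfold stage at hk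
  simp only [ne_eq, ite_not] at hk
  split_ifs at hk <;> subst hk <;> simp_all [weight]

variable [Fintype M24]

/-- The number of elements with a profile of an early stage. -/
theorem card_stage {i m : ℕ} (h4 : 4 ≤ m) (h5 : m ≤ 5) (f : Fin 4 → Fin m) {c : ℕ}
    (hc : isM24Tab c = true)
    (hcf : ∀ j : Fin 4, app c (idx (m24Base.getD j.val none)) = idx (m24Base.getD (f j).val none))
    (hok : stageOk stab4 i m c = true)
    (hw : ∀ g : Equiv.Perm GolayPt, (validTuples h4 f g).card = weight i (prof g))
    (hpos : ∀ k, stage k = i → weight i k ≠ 0) :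
    (∀ g : M24, stage (prof g) = i → prof g ∈ profCounts.map Prod.fst) ∧
      ∀ kv ∈ profCounts, stage kv.1 = i →
        (Finset.univ.filter fun g : M24 => prof g = kv.1).card = kv.2 := by
  obtain ⟨hord, hall, hcnt⟩ := stageOk_spec hok
  have key := fun k => count_pattern h4 h5 f hc hcf hord k (weight i k) (fun g hg => by rw [hw, hg])
  refine ⟨fun g hg => ?_, fun kv hkv he => ?_⟩
  · by_contra hno
    have h := key (prof g)
    have h0 : (stab4.countP fun t => profT (comp c t) == prof g) = 0 := by
      rw [List.countP_eq_zero]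
      intro t ht hb
      rw [beq_iff_eq] at hb
      exact hno (hb ▸ hall t ht (by rw [hb]; exact hg))
    rw [h0, mul_zero, mul_eq_zero] at h
    rcases h with h | h
    · rw [Finset.card_eq_zero, Finset.filter_eq_empty_iff] at h
      exact h (Finset.mem_univ g) rfl
    · exact hpos _ hg h
  · exact Nat.eq_of_mul_eq_mul_right (Nat.pos_of_ne_zero (hpos _ he)) ((key kv.1).trans (hcnt kv hkv he).symm)

/-- An element of the last stage fixes five points. -/
theorem five_fixed_of_stage {g : Equiv.Perm GolayPt} (h : stage (prof g) = 4) : 5 ≤ fixCount g := by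
  obtain ⟨h5, h4, h3, h2⟩ := stage_four h
  rw [Finset.card_eq_zero, Finset.filter_eq_empty_iff] at h5 h4
  have hfix : (Finset.univ.filter fun a => per1 g a).card = fixCount g := by
    rw [fixCount]
    exact congrArg Finset.card (Finset.filter_congr fun a _ => by simp [per1])
  rcases mul_eq_zero.1 h3 with h3 | h3
  · rcases mul_eq_zero.1 h2 with h2 | h2
    all_goals rw [← hfix]
    all_goals
      have hsub : (Finset.univ.filter fun a => ¬ g a = a) ⊆ Finset.univ.filter fun a => per2 g a := by
        intro a ha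
        have ha' := (Finset.mem_filter.1 ha).2
        have n5 := h5 (Finset.mem_univ a)
        have n4 := h4 (Finset.mem_univ a)
        rw [Finset.card_eq_zero, Finset.filter_eq_empty_iff] at h3
        have n3 := h3 (Finset.mem_univ a)
        simp only [per5, per4, per3, Bool.and_eq_true, decide_eq_true_eq] at n5 n4 n3
        refine Finset.mem_filter.2 ⟨Finset.mem_univ _, ?_⟩
        simp only [per2, Bool.and_eq_true, decide_eq_true_eq]
        refine ⟨ha', ?_⟩
        by_contra h22
        by_cases h33 : g (g (g a)) = a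
        · exact n3 ⟨ha', h33⟩
        · by_cases h44 : g (g (g (g a))) = a
          · exact n4 ⟨⟨⟨ha', h22⟩, h33⟩, h44⟩
          · exact n5 ⟨⟨⟨ha', h22⟩, h33⟩, h44⟩
      have hle := Finset.card_le_card hsub
      have := card_moved_add g
      omega
  · have := h3
    omega

/-- The elements of the last stage. -/
theorem eq_one_of_stage {g : M24} (h : stage (prof g) = 4) : g = 1 := by
  obtain ⟨v, hv, hfix⟩ := exists_five_fixed _ (five_fixed_of_stage h)
  obtain ⟨x, hx, hxv⟩ := exists_to_base v hv
  obtain ⟨t, ht, rt⟩ := mem_stab5 (g := x * g * x⁻¹) (mul_mem (mul_mem hx g.2) (inv_mem hx))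
    (fun y hy => by
      obtain ⟨i, hi, rfl⟩ := List.getElem_of_mem hy
      have hi5 : i < 5 := by simp [m24Base] at hi; omega
      have e := hxv ⟨i, hi5⟩
      rw [List.getElem_take, ← List.getD_eq_getElem _ none, ← e, Equiv.Perm.mul_apply,
        Equiv.Perm.mul_apply, perm_inv_apply, hfix])
  have hd := List.all_eq_true.1 stage_one_ok t ht
  simp only [Bool.and_eq_true, bne_iff_ne, Bool.or_eq_true, beq_iff_eq] at hd
  have hp : profT t = prof g := (prof_eq rt hd.1).symm.trans (prof_conj _ _)
  have ho : ordT t = 1 := hd.2.resolve_left fun hne => hne (by rw [hp]; exact h)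
  have : orderOf (x * g * x⁻¹) = 1 := (orderOf_eq_ordT rt hd.1).trans ho
  rw [orderOf_eq_one_iff, conj_eq_one_iff] at this
  exact Subtype.ext this

/-- Every element other than 1 has a listed profile, with the listed number. -/
theorem prof_spec :
    (∀ g : M24, g ≠ 1 → prof g ∈ profCounts.map Prod.fst) ∧
      ∀ kv ∈ profCounts, (Finset.univ.filter fun g : M24 => prof g = kv.1).card = kv.2 := by
  obtain ⟨t5, t4, t3, t2, f5, f4, f3, f2⟩ := patterns_ok
  have s0 := card_stage (i := 0) (le_of_lt (by norm_num : 4 < 5)) le_rfl fFiveCycle t5 f5 stage_five_ok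
    (fun g => valid_five g) (weight_pos (by norm_num))
  have s1 := card_stage (i := 1) le_rfl (by norm_num) fFourCycle t4 f4 stage_four_ok
    (fun g => valid_four g) (weight_pos (by norm_num))
  have s2 := card_stage (i := 2) (le_of_lt (by norm_num : 4 < 5)) le_rfl fThreeCycle t3 f3 stage_three_ok
    (fun g => valid_three g) (weight_pos (by norm_num))
  have s3 := card_stage (i := 3) le_rfl (by norm_num) fTwoCycles t2 f2 stage_two_ok
    (fun g => valid_two g) (weight_pos (by norm_num))
  have hrange : ∀ k, stage k = 0 ∨ stage k = 1 ∨ stage k = 2 ∨ stage k = 3 ∨ stage k = 4 := fun k => by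
    obtain ⟨o, a5, a4, a3, a2, a1⟩ := k
    simp only [stage]
    split_ifs <;> simp
  refine ⟨fun g hg => ?_, fun kv hkv => ?_⟩
  · rcases hrange (prof g) with h | h | h | h | h
    exacts [s0.1 g h, s1.1 g h, s2.1 g h, s3.1 g h, absurd (eq_one_of_stage h) hg]
  · rcases hrange kv.1 with h | h | h | h | h
    exacts [s0.2 kv hkv h, s1.2 kv hkv h, s2.2 kv hkv h, s3.2 kv hkv h,
      absurd h ((by decide : ∀ x ∈ profCounts, stage x.1 ≠ 4) kv hkv)]

omit [Fintype M24] in
/-- The number of elements of order `n ≠ 1`. -/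
theorem card_orderOf {n : ℕ} (hn : n ≠ 1) :
    Nat.card {g : M24 // orderOf g = n} =
      ((profCounts.filter fun kv => kv.1.1 == n).map Prod.snd).sum := by
  classical
  haveI := Fintype.ofFinite M24
  obtain ⟨hmem, hcnt⟩ := prof_spec
  set L := profCounts.filter fun kv => kv.1.1 == n with hL
  have hnd : (L.map Prod.fst).Nodup :=
    List.Nodup.sublist (List.filter_sublist.map _)
      (by decide : (profCounts.map Prod.fst).Nodup)
  have hLn : L.Nodup := hnd.of_map _
  rw [← List.sum_toFinset _ hLn, Nat.card_eq_fintype_card, Fintype.card_subtype,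
    ← Finset.sum_congr rfl fun kv hkv => hcnt kv (List.mem_filter.1 (List.mem_toFinset.1 hkv)).1,
    Finset.card_eq_sum_card_fiberwise (f := fun g : M24 => prof g) (t := L.toFinset.image Prod.fst)
      fun g hg => ?_,
    Finset.sum_image fun a ha b hb e =>
      List.inj_on_of_nodup_map hnd (List.mem_toFinset.1 ha) (List.mem_toFinset.1 hb) e]
  · refine Finset.sum_congr rfl fun kv hkv => ?_
    rw [Finset.filter_filter]
    refine congrArg Finset.card (Finset.filter_congr fun g _ => ⟨fun h => h.2, fun h => ⟨?_, h⟩⟩)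
    have h1 := congrArg Prod.fst h
    simp only [prof] at h1
    rw [← Subgroup.orderOf_coe, h1]
    exact beq_iff_eq.1 (List.mem_filter.1 (List.mem_toFinset.1 hkv)).2
  · rw [Finset.mem_coe, Finset.mem_filter] at hg
    have hg1 : g ≠ 1 := fun e => hn (by rw [← hg.2, e, orderOf_one])
    obtain ⟨kv, hkv, he⟩ := List.mem_map.1 (hmem g hg1)
    refine Finset.mem_coe.2 (Finset.mem_image.2 ⟨kv, List.mem_toFinset.2 (List.mem_filter.2 ⟨hkv, ?_⟩), he⟩)
    rw [beq_iff_eq, he]
    exact (Subgroup.orderOf_coe g).trans hg.2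

/-- The numbers of elements of given orders. -/
def orderCounts : List ℕ :=
  [1, 43263, 712448, 5100480, 4080384, 20401920, 11658240, 15301440, 12241152, 22256640, 40803840,
    34974720, 32643072, 23316480, 21288960]

theorem sums_mem : ∀ n < 24, ((profCounts.filter fun kv => kv.1.1 == n).map Prod.snd).sum = 0 ∨
    ((profCounts.filter fun kv => kv.1.1 == n).map Prod.snd).sum ∈ orderCounts := by
  decide +kernel

omit [Fintype M24] in
/-- A positive number of elements of one order is in the list. -/
theorem card_orderOf_mem {c n : ℕ} (hc : 0 < c) (h : c = Nat.card {g : M24 // orderOf g = n}) :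
    c ∈ orderCounts := by
  by_cases hn : n = 1
  · subst hn
    have : Nat.card {g : M24 // orderOf g = 1} = 1 := Nat.card_eq_one_iff_unique.2
      ⟨⟨fun a b => Subtype.ext ((orderOf_eq_one_iff.1 a.2).trans (orderOf_eq_one_iff.1 b.2).symm)⟩,
        ⟨⟨1, orderOf_one⟩⟩⟩
    rw [h, this]
    decide
  rw [card_orderOf hn] at h
  by_cases h24 : n < 24
  · rcases sums_mem n h24 with h' | h'
    · omega
    · exact h ▸ h'
  · exfalso
    have hz : (profCounts.filter fun kv => kv.1.1 == n) = [] := by
      rw [List.filter_eq_nil_iff]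
      intro kv hkv hb
      have key : ∀ x ∈ profCounts, x.1.1 < 24 := by decide
      rw [beq_iff_eq] at hb
      exact h24 (hb ▸ key kv hkv)
    rw [hz] at h
    simp at h
    omega

end CfsgLib.M24Classes
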