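import Cfsg.Agent.M24Classes.Table

/-! Elements of the group permuting standard six-point sets. -/

set_option autoImplicit false

namespace CfsgLib.M24Classes

/-- Elements inducing a six-cycle and a transposition. -/
def sixInTabs : ℕ × ℕ := (774505306333614614704878256382518841575929395722519041, 1444957513170524984853006539198641014793200255065260311)

/-- Elements inducing a six-cycle and a transposition. -/
def sixOutTabs : ℕ × ℕ := (1348439945085182494047586341804693381295612188269150721, 2115054586705170853025530196429939757261993707391025431)

end CfsgLib.M24Classes
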