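import Cfsg.Agent.M24Classes.OrbitHelpers
import Cfsg.Agent.M24Classes.SixSetData

/-!
Sets of six points: the group induces the full symmetric group, and the pointwise stabilisers.
-/

set_option autoImplicit false

namespace CfsgLib.M24Classes

open Cfsg CfsgLib.Mathieu
open scoped Pointwise

/-- Standard six points inside an octad. -/
def sixIn (i : Fin 6) : GolayPt := m24Base.getD i.val none

/-- Standard six points in no octad. -/
def sixOut (i : Fin 6) : GolayPt := m24Base.getD (if i = 5 then 6 else i.val) none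

/-- The table induces the permutation on the six points. -/
def induces (t : ℕ) (f : Fin 6 → GolayPt) (σ : Equiv.Perm (Fin 6)) : Bool :=
  decide (∀ i, app t (idx (f i)) = idx (f (σ i)))

theorem six_full (f : Fin 6 → GolayPt) {tt : ℕ × ℕ} (h1 : isM24Tab tt.1 = true) (h2 : isM24Tab tt.2 = true)
    (e1 : induces tt.1 f (finRotate 6) = true) (e2 : induces tt.2 f (Equiv.swap 0 (finRotate 6 0)) = true)
    (σ : Equiv.Perm (Fin 6)) : ∃ g ∈ M24, ∀ i, g (f i) = f (σ i) := by
  let H : Subgroup (Equiv.Perm (Fin 6)) :=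
    { carrier := {σ | ∃ g ∈ M24, ∀ i, g (f i) = f (σ i)}
      one_mem' := ⟨1, one_mem _, fun _ => rfl⟩
      mul_mem' := by
        rintro a b ⟨g, hg, ha⟩ ⟨h, hh, hb⟩
        exact ⟨g * h, mul_mem hg hh, fun i => by rw [Equiv.Perm.mul_apply, hb, ha]; rfl⟩
      inv_mem' := by
        rintro a ⟨g, hg, ha⟩
        refine ⟨g⁻¹, inv_mem hg, fun i => ?_⟩
        rw [Equiv.Perm.inv_eq_iff_eq, ha, perm_apply_inv] }
  have hmem : ∀ {t : ℕ} {τ : Equiv.Perm (Fin 6)}, isM24Tab t = true → induces t f τ = true → τ ∈ H := by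
    intro t τ h e
    obtain ⟨g, hg, r⟩ := inGroup_of_isM24Tab h
    exact ⟨g, hg, fun i => r.apply_eq enc (of_decide_eq_true e i)⟩
  have htop := Equiv.Perm.closure_cycle_adjacent_swap (isCycle_finRotate (n := 4)) support_finRotate (0 : Fin 6)
  have : σ ∈ H := by
    have hle : Subgroup.closure {finRotate 6, Equiv.swap (0 : Fin 6) (finRotate 6 0)} ≤ H := by
      rw [Subgroup.closure_le, Set.insert_subset_iff, Set.singleton_subset_iff]
      exact ⟨hmem h1 e1, hmem h2 e2⟩
    exact hle (htop ▸ Subgroup.mem_top σ)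
  exact this

theorem six_checks :
    (isM24Tab sixInTabs.1 = true ∧ isM24Tab sixInTabs.2 = true ∧ induces sixInTabs.1 sixIn (finRotate 6) = true ∧
      induces sixInTabs.2 sixIn (Equiv.swap 0 (finRotate 6 0)) = true) ∧
    (isM24Tab sixOutTabs.1 = true ∧ isM24Tab sixOutTabs.2 = true ∧ induces sixOutTabs.1 sixOut (finRotate 6) = true ∧
      induces sixOutTabs.2 sixOut (Equiv.swap 0 (finRotate 6 0)) = true) ∧
    Function.Injective sixIn ∧ Function.Injective sixOut := by decide +kernel

theorem six_position_checks : (∀ i, sixIn i ∈ setOf24 m24BaseOctad) ∧ sixOut 5 ∉ setOf24 m24BaseOctad ∧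
    (∀ i : Fin 5, sixIn i.castSucc = m24Base.getD i.val none ∧ sixOut i.castSucc = m24Base.getD i.val none) ∧
    (∀ x ∈ m24Base.take 5, ∃ i : Fin 5, x = m24Base.getD i.val none) ∧
    (∀ i : Fin 5, m24Base.getD i.val none ∈ m24Base.take 5) ∧
    (∀ q ∈ setOf24 m24BaseOctad, q ∉ m24Base.take 5 → q ∈ setOf24 m24BaseRest) ∧
    (isCode m24BaseOctad = true ∧ wt m24BaseOctad = 8) := by decide +kernel

theorem six_octad_check : octList.all (fun M => M == m24BaseOctad ||
    !((m24Base.take 5).all fun x => M.testBit (idx x))) = true := by decide +kernel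

theorem pack_congr' {f g : ℕ → ℕ} : ∀ n, (∀ i < n, f i = g i) → pack f n = pack g n
  | 0, _ => rfl
  | n + 1, h => by
    simp only [pack]
    rw [pack_congr' n fun i hi => h i (hi.trans (Nat.lt_succ_self n)), h n (Nat.lt_succ_self n)]

/-- The tables fixing the six points. -/
def sixFixTabs (f : Fin 6 → GolayPt) : List ℕ :=
  stab5.filter fun t => decide (∀ i, app t (idx (f i)) = idx (f i))

theorem stab5_nodup : stab5.Nodup := by decide +kernel

theorem sixFix_lengths : (sixFixTabs sixIn).length = 16 ∧ (sixFixTabs sixOut).length = 3 ∧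
    stab5.all (fun t => allBelow 24 (fun i => app t i < 24) && (pack (app t) 24 == t)) = true := by
  decide +kernel

theorem inGroup_stab5 {t : ℕ} (ht : t ∈ stab5) : InGroup enc M24 t := by
  simp only [stab5, List.mem_flatMap, List.mem_map] at ht
  obtain ⟨b, hb, d, hd, rfl⟩ := ht
  obtain ⟨σ, hσ, rσ⟩ := trans_inGroup b (by simp [hb])
  obtain ⟨τ, hτ, rτ⟩ := trans_inGroup d (by simp [hd])
  exact ⟨σ * τ, mul_mem hσ hτ, rep_comp rσ rτ⟩

theorem card_six_fix (f : Fin 6 → GolayPt) (hf : ∀ i : Fin 5, f i.castSucc = m24Base.getD i.val none) :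
    Nat.card {g : Equiv.Perm GolayPt // g ∈ M24 ∧ ∀ i, g (f i) = f i} = (sixFixTabs f).length := by
  have hmem : ∀ t ∈ sixFixTabs f, ∃ g : {g : Equiv.Perm GolayPt // g ∈ M24 ∧ ∀ i, g (f i) = f i},
      Rep enc g.1 t := by
    intro t ht
    obtain ⟨h5, hd⟩ := List.mem_filter.mp ht
    obtain ⟨g, hg, r⟩ := inGroup_stab5 h5
    exact ⟨⟨g, hg, fun i => r.apply_eq enc (of_decide_eq_true hd i)⟩, r⟩
  let φ : {t // t ∈ (sixFixTabs f).toFinset} → {g : Equiv.Perm GolayPt // g ∈ M24 ∧ ∀ i, g (f i) = f i} :=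
    fun t => (hmem t.1 (List.mem_toFinset.mp t.2)).choose
  have hφ : ∀ t, Rep enc (φ t).1 t.1 := fun t => (hmem t.1 (List.mem_toFinset.mp t.2)).choose_spec
  have hbij : Function.Bijective φ := by
    constructor
    · intro a b e
      apply Subtype.ext
      have ha := (List.mem_filter.mp (List.mem_toFinset.mp a.2)).1
      have hb := (List.mem_filter.mp (List.mem_toFinset.mp b.2)).1
      have h := List.all_eq_true.mp sixFix_lengths.2.2
      obtain ⟨-, pa⟩ := Bool.and_eq_true_iff.mp (h _ ha)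
      obtain ⟨-, pb⟩ := Bool.and_eq_true_iff.mp (h _ hb)
      rw [beq_iff_eq] at pa pb
      rw [← pa, ← pb]
      refine pack_congr' 24 fun i hi => ?_
      have h1 := hφ a (pt i)
      have h2 := hφ b (pt i)
      rw [e] at h1
      change app a.1 (idx (pt i)) = _ at h1
      change app b.1 (idx (pt i)) = _ at h2
      rw [idx_pt hi] at h1 h2
      rw [h1, h2]
    · rintro ⟨g, hg, hfix⟩
      obtain ⟨t, ht, r⟩ := mem_stab5 hg fun x hx => by
        obtain ⟨i, rfl⟩ := six_position_checks.2.2.2.1 x hx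
        rw [← hf]; exact hfix _
      have htf : t ∈ sixFixTabs f := List.mem_filter.mpr ⟨ht, decide_eq_true fun i => by
        have := r (f i)
        rw [hfix i] at this
        exact this⟩
      exact ⟨⟨t, List.mem_toFinset.mpr htf⟩, Subtype.ext (rep_unique (hφ _) r)⟩
  rw [← Nat.card_eq_of_bijective φ hbij, Nat.card_eq_fintype_card, Fintype.card_coe,
    List.toFinset_card_of_nodup (show (sixFixTabs f).Nodup from stab5_nodup.filter _)]

/-- Every set of six points is an image of one of the two standard ones. -/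
theorem six_standard {E : Finset GolayPt} (hE : E.card = 6) : ∃ a ∈ M24, ∃ f : Fin 6 → GolayPt,
    Function.Injective f ∧ (f = sixIn ∨ f = sixOut) ∧ E = Finset.univ.image fun i => a (f i) := by
  let e := (Finset.equivFinOfCardEq hE).symm
  have he : Function.Injective fun i => (e i).1 := fun _ _ h => e.injective (Subtype.ext h)
  obtain ⟨a, ha, hae⟩ := M24_map_five (fun i : Fin 5 => m24Base.getD i.val none) (fun i => (e i.castSucc).1)
    (fun i j h => Fin.castSucc_injective 5 (six_checks.2.2.1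
      ((six_position_checks.2.2.1 i).1.trans (h.trans (six_position_checks.2.2.1 j).1.symm))))
    (he.comp (Fin.castSucc_injective 5))
  set q := a⁻¹ (e 5).1 with hq
  have hq5 : q ∉ m24Base.take 5 := fun h => by
    obtain ⟨i, hi⟩ := six_position_checks.2.2.2.1 q h
    have h' : (e 5).1 = (e i.castSucc).1 := by rw [← hae, ← hi, hq, perm_apply_inv]
    have := congrArg Fin.val (he h')
    simp at this
    omega
  obtain ⟨τ, hτ, hfix, f, hf, hfi, hτ5⟩ : ∃ τ ∈ M24, (∀ i : Fin 5, τ (m24Base.getD i.val none) = m24Base.getD i.val none) ∧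
      ∃ f : Fin 6 → GolayPt, (f = sixIn ∨ f = sixOut) ∧ Function.Injective f ∧ τ (f 5) = q := by
    by_cases hO : q ∈ setOf24 m24BaseOctad
    · obtain ⟨t, ht, τ, hτ, -, fτ, eτ⟩ := exists_trans (fun t ht => trans_inGroup t (by simp [ht])) 5 _
        (cover5 q (six_position_checks.2.2.2.2.2.1 q hO hq5))
      exact ⟨τ, hτ, fun i => fτ _ (six_position_checks.2.2.2.2.1 i), sixIn, Or.inl rfl, six_checks.2.2.1, eτ⟩
    · obtain ⟨t, ht, τ, hτ, -, fτ, eτ⟩ := exists_trans (fun t ht => trans_inGroup t (by simp [ht])) 6 _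
        (cover6 q (Finset.mem_compl.mpr hO))
      exact ⟨τ, hτ, fun i => fτ _ ((List.take_sublist_take_left (by norm_num : 5 ≤ 6)).subset
        (six_position_checks.2.2.2.2.1 i)), sixOut, Or.inr rfl, six_checks.2.2.2, eτ⟩
  refine ⟨a * τ, mul_mem ha hτ, f, hfi, hf, ?_⟩
  have key : ∀ i, (a * τ) (f i) = (e i).1 := by
    intro i
    induction i using Fin.lastCases with
    | last => rw [Equiv.Perm.mul_apply, show Fin.last 5 = (5 : Fin 6) from rfl, hτ5, hq, perm_apply_inv]
    | cast j =>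
      have : f j.castSucc = m24Base.getD j.val none := by
        rcases hf with rfl | rfl
        · exact (six_position_checks.2.2.1 j).1
        · exact (six_position_checks.2.2.1 j).2
      rw [Equiv.Perm.mul_apply, this, hfix, hae]
  simp only [key]
  ext p
  simp only [Finset.mem_image, Finset.mem_univ, true_and]
  exact ⟨fun hp => ⟨e.symm ⟨p, hp⟩, by rw [Equiv.apply_symm_apply]⟩, fun ⟨i, hi⟩ => hi ▸ (e i).2⟩

theorem octad_superset_std (a : Equiv.Perm GolayPt) (ha : a ∈ M24) :
    (∃ o ∈ octads, (Finset.univ.image fun i => a (sixIn i)) ⊆ o) ∧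
      ¬ ∃ o ∈ octads, (Finset.univ.image fun i => a (sixOut i)) ⊆ o := by
  obtain ⟨hin, hout, hc, h5, h5', -, hcode⟩ := six_position_checks
  constructor
  · refine ⟨a • setOf24 m24BaseOctad, octad_image ha (setOf24_mem_wordsOfWeight hcode.1 hcode.2), ?_⟩
    rw [Finset.image_subset_iff]
    exact fun i _ => Finset.smul_mem_smul_finset (hin i)
  · rintro ⟨o, ho, hsub⟩
    have ho' : a⁻¹ • o ∈ octads := octad_image (inv_mem ha) ho
    have hm : ∀ i, sixOut i ∈ a⁻¹ • o := fun i => by
      rw [Finset.mem_inv_smul_finset_iff]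
      exact hsub (Finset.mem_image_of_mem (fun i => a (sixOut i)) (Finset.mem_univ i))
    have hM : maskOf (a⁻¹ • o) ∈ octList := mem_octList.mpr ((mem_wordsOfWeight_iff _ 8).mp ho')
    have h := List.all_eq_true.mp six_octad_check _ hM
    have hall : ((m24Base.take 5).all fun x => (maskOf (a⁻¹ • o)).testBit (idx x)) = true := by
      rw [List.all_eq_true]
      intro x hx
      obtain ⟨i, rfl⟩ := h5 x hx
      rw [← mem_setOf24, setOf24_maskOf, ← (hc i).2]
      exact hm _
    rw [hall, Bool.not_true, Bool.or_false, beq_iff_eq] at h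
    exact hout (h ▸ (setOf24_maskOf (a⁻¹ • o)).symm ▸ hm 5)

theorem six_sets {E : Finset GolayPt} (hE : E.card = 6) :
    (∀ σ : Equiv.Perm ↥E, ∃ g ∈ M24, ∀ p : ↥E, g p = σ p) ∧
    ((∃ o ∈ octads, E ⊆ o) → Nat.card {g : Equiv.Perm GolayPt // g ∈ M24 ∧ ∀ p ∈ E, g p = p} = 16) ∧
    ((¬ ∃ o ∈ octads, E ⊆ o) → Nat.card {g : Equiv.Perm GolayPt // g ∈ M24 ∧ ∀ p ∈ E, g p = p} = 3 ∧
      Nat.card ↥(MulAction.stabilizer M24 E) = 2160) := by
  obtain ⟨a, ha, f, hfi, hf, rfl⟩ := six_standard hE
  have hafi : Function.Injective fun i => a (f i) := a.injective.comp hfi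
  have hfull : ∀ σ : Equiv.Perm (Fin 6), ∃ g ∈ M24, ∀ i, g (f i) = f (σ i) := by
    rcases hf with rfl | rfl
    · obtain ⟨⟨h1, h2, e1, e2⟩, -⟩ := six_checks; exact six_full _ h1 h2 e1 e2
    · obtain ⟨-, ⟨h1, h2, e1, e2⟩, -⟩ := six_checks; exact six_full _ h1 h2 e1 e2
  set E := Finset.univ.image fun i => a (f i)
  have hmemE : ∀ i, a (f i) ∈ E := fun i => Finset.mem_image_of_mem _ (Finset.mem_univ i)
  let u : Fin 6 ≃ ↥E := Equiv.ofBijective (fun i => ⟨a (f i), hmemE i⟩)
    ⟨fun i j h => hafi (congrArg Subtype.val h), fun p => by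
      obtain ⟨i, -, hi⟩ := Finset.mem_image.mp p.2
      exact ⟨i, Subtype.ext hi⟩⟩
  have hall : ∀ σ : Equiv.Perm ↥E, ∃ g ∈ M24, ∀ p : ↥E, g p = σ p := by
    intro σ
    obtain ⟨g, hg, hgi⟩ := hfull (u.symm.permCongr σ)
    refine ⟨a * g * a⁻¹, mul_mem (mul_mem ha hg) (inv_mem ha), fun p => ?_⟩
    obtain ⟨i, rfl⟩ := u.surjective p
    show a (g (a⁻¹ (a (f i)))) = _
    rw [perm_inv_apply, hgi]
    have : u ((u.symm.permCongr σ) i) = σ (u i) := by simp [Equiv.permCongr_apply]
    exact congrArg Subtype.val this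
  have hcard : Nat.card {g : Equiv.Perm GolayPt // g ∈ M24 ∧ ∀ p ∈ E, g p = p} = (sixFixTabs f).length := by
    rw [← card_six_fix f (fun i => by
      rcases hf with rfl | rfl
      · exact (six_position_checks.2.2.1 i).1
      · exact (six_position_checks.2.2.1 i).2)]
    refine Nat.card_congr ((MulAut.conj a⁻¹).toEquiv.subtypeEquiv fun g => ?_)
    simp only [MulEquiv.toEquiv_eq_coe, EquivLike.coe_coe, MulAut.conj_apply, inv_inv]
    constructor
    · rintro ⟨hg, hp⟩
      refine ⟨mul_mem (mul_mem (inv_mem ha) hg) ha, fun i => ?_⟩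
      rw [Equiv.Perm.mul_apply, Equiv.Perm.mul_apply, hp _ (hmemE i), perm_inv_apply]
    · rintro ⟨hg, hp⟩
      refine ⟨?_, fun p hp' => ?_⟩
      · have := mul_mem (mul_mem ha hg) (inv_mem ha)
        simpa [mul_assoc] using this
      · obtain ⟨i, -, rfl⟩ := Finset.mem_image.mp hp'
        have := hp i
        rwa [Equiv.Perm.mul_apply, Equiv.Perm.mul_apply, Equiv.Perm.inv_eq_iff_eq] at this
  refine ⟨hall, fun h => ?_, fun h => ?_⟩
  · rcases hf with rfl | rfl
    · rw [hcard, sixFix_lengths.1]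
    · exact absurd h (octad_superset_std a ha).2
  · rcases hf with rfl | rfl
    · exact absurd (octad_superset_std a ha).1 h
    · refine ⟨hcard.trans sixFix_lengths.2.1, ?_⟩
      set K := MulAction.stabilizer M24 E
      have hinv : ∀ g : ↥K, ∀ x, (g.1.1 : Equiv.Perm GolayPt) x ∈ E ↔ x ∈ E := fun g x => by
        conv_lhs => rw [← (show (g.1.1 : Equiv.Perm GolayPt) • E = E from g.2)]
        exact Finset.smul_mem_smul_finset_iff (g.1.1 : Equiv.Perm GolayPt)
      let φ : ↥K →* Equiv.Perm ↥E :=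
        { toFun := fun g => (g.1.1 : Equiv.Perm GolayPt).subtypePerm (hinv g)
          map_one' := by ext x; rfl
          map_mul' := fun g g' => by ext x; rfl }
      have hsurj : Function.Surjective φ := fun σ => by
        obtain ⟨g, hg, hgp⟩ := hall σ
        have hgE : g • E = E := Finset.eq_of_subset_of_card_le (fun x hx => by
          obtain ⟨p, hp, rfl⟩ := Finset.mem_smul_finset.mp hx
          show g p ∈ E
          rw [show g p = σ ⟨p, hp⟩ from hgp ⟨p, hp⟩]; exact (σ ⟨p, hp⟩).2)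
          (by rw [Finset.card_smul_finset])
        exact ⟨⟨⟨g, hg⟩, hgE⟩, Equiv.ext fun p => Subtype.ext (hgp p)⟩
      have hker : Nat.card φ.ker = 3 := by
        rw [← sixFix_lengths.2.1, ← hcard]
        refine Nat.card_congr ⟨fun g => ⟨g.1.1.1, g.1.1.2, fun p hp =>
            congrArg Subtype.val (Equiv.Perm.ext_iff.mp (MonoidHom.mem_ker.mp g.2) ⟨p, hp⟩)⟩,
          fun g => ⟨⟨⟨g.1, g.2.1⟩, Finset.eq_of_subset_of_card_le (fun x hx => by
              obtain ⟨p, hp, rfl⟩ := Finset.mem_smul_finset.mp hx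
              show g.1 p ∈ E
              rw [g.2.2 p hp]; exact hp) (by rw [Finset.card_smul_finset])⟩,
            MonoidHom.mem_ker.mpr (Equiv.ext fun p => Subtype.ext (g.2.2 p.1 p.2))⟩, fun _ => rfl, fun _ => rfl⟩
      rw [Subgroup.card_eq_card_quotient_mul_card_subgroup φ.ker, hker,
        Nat.card_congr (QuotientGroup.quotientKerEquivOfSurjective φ hsurj).toEquiv, Nat.card_perm,
        Nat.card_eq_fintype_card, Fintype.card_coe, Finset.card_image_of_injective _ hafi]
      rfl

end CfsgLib.M24Classes
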