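import Cfsg.Agent.GolayConfig.ThreePoints
import Cfsg.Agent.M24Classes.ThreePointData
import Cfsg.Agent.M24Classes.Configs

/-!
The stabiliser of a dodecad and three of its points: Sylow subgroups.
-/

set_option autoImplicit false

namespace CfsgLib.M24Classes

open Cfsg CfsgLib.Mathieu CfsgLib.GolayConfig
open scoped Pointwise

/-- Abstract consequences for a group of order 72. -/
theorem sylow_facts {G : Type*} [Group G] (hcard : Nat.card G = 72)
    (hmul : ∀ x y : G, x ^ 3 = 1 → y ^ 3 = 1 → (x * y) ^ 3 = 1) (h9 : ∀ x : G, x ^ 9 = 1 → x ^ 3 = 1)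
    (hn : Nat.card {x : G // x ^ 3 = 1} = 9) (φ : QuaternionGroup 2 →* G) (hφ : Function.Injective φ) :
    (∀ Q : Sylow 3 G, (Q : Subgroup G).Normal ∧ Nat.card ↥Q = 9 ∧ ∀ x ∈ (Q : Subgroup G), x ^ 3 = 1) ∧
      ∀ P : Sylow 2 G, Nonempty (↥P ≃* QuaternionGroup 2) := by
  have : Finite G := Nat.finite_of_card_ne_zero (by omega)
  have hfac : (72 : ℕ).factorization 3 = 2 ∧ (72 : ℕ).factorization 2 = 3 := by
    rw [show (72 : ℕ) = 2 ^ 3 * 3 ^ 2 by norm_num, Nat.factorization_mul (by norm_num) (by norm_num),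
      Nat.prime_two.factorization_pow, Nat.prime_three.factorization_pow]
    simp
  refine ⟨fun Q => ?_, fun P => ?_⟩
  · have hQ : Nat.card ↥(Q : Subgroup G) = 9 := by rw [Q.card_eq_multiplicity, hcard, hfac.1]; norm_num
    let N : Subgroup G :=
      { carrier := {x | x ^ 3 = 1}
        one_mem' := one_pow 3
        mul_mem' := fun {a b} ha hb => hmul a b ha hb
        inv_mem' := fun {a} ha => by
          show a⁻¹ ^ 3 = 1
          rw [inv_pow, show a ^ 3 = 1 from ha, inv_one] }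
    have hle : (Q : Subgroup G) ≤ N := fun x hx => h9 x (by
      have := congrArg Subtype.val (pow_card_eq_one' (x := (⟨x, hx⟩ : ↥(Q : Subgroup G))))
      rw [hQ] at this
      exact this)
    have hEq : (Q : Subgroup G) = N := Subgroup.eq_of_le_of_card_ge hle (le_of_eq (hn.trans hQ.symm))
    refine ⟨?_, hQ, fun x hx => hle hx⟩
    rw [hEq]
    exact ⟨fun x hx g => show (g * x * g⁻¹) ^ 3 = 1 by rw [conj_pow, show x ^ 3 = 1 from hx]; group⟩
  · have hc : Nat.card φ.range = 2 ^ (Nat.card G).factorization 2 := by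
      rw [hcard, hfac.2, ← Nat.card_congr (MonoidHom.ofInjective hφ).toEquiv, Nat.card_eq_fintype_card,
        QuaternionGroup.card]
      norm_num
    exact ⟨(P.equiv (Sylow.ofCard φ.range hc)).trans (MonoidHom.ofInjective hφ).symm⟩

/-- The identity table. -/
def idTab24 : ℕ := pack id 24

/-- The table is a cube root of one. -/
def isCubeRoot (t : ℕ) : Bool := comp t (comp t t) == idTab24

/-- Coded quaternion group. -/
def quatTab : QuaternionGroup 2 → ℕ
  | .a i => quatA.getD i.val 0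
  | .xa i => quatXA.getD i.val 0

theorem three_checks :
    threeTabs.length = 72 ∧ threeTabs.Nodup ∧ (threeTabs.filter isCubeRoot).length = 9 ∧
    threeTabs.all (fun t => isM24Tab t && push t 24 cD == cD && app t 0 == 0 && app t 1 == 1 && app t 2 == 2 &&
      pack (app t) 24 == t) = true ∧
    (threeTabs.filter isCubeRoot).all (fun a => (threeTabs.filter isCubeRoot).all fun b => isCubeRoot (comp a b)) = true ∧
    threeTabs.all (fun t => isCubeRoot t || !(isCubeRoot (comp t (comp t t)))) = true ∧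
    (∀ i : ZMod (2 * 2), quatTab (.a i) ∈ threeTabs ∧ quatTab (.xa i) ∈ threeTabs) ∧
    (∀ i j : ZMod (2 * 2), quatTab (.a i * .a j) = comp (quatTab (.a i)) (quatTab (.a j)) ∧
      quatTab (.a i * .xa j) = comp (quatTab (.a i)) (quatTab (.xa j)) ∧
      quatTab (.xa i * .a j) = comp (quatTab (.xa i)) (quatTab (.a j)) ∧
      quatTab (.xa i * .xa j) = comp (quatTab (.xa i)) (quatTab (.xa j))) ∧
    (∀ i j : ZMod (2 * 2), (quatTab (.a i) = quatTab (.a j) → i = j) ∧
      (quatTab (.xa i) = quatTab (.xa j) → i = j) ∧ quatTab (.a i) ≠ quatTab (.xa j)) := by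
  decide +kernel

attribute [local irreducible] threeTabs quatA quatXA idTab24 isCubeRoot

/-- The table of a permutation. -/
def tabOf (g : Equiv.Perm GolayPt) : ℕ := pack (fun i => idx (g (pt i))) 24

theorem rep_tabOf (g : Equiv.Perm GolayPt) : Rep enc g (tabOf g) := fun x => by
  show app (tabOf g) (idx x) = idx (g x)
  rw [tabOf, app_pack _ 24 (fun i _ => lt_trans (idx_lt _) (by norm_num)) _ (idx_lt x), pt_idx]

theorem pack_ext {f g : ℕ → ℕ} : ∀ n, (∀ i < n, f i = g i) → pack f n = pack g n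
  | 0, _ => rfl
  | n + 1, h => by
    simp only [pack]
    rw [pack_ext n fun i hi => h i (hi.trans (Nat.lt_succ_self n)), h n (Nat.lt_succ_self n)]

theorem tabOf_eq_of_rep {g : Equiv.Perm GolayPt} {t : ℕ} (r : Rep enc g t) (hn : pack (app t) 24 = t) :
    tabOf g = t := by
  rw [← hn, tabOf]
  refine pack_ext 24 fun i hi => ?_
  have := r (pt i)
  change app t (idx (pt i)) = idx (g (pt i)) at this
  rw [idx_pt hi] at this
  exact this.symm

theorem tabOf_mul (g h : Equiv.Perm GolayPt) : tabOf (g * h) = comp (tabOf g) (tabOf h) := by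
  rw [comp]
  refine pack_ext 24 fun i hi => ?_
  have h2 := rep_tabOf h (pt i)
  have h1 := rep_tabOf g (h (pt i))
  change app (tabOf h) (idx (pt i)) = idx (h (pt i)) at h2
  change app (tabOf g) (idx (h (pt i))) = idx (g (h (pt i))) at h1
  rw [idx_pt hi] at h2
  rw [h2, h1]
  rfl

theorem tabOf_one : tabOf 1 = idTab24 := by
  rw [idTab24, tabOf]
  exact pack_ext 24 fun i hi => idx_pt hi

theorem tabOf_injective : Function.Injective tabOf := fun g h e => by
  have hh := rep_tabOf h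
  rw [← e] at hh
  exact rep_unique (rep_tabOf g) hh

attribute [local irreducible] tabOf comp

theorem pow_three_iff (x : ↥H9) : x ^ 3 = 1 ↔ isCubeRoot (tabOf x.1) = true := by
  rw [isCubeRoot, beq_iff_eq, ← tabOf_mul, ← tabOf_mul, ← tabOf_one, tabOf_injective.eq_iff,
    show x.1 * (x.1 * x.1) = (x ^ 3 : ↥H9).1 by simp [pow_succ, mul_assoc]]
  exact ⟨fun h => congrArg Subtype.val h, fun h => Subtype.ext h⟩

theorem H9_of_tab {t : ℕ} (ht : t ∈ threeTabs) : ∃ x : ↥H9, tabOf x.1 = t := by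
  have h := List.all_eq_true.mp three_checks.2.2.2.1 t ht
  simp only [Bool.and_eq_true, beq_iff_eq] at h
  obtain ⟨⟨⟨⟨⟨hm, hD⟩, h0⟩, h1⟩, h2⟩, hn⟩ := h
  obtain ⟨σ, hσ, r⟩ := inGroup_of_isM24Tab hm
  have hp : ∀ i < 24, app t i = i → σ (pt i) = pt i := fun i hi e => r.apply_eq enc (by
    change app t (idx (pt i)) = idx (pt i)
    rw [idx_pt hi, e])
  refine ⟨⟨σ, ⟨⟨⟨hσ, ?_⟩, ?_⟩, ?_⟩, ?_⟩, tabOf_eq_of_rep r hn⟩
  · show σ • setOf24 cD = setOf24 cD
    rw [smul_setOf24 r, hD]
  · exact hp 0 (by norm_num) h0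
  · exact hp 1 (by norm_num) h1
  · exact hp 2 (by norm_num) h2

theorem tabOf_mem (x : ↥H9) : tabOf x.1 ∈ threeTabs := by
  let f : {t // t ∈ threeTabs.toFinset} → ↥H9 := fun t => (H9_of_tab (List.mem_toFinset.mp t.2)).choose
  have hf : ∀ t, tabOf (f t).1 = t.1 := fun t => (H9_of_tab (List.mem_toFinset.mp t.2)).choose_spec
  have hinj : Function.Injective f := fun a b e => Subtype.ext (by rw [← hf a, ← hf b, e])
  have hb : Function.Bijective f := by
    have : Finite ↥H9 := Nat.finite_of_card_ne_zero (by rw [card_H9]; norm_num)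
    refine hinj.bijective_of_nat_card_le ?_
    rw [card_H9, Nat.card_eq_fintype_card, Fintype.card_coe, List.toFinset_card_of_nodup three_checks.2.1,
      three_checks.1]
  obtain ⟨t, rfl⟩ := hb.2 x
  rw [hf]
  exact List.mem_toFinset.mp t.2

theorem H9_cube_mul (x y : ↥H9) (hx : x ^ 3 = 1) (hy : y ^ 3 = 1) : (x * y) ^ 3 = 1 := by
  rw [pow_three_iff, Subgroup.coe_mul, tabOf_mul]
  exact List.all_eq_true.mp (List.all_eq_true.mp three_checks.2.2.2.2.1 _
    (List.mem_filter.mpr ⟨tabOf_mem x, (pow_three_iff x).mp hx⟩)) _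
    (List.mem_filter.mpr ⟨tabOf_mem y, (pow_three_iff y).mp hy⟩)

theorem H9_nine (x : ↥H9) (hx : x ^ 9 = 1) : x ^ 3 = 1 := by
  have h1 : isCubeRoot (tabOf (x ^ 3 : ↥H9).1) = true := (pow_three_iff _).mp (by rw [← pow_mul]; exact hx)
  have h2 := List.all_eq_true.mp three_checks.2.2.2.2.2.1 _ (tabOf_mem x)
  rw [← tabOf_mul, ← tabOf_mul, show x.1 * (x.1 * x.1) = (x ^ 3 : ↥H9).1 by simp [pow_succ, mul_assoc],
    h1, Bool.not_true, Bool.or_false] at h2
  exact (pow_three_iff x).mpr h2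

theorem card_toFinset_coe (L : List ℕ) (h : L.Nodup) : Nat.card {t // t ∈ L.toFinset} = L.length := by
  rw [Nat.card_eq_fintype_card, Fintype.card_coe, List.toFinset_card_of_nodup h]

theorem H9_card_cube : Nat.card {x : ↥H9 // x ^ 3 = 1} = 9 := by
  let f : {x : ↥H9 // x ^ 3 = 1} → {t // t ∈ (threeTabs.filter isCubeRoot).toFinset} := fun x =>
    ⟨tabOf x.1.1, List.mem_toFinset.mpr (List.mem_filter.mpr ⟨tabOf_mem _, (pow_three_iff _).mp x.2⟩)⟩
  have hf : Function.Bijective f := by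
    refine ⟨fun a b e => Subtype.ext (Subtype.ext (tabOf_injective (congrArg Subtype.val e))), fun t => ?_⟩
    obtain ⟨ht, hc⟩ := List.mem_filter.mp (List.mem_toFinset.mp t.2)
    obtain ⟨x, hx⟩ := H9_of_tab ht
    exact ⟨⟨x, (pow_three_iff x).mpr (hx ▸ hc)⟩, Subtype.ext hx⟩
  exact (Nat.card_eq_of_bijective f hf).trans
    ((card_toFinset_coe _ (three_checks.2.1.filter isCubeRoot)).trans three_checks.2.2.1)

theorem H9_quaternion : ∃ φ : QuaternionGroup 2 →* ↥H9, Function.Injective φ := by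
  obtain ⟨-, -, -, -, -, -, hmem, hmul, hinj⟩ := three_checks
  have hm : ∀ x : QuaternionGroup 2, ∃ g : ↥H9, tabOf g.1 = quatTab x := fun x => by
    cases x with
    | a i => exact H9_of_tab (hmem i).1
    | xa i => exact H9_of_tab (hmem i).2
  choose f hf using hm
  refine ⟨MonoidHom.mk' f fun x y => Subtype.ext (tabOf_injective ?_), fun x y e => ?_⟩
  · rw [hf, Subgroup.coe_mul, tabOf_mul, hf, hf]
    cases x with
    | a i => cases y with
      | a j => exact (hmul i j).1
      | xa j => exact (hmul i j).2.1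
    | xa i => cases y with
      | a j => exact (hmul i j).2.2.1
      | xa j => exact (hmul i j).2.2.2
  · have h : quatTab x = quatTab y := by rw [← hf, ← hf]; exact congrArg (fun g : ↥H9 => tabOf g.1) e
    cases x with
    | a i => cases y with
      | a j => rw [(hinj i j).1 h]
      | xa j => exact absurd h (hinj i j).2.2
    | xa i => cases y with
      | a j => exact absurd h.symm (hinj j i).2.2
      | xa j => rw [(hinj i j).2.1 h]

theorem three_point_sylow {d : Finset GolayPt} (hd : d ∈ dodecads) {p q r : GolayPt} (hp : p ∈ d) (hq : q ∈ d)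
    (hr : r ∈ d) (hpq : p ≠ q) (hpr : p ≠ r) (hqr : q ≠ r) :
    (∀ Q : Sylow 3 ↥(MulAction.stabilizer M24 d ⊓ MulAction.stabilizer M24 p ⊓ MulAction.stabilizer M24 q ⊓
        MulAction.stabilizer M24 r), Q.toSubgroup.Normal ∧ Nat.card ↥Q = 9 ∧ ∀ x ∈ Q.toSubgroup, x ^ 3 = 1) ∧
      ∀ P : Sylow 2 ↥(MulAction.stabilizer M24 d ⊓ MulAction.stabilizer M24 p ⊓ MulAction.stabilizer M24 q ⊓
        MulAction.stabilizer M24 r), Nonempty (↥P ≃* QuaternionGroup 2) := by
  obtain ⟨σ, hσ, hσd, hσp, hσq, hσr⟩ := exists_dodecad_three hd hp hq hr hpq hpr hqr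
  have hconj : ∀ g : ↥M24, g ∈ MulAction.stabilizer M24 d ⊓ MulAction.stabilizer M24 p ⊓
      MulAction.stabilizer M24 q ⊓ MulAction.stabilizer M24 r ↔ σ⁻¹ * (g : Equiv.Perm GolayPt) * σ ∈ H9 := by
    intro g
    have hg : σ⁻¹ * (g : Equiv.Perm GolayPt) * σ ∈ M24 := mul_mem (mul_mem (inv_mem hσ) g.2) hσ
    constructor
    · rintro ⟨⟨⟨a, b⟩, c⟩, e⟩
      exact ⟨⟨⟨⟨hg, (stab_conj_iff hσd).mpr a⟩, (stab_conj_iff (show σ • pt 0 = p from hσp)).mpr b⟩,
        (stab_conj_iff (show σ • pt cQd = q from hσq)).mpr c⟩, (stab_conj_iff (show σ • pt cRd = r from hσr)).mpr e⟩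
    · rintro ⟨⟨⟨⟨-, a⟩, b⟩, c⟩, e⟩
      exact ⟨⟨⟨(stab_conj_iff hσd).mp a, (stab_conj_iff (show σ • pt 0 = p from hσp)).mp b⟩,
        (stab_conj_iff (show σ • pt cQd = q from hσq)).mp c⟩, (stab_conj_iff (show σ • pt cRd = r from hσr)).mp e⟩
  let e := subConj hσ H9_le hconj
  obtain ⟨φ, hφ⟩ := H9_quaternion
  refine sylow_facts (by rw [Nat.card_congr e.toEquiv, card_H9]) (fun x y hx hy => e.injective ?_)
    (fun x hx => e.injective ?_) ?_ (e.symm.toMonoidHom.comp φ) (e.symm.injective.comp hφ)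
  · rw [map_pow, map_mul, map_one]
    exact H9_cube_mul _ _ (by rw [← map_pow, hx, map_one]) (by rw [← map_pow, hy, map_one])
  · rw [map_pow, map_one]
    exact H9_nine _ (by rw [← map_pow, hx, map_one])
  · rw [← H9_card_cube]
    refine Nat.card_congr (e.toEquiv.subtypeEquiv fun x => ?_)
    show x ^ 3 = 1 ↔ (e x) ^ 3 = 1
    rw [← map_pow, map_eq_one_iff e e.injective]

end CfsgLib.M24Classes
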