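import Cfsg.Agent.M24Classes.OrbitHelpers
import Cfsg.Agent.M24Classes.AtNothing

/-!
`Cfsg.M24` permutes the trios transitively.
-/

set_option autoImplicit false

namespace CfsgLib.M24Classes

open Cfsg CfsgLib.Mathieu
open scoped Pointwise

theorem nothing_checks : (cfgNothingTabs.all isM24Tab = true ∧
    (cfgNothingTabs.zip cfgNothingBytes).all (fun p => bytesOK p.1 p.2) = true ∧
    cfgNothingTabs.length = cfgNothingBytes.length ∧ cfgNothingTabs.all (fun t => fixesFam t []) = true) ∧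
    classOK cfgNothingBytes trioA 1048573 trioList (listInv []) cfgNothingTrioRep0 cfgNothingTrioTree0 0 3795 = true := by
  decide +kernel

theorem M24_trio_transitive {T T' : Finset (Finset GolayPt)} (hT : T ∈ trios) (hT' : T' ∈ trios) :
    ∃ g ∈ M24, g • T = T' := by
  obtain ⟨⟨h1, h2, h3, h4⟩, hc⟩ := nothing_checks
  obtain ⟨X, -, -, horb⟩ := orbit_class trioListed (famInvar id) (famInvar_smul trioListed)
    (famInvar_list trioListed (x := []) (by simp) List.nodup_nil)
    (gensOK_fam (x := []) (by simp) h1 h2 h3 h4) hc (σ := 1) (one_mem _) (one_smul _ _)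
  have mem : ∀ {T}, T ∈ trios → ∃ g ∈ M24, g • X = T := by
    intro T hT
    have : T ∈ MulAction.orbit ↥(MulAction.stabilizer M24 (famSet [])) X :=
      horb ▸ ⟨hT, by simp [famInvar, famInv, famSet]⟩
    obtain ⟨⟨⟨g, hg⟩, -⟩, rfl⟩ := this
    exact ⟨g, hg, rfl⟩
  obtain ⟨a, ha, rfl⟩ := mem hT
  obtain ⟨b, hb, rfl⟩ := mem hT'
  exact ⟨b * a⁻¹, mul_mem hb (inv_mem ha), by rw [mul_smul, inv_smul_smul]⟩

end CfsgLib.M24Classes
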