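import Cfsg.Agent.M24Classes.OrbitHelpers
import Cfsg.Agent.M24Classes.AtTriple
import Cfsg.Agent.M24Classes.AtTripleOrbits

/-!
Sextets relative to a set of three points, classified by the number of tetrads meeting it.
-/

set_option autoImplicit false

namespace CfsgLib.M24Classes

open Cfsg CfsgLib.Mathieu
open scoped Pointwise

/-- Number of members meeting a set. -/
def meetCount (b : Finset (Finset GolayPt)) (a : Finset GolayPt) : ℕ :=
  (b.filter fun t => (t ∩ a).Nonempty).card

theorem meetCount_smul : ∀ σ ∈ M24, ∀ b a, meetCount (σ • b) (σ • a) = meetCount b a := fun σ _ b a => by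
  have hinj : Function.Injective fun s : Finset GolayPt => σ • s := MulAction.injective σ
  have e : σ • b = b.image fun s => σ • s := rfl
  rw [meetCount, meetCount, e, Finset.filter_image, Finset.card_image_of_injective _ hinj]
  refine congrArg Finset.card (Finset.filter_congr fun t _ => ?_)
  rw [smul_set_eq_image, smul_set_eq_image, ← Finset.image_inter _ _ σ.injective, Finset.image_nonempty]

/-- `meetCount` on masks. -/
def listMeet (o : ℕ) (l : List ℕ) : ℕ := (l.filter fun M => !(M &&& o == 0)).length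

theorem meetCount_list {o : ℕ} (ho : o < 2 ^ 24) :
    ∀ l ∈ sextetData, ∀ b, id b = famSet l → meetCount b (setOf24 o) = listMeet o l := fun l hl b e => by
  obtain rfl : b = famSet l := e
  have hnd : (l.map setOf24).Nodup := (sextetData_entry_nodup l hl).map_on fun a ha c hc e =>
    setOf24_inj (sextetData_lt l hl a ha) (sextetData_lt l hl c hc) e
  have hiff : ∀ M : ℕ, (setOf24 M ∩ setOf24 o).Nonempty ↔ M &&& o ≠ 0 := fun M => by
    rw [← setOf24_and, Finset.nonempty_iff_ne_empty]
    refine not_congr ⟨fun h => ?_, fun h => by rw [h, setOf24_zero]⟩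
    exact setOf24_inj (Nat.lt_of_le_of_lt Nat.and_le_right ho) (Nat.two_pow_pos _) (by rw [h, setOf24_zero])
  have key : (famSet l).filter (fun t => (t ∩ setOf24 o).Nonempty) =
      ((l.filter fun M => !(M &&& o == 0)).map setOf24).toFinset := by
    ext s
    simp only [famSet, Finset.mem_filter, List.mem_toFinset, List.mem_map, List.mem_filter,
      Bool.not_eq_true', beq_eq_false_iff_ne]
    constructor
    · rintro ⟨⟨M, hM, rfl⟩, h⟩; exact ⟨M, ⟨hM, (hiff M).mp h⟩, rfl⟩
    · rintro ⟨M, ⟨hM, h⟩, rfl⟩; exact ⟨⟨M, hM, rfl⟩, (hiff M).mpr h⟩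
  rw [meetCount, key, List.toFinset_card_of_nodup (hnd.sublist (List.filter_sublist.map setOf24)),
    List.length_map, listMeet]

theorem triple_meet_checks :
    (classOK cfgTripleBytes sextA 262139 sextetData (listMeet (cfgTriple.headD 0)) cfgTripleSextetRep0 cfgTripleSextetTree0 1 21 = true ∧
     classOK cfgTripleBytes sextA 262139 sextetData (listMeet (cfgTriple.headD 0)) cfgTripleSextetRep1 cfgTripleSextetTree1 2 630 = true ∧
     classOK cfgTripleBytes sextA 262139 sextetData (listMeet (cfgTriple.headD 0)) cfgTripleSextetRep2 cfgTripleSextetTree2 3 1120 = true) ∧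
    sextetData.all (fun l => [1, 2, 3].contains (listMeet (cfgTriple.headD 0) l)) = true := by
  decide +kernel

theorem triple_classes {σ : Equiv.Perm GolayPt} (hσ : σ ∈ M24) {x : Finset GolayPt}
    (hx : σ • setOf24 (cfgTriple.headD 0) = x) :
    ∀ v n, (v = 1 ∧ n = 21) ∨ (v = 2 ∧ n = 630) ∨ (v = 3 ∧ n = 1120) →
      ∃ X ∈ sextets, (MulAction.orbit ↥(MulAction.stabilizer M24 x) X).ncard = n ∧
        MulAction.orbit ↥(MulAction.stabilizer M24 x) X = {b | b ∈ sextets ∧ meetCount b x = v} := by
  have hg := gensOK_set triple_gens.2.2.2.2 triple_gens.1 triple_gens.2.1 triple_gens.2.2.1 triple_gens.2.2.2.1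
  obtain ⟨⟨h1, h2, h3⟩, -⟩ := triple_meet_checks
  have hl := meetCount_list triple_gens.2.2.2.2
  rintro v n (⟨rfl, rfl⟩ | ⟨rfl, rfl⟩ | ⟨rfl, rfl⟩)
  · exact orbit_class sextetListed meetCount meetCount_smul hl hg h1 hσ hx
  · exact orbit_class sextetListed meetCount meetCount_smul hl hg h2 hσ hx
  · exact orbit_class sextetListed meetCount meetCount_smul hl hg h3 hσ hx

theorem triple_meet_cases {σ : Equiv.Perm GolayPt} (hσ : σ ∈ M24) {x : Finset GolayPt}
    (hx : σ • setOf24 (cfgTriple.headD 0) = x) : ∀ b ∈ sextets, meetCount b x ∈ [1, 2, 3] :=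
  class_cover sextetListed meetCount meetCount_smul (meetCount_list triple_gens.2.2.2.2)
    triple_meet_checks.2 hσ hx

end CfsgLib.M24Classes
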